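import Mathlib

/-!
# Groups without elements of order 9, 14 or 21
-/

set_option autoImplicit false
set_option linter.style.haveILetI false

namespace Cfsg.Agent.Char.GTwoSpectrum

variable {G : Type*} [Group G]

/-- No element has order 9, 14 or 21. -/
def Gap (G : Type*) [Group G] : Prop :=
  ∀ g : G, orderOf g ≠ 9 ∧ orderOf g ≠ 14 ∧ orderOf g ≠ 21

theorem Gap.of_injective {H : Type*} [Group H] (h : Gap G) (f : H →* G)
    (hf : Function.Injective f) : Gap H := fun g => by
  rw [← orderOf_injective f hf g]; exact h _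

theorem Gap.subgroup (h : Gap G) (H : Subgroup G) : Gap H :=
  h.of_injective H.subtype H.subtype_injective

/-- An element of order seven commutes with no element of order two or three. -/
theorem Gap.not_commute (h : Gap G) {x y : G} (hy : orderOf y = 7)
    (hx : orderOf x = 2 ∨ orderOf x = 3) : ¬ Commute x y := by
  intro hc
  rcases hx with hx | hx
  · exact (h (x * y)).2.1 (by
      rw [hc.orderOf_mul_eq_mul_orderOf_of_coprime (by rw [hx, hy]; norm_num), hx, hy])
  · exact (h (x * y)).2.2 (by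
      rw [hc.orderOf_mul_eq_mul_orderOf_of_coprime (by rw [hx, hy]; norm_num), hx, hy])

theorem card_factors {n : ℕ} (h : n ∣ 12096) {q : ℕ} (hq : q.Prime) (hd : q ∣ n) :
    q = 2 ∨ q = 3 ∨ q = 7 := by
  have h1 : q ∣ 2 ^ 6 * (3 ^ 3 * 7) := hd.trans (h.trans (by norm_num))
  rcases (hq.dvd_mul).mp h1 with h2 | h2
  · exact Or.inl ((Nat.prime_dvd_prime_iff_eq hq Nat.prime_two).mp (hq.dvd_of_dvd_pow h2))
  rcases (hq.dvd_mul).mp h2 with h3 | h3
  · exact Or.inr (Or.inl ((Nat.prime_dvd_prime_iff_eq hq Nat.prime_three).mp (hq.dvd_of_dvd_pow h3)))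
  · exact Or.inr (Or.inr ((Nat.prime_dvd_prime_iff_eq hq (by norm_num)).mp h3))

/-- The centraliser of an element of order seven is the group it generates. -/
theorem Gap.centralizer_seven [Finite G] (h : Gap G) (hcard : Nat.card G ∣ 12096) {y : G}
    (hy : orderOf y = 7) : Subgroup.centralizer ({y} : Set G) = Subgroup.zpowers y := by
  symm
  have hle : Subgroup.zpowers y ≤ Subgroup.centralizer ({y} : Set G) := by
    rw [Subgroup.zpowers_le]
    exact Subgroup.mem_centralizer_singleton_iff.mpr rfl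
  refine Subgroup.eq_of_le_of_card_ge hle ?_
  rw [Nat.card_zpowers, hy]
  set C := Subgroup.centralizer ({y} : Set G)
  have hC : Nat.card C ∣ 12096 := (Subgroup.card_subgroup_dvd_card C).trans hcard
  have hno : ∀ q : ℕ, q = 2 ∨ q = 3 → ¬ q ∣ Nat.card C := fun q hq hd => by
    haveI : Fact q.Prime := ⟨by rcases hq with rfl | rfl <;> norm_num⟩
    obtain ⟨x, hx⟩ := exists_prime_orderOf_dvd_card' q hd
    exact h.not_commute hy (x := (x : G)) (by rw [Subgroup.orderOf_coe, hx]; exact hq)
      (Subgroup.mem_centralizer_singleton_iff.mp x.2)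
  have h7 : Nat.card C ∣ 7 := by
    refine Nat.Coprime.dvd_of_dvd_mul_left (k := Nat.card C) (m := 1728) ?_ hC
    refine Nat.coprime_of_dvd fun q hq hd hq' => ?_
    rcases card_factors hC hq hd with e | e | e
    · exact hno q (Or.inl e) hd
    · exact hno q (Or.inr e) hd
    · subst e; norm_num at hq'
  exact Nat.le_of_dvd (by norm_num) h7

/-- An element of order seven normalises no nontrivial subgroup of odd order prime to seven. -/
theorem Gap.not_normalize_three [Finite G] (h : Gap G) {y : G} (hy : orderOf y = 7)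
    (Q : Subgroup G) (hQ : Nat.card Q ∣ 27) (hQ1 : Nat.card Q ≠ 1)
    (hn : y ∈ Subgroup.normalizer (Q : Set G)) : False := by
  classical
  haveI : Fact (Nat.Prime 7) := ⟨by norm_num⟩
  haveI := Fintype.ofFinite Q
  have hy7 : y ^ 7 = 1 := by rw [← hy, pow_orderOf_eq_one]
  let f : Function.End Q := fun x => ⟨y * x * y⁻¹, (Subgroup.mem_normalizer_iff.mp hn x).mp x.2⟩
  have hf : ∀ (k : ℕ) (x : Q), (((f ^ k : Function.End Q) x : Q) : G) = y ^ k * x * (y ^ k)⁻¹ := by
    intro k
    induction k with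
    | zero => intro x; show (x : G) = _; simp
    | succ k ih =>
      intro x
      rw [pow_succ', show (f * f ^ k : Function.End Q) x = f ((f ^ k : Function.End Q) x) from rfl]
      show y * _ * y⁻¹ = _
      rw [ih, pow_succ', mul_inv_rev]
      group
  have hf7 : f ^ 7 ^ 1 = 1 := funext fun x => Subtype.ext (by
    rw [hf, pow_one, hy7]; show _ = (x : G); simp)
  have hmod := Equiv.Perm.card_fixedPoints_modEq hf7
  have hone : Fintype.card (Function.fixedPoints f) = 1 := by
    rw [Fintype.card_eq_one_iff]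
    have h1 : (1 : Q) ∈ Function.fixedPoints f := Subtype.ext (by
      show y * ((1 : Q) : G) * y⁻¹ = ((1 : Q) : G); simp)
    refine ⟨⟨1, h1⟩, fun x => Subtype.ext (by_contra fun hx => ?_)⟩
    have hx' : (((x : Q) : G)) ≠ 1 := fun e => hx (Subtype.ext e)
    have hc : Commute y ((x : Q) : G) := mul_inv_eq_iff_eq_mul.mp (congrArg Subtype.val x.2)
    have hd : orderOf ((x : Q) : G) ∣ 27 := (Subgroup.orderOf_dvd_natCard Q (x : Q).2).trans hQ
    obtain ⟨i, hi, hi'⟩ := (Nat.dvd_prime_pow Nat.prime_three).mp (show _ ∣ 3 ^ 3 from hd)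
    have hi0 : i ≠ 0 := fun e => hx' (orderOf_eq_one_iff.mp (by rw [hi', e, pow_zero]))
    refine h.not_commute hy (x := ((x : Q) : G) ^ 3 ^ (i - 1)) (Or.inr ?_) (hc.symm.pow_left _)
    obtain ⟨j, rfl⟩ : ∃ j, i = j + 1 := ⟨i - 1, by omega⟩
    rw [add_tsub_cancel_right, orderOf_pow_of_dvd (pow_ne_zero _ (by norm_num))
      (hi' ▸ pow_dvd_pow 3 j.le_succ), hi', pow_succ, Nat.mul_div_cancel_left _ (by positivity)]
  rw [hone, ← Nat.card_eq_fintype_card] at hmod
  obtain ⟨k, hk, hk'⟩ := (Nat.dvd_prime_pow Nat.prime_three).mp (show _ ∣ 3 ^ 3 from hQ)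
  rw [hk'] at hmod hQ1
  interval_cases k <;> first | exact hQ1 rfl | exact absurd hmod (by decide)

/-- In a group with an element of order seven a normal subgroup of order prime to seven has order
prime to three. -/
theorem Gap.not_three [Finite G] (h : Gap G) (hcard : Nat.card G ∣ 12096) (R : Subgroup G)
    [R.Normal] (h7 : 7 ∣ Nat.card G) (hR : ¬ 7 ∣ Nat.card R) : ¬ 3 ∣ Nat.card R := by
  intro h3
  haveI : Fact (Nat.Prime 3) := ⟨Nat.prime_three⟩
  haveI : Fact (Nat.Prime 7) := ⟨by norm_num⟩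
  obtain ⟨S⟩ := (inferInstance : Nonempty (Sylow 3 R))
  set Q := (S : Subgroup R).map R.subtype with hQ
  set N := Subgroup.normalizer (Q : Set G) with hN
  have hsup : N ⊔ R = ⊤ := Sylow.normalizer_sup_eq_top S
  have hdvd : Nat.card (G ⧸ R) ∣ Nat.card N := by
    refine Subgroup.card_dvd_of_surjective ((QuotientGroup.mk' R).comp N.subtype) fun x => ?_
    obtain ⟨g, rfl⟩ := QuotientGroup.mk'_surjective R x
    have hg : g ∈ (↑(N ⊔ R) : Set G) := by rw [hsup]; trivial
    rw [Subgroup.mul_normal] at hg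
    obtain ⟨a, ha, b, hb, rfl⟩ := Set.mem_mul.mp hg
    refine ⟨⟨a, ha⟩, ?_⟩
    show QuotientGroup.mk' R a = QuotientGroup.mk' R (a * b)
    rw [map_mul, (QuotientGroup.eq_one_iff b).mpr hb |> fun e => show QuotientGroup.mk' R b = 1 from e,
      mul_one]
  have h7N : 7 ∣ Nat.card N := by
    refine dvd_trans ?_ hdvd
    have := Subgroup.card_eq_card_quotient_mul_card_subgroup R
    exact ((Nat.Prime.dvd_mul (by norm_num)).mp (this ▸ h7)).resolve_right hR
  obtain ⟨y, hy⟩ := exists_prime_orderOf_dvd_card' 7 h7N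
  have hQc : Nat.card Q = Nat.card (S : Subgroup R) :=
    (Nat.card_congr ((S : Subgroup R).equivMapOfInjective _ R.subtype_injective).toEquiv).symm
  refine h.not_normalize_three (y := (y : G)) (by rw [Subgroup.orderOf_coe, hy]) Q ?_ ?_ y.2
  · obtain ⟨k, hk⟩ := S.isPGroup'.exists_card_eq
    have h12 : (3 : ℕ) ^ k ∣ 12096 := by
      rw [← hk, ← hQc]; exact (Subgroup.card_subgroup_dvd_card Q).trans hcard
    rw [hQc, hk]
    have h4 : (3 : ℕ) ^ k ∣ 27 * 448 := h12
    exact (Nat.Coprime.pow_left k (by norm_num : Nat.Coprime 3 448)).dvd_of_dvd_mul_right h4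
  · rw [hQc]
    intro e
    exact absurd (Nat.le_of_dvd Nat.one_pos (e ▸ S.dvd_card_of_dvd_card h3)) (by norm_num)

end Cfsg.Agent.Char.GTwoSpectrum
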