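import Cfsg.Agent.Lib.Char.GTwoSpectrum.Basic
import Cfsg.Agent.Lib.Char.PrimeSylowPrincipal
import Cfsg.Agent.Lib.Small.InvolutionSearch

/-!
# The characters which do not vanish at an element of order seven
-/

set_option autoImplicit false
set_option linter.style.haveILetI false

namespace Cfsg.Agent.Char.GTwoSpectrum

open Cfsg Cfsg.Agent.Char Cfsg.Agent.Small.Order459648
open scoped ComplexConjugate

universe u

variable {G : Type u} [Group G] [Fintype G]

/-- The characters not vanishing at `y`: those in `B` with their signs, and those in `Y`, which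
agree with `θ` off the 7-singular elements. -/
structure SevenBlock (y : G) (e : ℕ) (B Y : Finset (IrrCharacter G)) (ε : IrrCharacter G → ℤ)
    (θ : IrrCharacter G) : Prop where
  cardB : B.card = e + 1
  cardY : Y.card = 6 / e
  one_mem : oneChar ∈ B
  one_eps : ε oneChar = 1
  theta_mem : θ ∈ B
  theta_Y : θ ∈ Y
  inter : ∀ χ ∈ B, χ ∈ Y → χ = θ
  sign : ∀ χ ∈ B, ε χ = 1 ∨ ε χ = -1
  congr : ∀ χ ∈ B, χ ≠ θ → (7 : ℤ) ∣ ε χ * (deg (χ : G → ℂ) : ℤ) - 1
  congr_theta : (7 : ℤ) ∣ ε θ * (deg (θ : G → ℂ) : ℤ) + e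
  val : ∀ χ ∈ B, χ ≠ θ → (χ : G → ℂ) y = (ε χ : ℂ)
  regY : ∀ ψ ∈ Y, ∀ g : G, ¬ 7 ∣ orderOf g → (ψ : G → ℂ) g = (θ : G → ℂ) g
  rel : ∀ g : G, ¬ 7 ∣ orderOf g → ∑ χ ∈ B, (ε χ : ℂ) * (χ : G → ℂ) g = 0
  vanish : ∀ χ : IrrCharacter G, χ ∉ B → χ ∉ Y → (χ : G → ℂ) y = 0
  total : ∀ φ : IrrCharacter G → ℂ, (∀ ψ ∈ Y, φ ψ = φ θ) →
    ∑ χ : IrrCharacter G, φ χ * (χ : G → ℂ) y = ∑ χ ∈ B, (ε χ : ℂ) * φ χ

theorem exists_sevenBlock [IsSimpleGroup G] (h : Gap G) (hd : Nat.card G ∣ 12096)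
    (h7 : 7 ∣ Nat.card G) (hlt : 7 < Nat.card G) :
    ∃ (y : G) (e : ℕ) (B Y : Finset (IrrCharacter G)) (ε : IrrCharacter G → ℤ)
      (θ : IrrCharacter G), orderOf y = 7 ∧ e ∣ 6 ∧ e ≠ 1 ∧
        Nat.card (Subgroup.normalizer ((Subgroup.zpowers y : Subgroup G) : Set G)) = 7 * e ∧
        SevenBlock y e B Y ε θ := by
  classical
  haveI : Fact (Nat.Prime 7) := ⟨by norm_num⟩
  have hp : Nat.Prime 7 := by norm_num
  obtain ⟨M, hM⟩ := exists_pModular hp
  obtain ⟨y, hy⟩ := exists_prime_orderOf_dvd_card' 7 h7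
  obtain ⟨P, hyP⟩ := (IsPGroup.of_card (n := 1) (by rw [Nat.card_zpowers, hy, pow_one]) :
    IsPGroup 7 (Subgroup.zpowers y)).exists_le_sylow
  have hzp : Subgroup.zpowers y = (P : Subgroup G) := by
    refine Subgroup.eq_of_le_of_card_ge hyP ?_
    obtain ⟨k, hk⟩ := P.isPGroup'.exists_card_eq
    rw [Nat.card_zpowers, hy, hk]
    have hk1 : k ≤ 1 := by
      by_contra hk2
      exact absurd ((pow_dvd_pow 7 (by omega : 2 ≤ k)).trans
        ((hk ▸ Subgroup.card_subgroup_dvd_card (P : Subgroup G)).trans hd)) (by norm_num)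
    exact (Nat.pow_le_pow_right (by norm_num) hk1).trans (by norm_num)
  have hP : Nat.card P = 7 := by
    show Nat.card (P : Subgroup G) = 7
    rw [← hzp, Nat.card_zpowers, hy]
  have hy1 : y ≠ 1 := fun e => by rw [e, orderOf_one] at hy; norm_num at hy
  have hCy : Subgroup.centralizer ({y} : Set G) = (P : Subgroup G) := by
    rw [h.centralizer_seven hd hy, hzp]
  have hC : Subgroup.centralizer ((P : Subgroup G) : Set G) = (P : Subgroup G) := by
    rw [← hzp, centralizer_zpowers_eq, hCy, hzp]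
  obtain ⟨e, he⟩ : ∃ e, (Subgroup.centralizer ((P : Subgroup G) : Set G)).relIndex
      (Subgroup.normalizer ((P : Subgroup G) : Set G)) = e := ⟨_, rfl⟩
  have hnorm : Nat.card (Subgroup.normalizer ((P : Subgroup G) : Set G)) = 7 * e := by
    rw [← he, hC, Subgroup.relIndex]
    have h1 := Subgroup.card_mul_index
      ((P : Subgroup G).subgroupOf (Subgroup.normalizer ((P : Subgroup G) : Set G)))
    rw [Nat.card_congr (Subgroup.subgroupOfEquivOfLe (Subgroup.le_normalizer (H := (P : Subgroup G)))).toEquiv,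
      show Nat.card ↥(P : Subgroup G) = 7 from hP] at h1
    exact h1.symm
  have he6 : e ∣ 6 := by
    rw [← he, Subgroup.relIndex, ← Subgroup.normalizerMonoidHom_ker, Subgroup.index_ker]
    refine (Subgroup.card_subgroup_dvd_card _).trans ?_
    haveI : IsCyclic ↥(P : Subgroup G) := isCyclic_of_prime_card hP
    rw [IsCyclic.card_mulAut, show Nat.card ↥(P : Subgroup G) = 7 from hP]
    rfl
  have he0 : 0 < e := Nat.pos_of_dvd_of_pos he6 (by norm_num)
  have he1 : e ≠ 1 := fun e1 => by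
    refine Small.SmallOrders.false_of_central P ?_ ?_ (Subgroup.relIndex_eq_one.mp (by rw [he, e1]))
    · rw [hP]; norm_num
    · rw [hP]; exact hlt
  obtain ⟨X, Y, a, δ, hX⟩ := exists_prime_principal hM hP he
  have hfrob : FrobSylow P e := he ▸ frobSylow_of_prime hP
  have hymem : y ∈ (P : Subgroup G) := hzp ▸ Subgroup.mem_zpowers y
  have hyn : (⟨y, hymem⟩ : ↥(P : Subgroup G)) ∈ nonOne P := mem_nonOne.mpr hy1
  have hval : ∀ χ : IrrCharacter G, (χ : G → ℂ) 1 = (deg (χ : G → ℂ) : ℂ) :=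
    fun χ => char_one_eq_deg (irr_isCharacter χ.2)
  have hna : ¬ IsMulCommutative G := Small.SmallOrders.not_comm_of_card fun hp' => by
    rcases hp'.eq_one_or_self_of_dvd 7 h7 with e' | e' <;> omega
  have hvan : ∀ χ : IrrCharacter G, χ ∉ X → χ ∉ Y → (χ : G → ℂ) y = 0 := by
    intro χ hχX hχY
    have hχ : χ ∉ principalBlock M G := fun h' => by
      rcases (hX.mem_iff χ).mp h' with h'' | h''
      · exact hχX h''
      · exact hχY h''
    have h0 := hfrob.nonprincipal_sum_zero hM hχ (y := ⟨y, hymem⟩) hy1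
    rw [Finset.sum_eq_single (1 : Subgroup.centralizer ({y} : Set G))] at h0
    · simpa using h0
    · intro v hv hv1
      exfalso
      have hvP : (v : G) ∈ (P : Subgroup G) := (SetLike.ext_iff.mp hCy _).mp v.2
      have h2 := (P : Subgroup G).orderOf_dvd_natCard hvP
      rw [show Nat.card (P : Subgroup G) = 7 from hP] at h2
      have h3 : orderOf (v : G) = 7 :=
        ((Nat.dvd_prime hp).mp h2).resolve_left
          fun h4 => hv1 (Subtype.ext (orderOf_eq_one_iff.mp h4))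
      rw [Subgroup.orderOf_coe] at h3
      exact (Finset.mem_filter.mp hv).2 (dvd_of_eq h3.symm)
    · intro h1
      exact absurd (Finset.mem_filter.mpr ⟨Finset.mem_univ _, by simp⟩) h1
  have hcardY : Y.card = 6 / e := by rw [hX.cardY]
  obtain ⟨θ₀, hθ₀⟩ : Y.Nonempty := by
    rw [← Finset.card_pos, hcardY]
    exact Nat.div_pos (Nat.le_of_dvd (by norm_num) he6) he0
  have hmem : (oneChar : IrrCharacter G) ∈ principalBlock M G :=
    sameBlock_refl (pmod_prime hM) (fun _ : G => (1 : ℂ))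
  obtain ⟨θ, hθ, hor⟩ : ∃ θ ∈ Y, oneChar ∈ X ∨ θ = oneChar := by
    rcases (hX.mem_iff _).mp hmem with h' | h'
    · exact ⟨θ₀, hθ₀, Or.inl h'⟩
    · exact ⟨_, h', Or.inr rfl⟩
  have hθX : θ ∉ X := fun h' => Finset.disjoint_left.mp hX.disj h' hθ
  have h71 : ¬ 7 ∣ orderOf (1 : G) := by rw [orderOf_one]; norm_num
  have hdegY : ∀ ψ ∈ Y, (ψ : G → ℂ) 1 = (θ : G → ℂ) 1 := fun ψ hψ =>
    hX.regY ψ hψ θ hθ 1 h71
  have hS : ∑ ψ ∈ Y, (ψ : G → ℂ) y = -(δ : ℂ) := by
    have h0 := second_orth y (1 : G)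
    rw [if_neg fun hc' => hy1 (isConj_one_left.mp hc')] at h0
    rw [← Finset.sum_subset (Finset.subset_univ (X ∪ Y)) fun χ _ hχ => by
        rw [Finset.mem_union, not_or] at hχ
        rw [hvan χ hχ.1 hχ.2, zero_mul],
      Finset.sum_union hX.disj] at h0
    have hY' : ∑ ψ ∈ Y, (ψ : G → ℂ) y * conj ((ψ : G → ℂ) 1) =
        (∑ ψ ∈ Y, (ψ : G → ℂ) y) * (θ : G → ℂ) 1 := by
      rw [Finset.sum_mul]
      refine Finset.sum_congr rfl fun ψ hψ => ?_
      rw [conj_char_one (irr_isCharacter ψ.2), hdegY ψ hψ]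
    have hX' : ∑ χ ∈ X, (χ : G → ℂ) y * conj ((χ : G → ℂ) 1) =
        ∑ χ ∈ X, (a χ : ℂ) * (χ : G → ℂ) 1 :=
      Finset.sum_congr rfl fun χ hχ => by
        rw [conj_char_one (irr_isCharacter χ.2)]
        exact congrArg (· * _) (hX.a_val χ hχ ⟨y, hymem⟩ hyn)
    rw [hY', hX', ← hX.rel θ hθ 1 h71, ← add_mul, mul_eq_zero,
      or_iff_left (irr_one_ne_zero θ.2)] at h0
    linear_combination h0
  set ε : IrrCharacter G → ℤ := fun χ => if χ ∈ X then a χ else -δ with hε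
  have hεX : ∀ χ ∈ X, ε χ = a χ := fun χ hχ => by simp [hε, hχ]
  have hεθ : ε θ = -δ := by simp [hε, hθX]
  have hsplit : ∀ φ : IrrCharacter G → ℂ, ∑ χ ∈ insert θ X, (ε χ : ℂ) * φ χ =
      (∑ χ ∈ X, (a χ : ℂ) * φ χ) - (δ : ℂ) * φ θ := by
    intro φ
    rw [Finset.sum_insert hθX, hεθ, Finset.sum_congr rfl fun χ hχ => by rw [hεX χ hχ]]
    push_cast
    ring
  have hXe : ∀ χ ∈ insert θ X, χ ≠ θ → χ ∈ X :=
    fun χ hχ hne => (Finset.mem_insert.mp hχ).resolve_left hne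
  have hBone : oneChar ∈ insert θ X :=
    hor.elim (fun h' => Finset.mem_insert_of_mem h') fun h' => h' ▸ Finset.mem_insert_self _ _
  refine ⟨y, e, insert θ X, Y, ε, θ, hy, he6, he1, by rw [hzp]; exact hnorm,
    ⟨by rw [Finset.card_insert_of_notMem hθX, hX.cardX], hcardY, hBone, ?_,
      Finset.mem_insert_self _ _, hθ, ?_, ?_, ?_, ?_, ?_, fun ψ hψ g hg => hX.regY ψ hψ θ hθ g hg,
      ?_, ?_, ?_⟩⟩
  · simp only [hε]
    split_ifs with h1X
    · have h3 := hX.a_congr _ h1X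
      rw [charDegree_oneChar] at h3
      rcases hX.a_sign _ h1X with e1 | e1
      · exact e1
      · exfalso
        rw [e1] at h3
        have h4 := Int.modEq_iff_dvd.mp h3
        norm_num at h4
    · obtain rfl := hor.resolve_left h1X
      have h3 := hX.congrY _ hθ
      rw [charDegree_oneChar] at h3
      rcases hX.sign with e1 | e1
      · exfalso
        rw [e1] at h3
        have h4 := Int.modEq_iff_dvd.mp h3
        have : e ≤ 6 := Nat.le_of_dvd (by norm_num) he6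
        interval_cases e <;> simp_all
      · rw [e1]; norm_num
  · intro χ hχ hY
    by_contra hne
    exact Finset.disjoint_left.mp hX.disj (hXe χ hχ hne) hY
  · intro χ hχ
    rcases Finset.mem_insert.mp hχ with rfl | hχ'
    · rw [hεθ]; rcases hX.sign with e1 | e1 <;> simp [e1]
    · rw [hεX χ hχ']; exact hX.a_sign χ hχ'
  · intro χ hχ hne
    have hχ' := hXe χ hχ hne
    rw [hεX χ hχ']
    have h2 := (hX.a_congr χ hχ').mul_left (a χ)
    rw [show a χ * a χ = 1 by rcases hX.a_sign χ hχ' with e1 | e1 <;> simp [e1]] at h2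
    exact_mod_cast Int.modEq_iff_dvd.mp h2.symm
  · rw [hεθ]
    have h2 := (hX.congrY θ hθ).mul_left (-δ)
    rw [show -δ * (δ * (e : ℤ)) = -(e : ℤ) by
      rcases hX.sign with e1 | e1 <;> simp [e1]] at h2
    have h4 := Int.modEq_iff_dvd.mp h2.symm
    rw [sub_neg_eq_add] at h4
    exact_mod_cast h4
  · intro χ hχ hne
    rw [hεX χ (hXe χ hχ hne)]
    exact hX.a_val χ (hXe χ hχ hne) ⟨y, hymem⟩ hyn
  · intro g hg
    rw [hsplit, hX.rel θ hθ g hg, sub_self]
  · intro χ hχ hY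
    exact hvan χ (fun h' => hχ (Finset.mem_insert_of_mem h')) hY
  · intro φ hφ
    rw [← Finset.sum_subset (Finset.subset_univ (X ∪ Y)) fun χ _ hχ => by
        rw [Finset.mem_union, not_or] at hχ
        rw [hvan χ hχ.1 hχ.2, mul_zero],
      Finset.sum_union hX.disj, Finset.sum_congr rfl (s₁ := Y) fun ψ hψ => by rw [hφ ψ hψ],
      ← Finset.mul_sum, hS, hsplit,
      Finset.sum_congr rfl (s₁ := X) (g := fun χ => (a χ : ℂ) * φ χ) fun χ hχ => by
        rw [mul_comm]; exact congrArg (· * _) (hX.a_val χ hχ ⟨y, hymem⟩ hyn)]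
    ring

end Cfsg.Agent.Char.GTwoSpectrum
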