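import Cfsg.Agent.Lib.Char.GTwoSpectrum.SearchRun

/-!
# Soundness of the search
-/

set_option autoImplicit false

namespace Cfsg.Agent.Char.GTwoSpectrum.Search

theorem get_or (a b x : ℕ) : get (a ||| b) x = get a x ||| get b x := by
  rw [get, get, get, Nat.shiftRight_or_distrib]
  exact Nat.or_mod_two_pow (n := 5) ..

theorem get_shift {v : ℕ} (hv : v < 32) (i x : ℕ) : get (v <<< (5 * i)) x = if x = i then v else 0 := by
  rcases lt_trichotomy x i with h | rfl | h
  · rw [if_neg h.ne, get, Nat.shiftLeft_eq, Nat.shiftRight_eq_div_pow,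
      show 5 * i = 5 * (i - x - 1) + 5 + 5 * x by omega, pow_add, pow_add, ← mul_assoc,
      Nat.mul_div_cancel _ (pow_pos (by norm_num) _), show (2 : ℕ) ^ 5 = 32 by norm_num, ← mul_assoc,
      Nat.mul_mod_left]
  · rw [if_pos rfl, get, Nat.shiftLeft_eq, Nat.shiftRight_eq_div_pow,
      Nat.mul_div_cancel _ (pow_pos (by norm_num) _), Nat.mod_eq_of_lt hv]
  · rw [if_neg h.ne', get, Nat.shiftLeft_eq, Nat.shiftRight_eq_div_pow,
      show 5 * x = 5 * (x - i - 1) + 5 + 5 * i by omega, pow_add,
      Nat.mul_div_mul_right _ _ (pow_pos (by norm_num) _), Nat.div_eq_of_lt ?_]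
    refine hv.trans_le ?_
    rw [pow_add, show (2 : ℕ) ^ 5 = 32 by norm_num]
    exact Nat.le_mul_of_pos_left _ (pow_pos (by norm_num) _)

theorem get_codeN {f : ℕ → ℕ} (hf : ∀ x, x < 28 → f x < 32) :
    ∀ m, m ≤ 28 → ∀ x, get (codeN f m) x = if x < m then f x else 0
  | 0, _, x => by simp [codeN, get]
  | m + 1, hm, x => by
    rw [codeN, get_or, get_codeN hf m (by omega) x, get_shift (hf m (by omega))]
    rcases lt_trichotomy x m with h | rfl | h
    · rw [if_pos h, if_neg h.ne, if_pos (by omega), Nat.or_zero]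
    · rw [if_neg (lt_irrefl _), if_pos rfl, if_pos (by omega), Nat.zero_or]
    · rw [if_neg (by omega), if_neg h.ne', if_neg (by omega), Nat.or_zero]

theorem get_code {f : ℕ → ℕ} (hf : ∀ x, x < 28 → f x < 32) {x : ℕ} (hx : x < 28) :
    get (code f) x = f x := by
  rw [code, get_codeN hf 28 le_rfl x, if_pos hx]

theorem get_lt (n x : ℕ) : get n x < 32 := Nat.mod_lt _ (by norm_num)

theorem codeN_congr {f g : ℕ → ℕ} : ∀ m, (∀ x, x < m → f x = g x) → codeN f m = codeN g m
  | 0, _ => rfl
  | m + 1, h => by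
    rw [codeN, codeN, codeN_congr m fun x hx => h x (by omega), h m (by omega)]

theorem code_congr {f g : ℕ → ℕ} (h : ∀ x, x < 28 → f x = g x) : code f = code g := codeN_congr 28 h

theorem ev_cons (ims : List ℕ) (i : ℕ) (wd : List ℕ) :
    ev ims (i :: wd) = code fun x => get (ims.getD i 0) (get (ev ims wd) x) := by
  simp [ev, force_eq]

theorem ev_code (ims : List ℕ) : ∀ wd : List ℕ, ∃ f : ℕ → ℕ, (∀ x, f x < 32) ∧ ev ims wd = code f
  | [] => ⟨fun x => if x < 28 then x else 0, fun x => by dsimp only; split_ifs <;> omega,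
      code_congr fun x hx => by simp [hx]⟩
  | i :: wd => ⟨fun x => get (ims.getD i 0) (get (ev ims wd) x), fun x => get_lt _ _, ev_cons ims i wd⟩

theorem ev_ext {ims ims' : List ℕ} {wd wd' : List ℕ}
    (h : ∀ x, x < 28 → get (ev ims wd) x = get (ev ims' wd') x) : ev ims wd = ev ims' wd' := by
  obtain ⟨f, hf, e⟩ := ev_code ims wd
  obtain ⟨g, hg, e'⟩ := ev_code ims' wd'
  rw [e, e'] at h ⊢
  refine code_congr fun x hx => ?_
  have := h x hx
  rwa [get_code (fun x _ => hf x) hx, get_code (fun x _ => hg x) hx] at this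

theorem mem_tuples (l : List ℕ) : ∀ t : List ℕ, (∀ a ∈ t, a ∈ l) → t ∈ tuples l t.length
  | [], _ => by simp [tuples]
  | a :: t, h => by
    simp only [List.length_cons, tuples, List.mem_flatMap, List.mem_map]
    exact ⟨a, h a (by simp), t, mem_tuples l t fun b hb => h b (by simp [hb]), rfl⟩

/-- Agreement of a partial table with a function. -/
def Agree (w : ℕ → ℕ) (n : ℕ) : Prop := ∀ x, x < 28 → get n x ≠ 0 → get n x = w x + 1

theorem ins_agree {w : ℕ → ℕ} {n x y : ℕ} (hn : Agree w n) (hx : x < 28) (hy : y < 28) (hw : w x = y) :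
    ∃ n', ins n x y = some n' ∧ Agree w n' := by
  by_cases h0 : get n x = 0
  · refine ⟨n ||| ((y + 1) <<< (5 * x)), by simp [ins, h0, force_eq], fun z hz hne => ?_⟩
    rw [get_or, get_shift (by omega)] at hne ⊢
    split_ifs with hzx
    · subst hzx
      rw [h0, Nat.zero_or, hw]
    · rw [if_neg hzx, Nat.or_zero] at hne
      rw [Nat.or_zero]
      exact hn z hz hne
  · have h1 := hn x hx h0
    rw [hw] at h1
    exact ⟨n, by simp [ins, h0, h1], hn⟩

theorem insAll_agree {w : ℕ → ℕ} : ∀ (l : List (ℕ × ℕ)) (n : ℕ), Agree w n →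
    (∀ p ∈ l, p.1 < 28 ∧ p.2 < 28 ∧ w p.1 = p.2) → ∃ n', insAll l n = some n' ∧ Agree w n'
  | [], n, hn, _ => ⟨n, rfl, hn⟩
  | p :: l, n, hn, hl => by
    obtain ⟨h1, h2, h3⟩ := hl p (by simp)
    obtain ⟨n', e, hn'⟩ := ins_agree hn h1 h2 h3
    obtain ⟨n'', e', hn''⟩ := insAll_agree l n' hn' fun q hq => hl q (by simp [hq])
    exact ⟨n'', by simp [insAll, e, e'], hn''⟩

theorem dfs_sound {w : ℕ → ℕ} {KA : List (ℕ × ℕ)} {lf : ℕ → Bool} (hw : ∀ x, x < 28 → w x < 28)
    (hKA : ∀ p ∈ KA, ∀ x, x < 28 → get p.1 x < 28 ∧ get p.2 x < 28 ∧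
      w (get p.1 x) = get p.2 (w x) ∧ w (get p.2 (w x)) = get p.1 x) :
    ∀ (m n : ℕ), Agree w n → dfs KA lf m n = true →
      ∃ n', (∀ x, x < 28 → get n' x = w x + 1) ∧ lf n' = true
  | 0, n, _, h => by simp [dfs] at h
  | m + 1, n, hn, h => by
    rw [dfs] at h
    split at h
    · next hnone =>
      refine ⟨n, fun x hx => hn x hx fun h0 => ?_, h⟩
      have := List.find?_eq_none.mp hnone x (List.mem_range.mpr hx)
      simp [h0] at this
    · next i hi =>
      have hi28 : i < 28 := List.mem_range.mp (List.mem_of_find?_eq_some hi)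
      have h1 := List.all_eq_true.mp h (w i) (List.mem_range.mpr (hw i hi28))
      obtain ⟨n', e, hn'⟩ := insAll_agree (w := w) (orb KA i (w i)) n hn (by
        intro q hq
        simp only [orb, List.mem_flatMap, List.mem_cons, List.not_mem_nil, or_false] at hq
        obtain ⟨p, hp, hq | hq⟩ := hq <;> subst hq
        · obtain ⟨a, b, c, -⟩ := hKA p hp i hi28
          exact ⟨a, (hKA p hp (w i) (hw i hi28)).2.1, c⟩
        · obtain ⟨a, b, -, d⟩ := hKA p hp i hi28
          exact ⟨(hKA p hp (w i) (hw i hi28)).2.1, a, d⟩)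
      rw [e] at h1
      exact dfs_sound hw hKA m n' hn' h1

/-- The hypotheses on the involution. -/
structure Hyp (c : Cfg) (w : ℕ → ℕ) : Prop where
  lt : ∀ x, x < 28 → w x < 28
  inv : ∀ x, x < 28 → w (w x) = x
  top : w 27 = 0
  norm : ∀ g ∈ c.P, ∃ k ∈ c.K, ∀ x, x < 28 → w (get g (w x)) = get k x
  close : ∀ e, 1 ≤ e → e < 27 → ∃ q k, k ∈ c.K ∧ ∀ x, x < 28 →
    w (mulP c.b (negP (w e)) (w (mulP c.b e (w x)))) = mulP c.b q (get k x)

theorem mulP_lt (b x y : ℕ) (hy : y < 28) : mulP b x y < 28 := by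
  rw [mulP]
  split_ifs with h
  · simp only [idx]; omega
  · exact hy

theorem actP_lt (g : (ℕ × ℕ × ℕ × ℕ) × ℕ) (x : ℕ) (hx : x < 28) : actP g x < 28 := by
  rw [actP]
  split_ifs with h
  · simp only [idx]; omega
  · exact hx

theorem kval_lt_all : ((cfg0 :: others).all fun c => c.K.all fun k =>
    (List.range 28).all fun x => decide (get k x < 28)) = true := by decide +kernel

theorem words_ok_all : ((cfg0 :: others).all fun c => c.words.all fun wd =>
    wd.all fun i => decide (i < c.P.length)) = true := by decide +kernel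

theorem fix_zero_all : ((cfg0 :: others).all fun c => c.K.all fun k =>
    decide (get k 0 = 0)) = true := by decide +kernel

theorem run_sound {c : Cfg} (hc : c ∈ cfg0 :: others) {target : Bool} (hrun : run c target = true)
    {w : ℕ → ℕ} (h : Hyp c w) :
    target = true ∧ ∃ k ∈ c.K, ∀ x, x < 28 → w x = get w0 (get k x) := by
  have hcl := List.all_eq_true.mp closed_cfg c hc
  rw [Bool.and_eq_true, List.all_eq_true, List.all_eq_true] at hcl
  have hmul : ∀ a ∈ c.K, ∀ b ∈ c.K, (code fun x => get a (get b x)) ∈ c.K := fun a ha b hb => by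
    have := hcl.1 a ha
    rw [List.all_eq_true] at this
    exact List.contains_iff_mem.mp (this b hb)
  have hPK : ∀ a ∈ c.P, a ∈ c.K := fun a ha => List.contains_iff_mem.mp (hcl.2 a ha)
  have hKlt : ∀ k ∈ c.K, ∀ x, x < 28 → get k x < 28 := fun k hk x hx => by
    have := List.all_eq_true.mp (List.all_eq_true.mp (List.all_eq_true.mp kval_lt_all c hc) k hk) x
      (List.mem_range.mpr hx)
    simpa using this
  -- the images of the generators
  obtain ⟨σ, hσ⟩ : ∃ σ : ℕ → ℕ, ∀ g ∈ c.P, σ g ∈ c.K ∧ ∀ x, x < 28 → w (get g (w x)) = get (σ g) x := by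
    classical
    refine ⟨fun g => if hg : g ∈ c.P then (h.norm g hg).choose else 0, fun g hg => ?_⟩
    simp only [dif_pos hg]
    exact (h.norm g hg).choose_spec
  set ims := c.P.map σ with hims
  have hlen : ims.length = c.gens.length := by simp [hims, Cfg.P]
  have himK : ∀ a ∈ ims, a ∈ c.K := by
    intro a ha
    obtain ⟨g, hg, rfl⟩ := List.mem_map.mp ha
    exact (hσ g hg).1
  -- words
  have hword : ∀ wd : List ℕ, (∀ i ∈ wd, i < c.P.length) → wd ≠ [] →
      ev ims wd ∈ c.K ∧ ∀ x, x < 28 → get (ev c.P wd) x < 28 ∧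
        w (get (ev c.P wd) (w x)) = get (ev ims wd) x := by
    intro wd
    induction wd with
    | nil => exact fun _ h0 => absurd rfl h0
    | cons i wd ih =>
      intro hi _
      have hil : i < c.P.length := hi i (by simp)
      have hg : c.P.getD i 0 ∈ c.P := by
        rw [List.getD_eq_getElem _ _ hil]; exact List.getElem_mem hil
      have hk : ims.getD i 0 = σ (c.P.getD i 0) := by
        rw [List.getD_eq_getElem _ _ (by simpa [hims] using hil), List.getD_eq_getElem _ _ hil]
        simp [hims]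
      obtain ⟨hσK, hσw⟩ := hσ _ hg
      by_cases hwd : wd = []
      · subst hwd
        have e1 : ∀ (l : List ℕ) (x : ℕ), x < 28 → get (ev l [i]) x = get (l.getD i 0) x := by
          intro l x hx
          rw [ev_cons, get_code (fun z _ => get_lt _ _) hx, show ev l [] = code fun z => z from rfl,
            get_code (fun z hz => by omega) hx]
        refine ⟨?_, fun x hx => ⟨?_, ?_⟩⟩
        · -- the product with the identity
          have hmem := hmul (ims.getD i 0) (hk ▸ hσK)
          obtain ⟨wd₀, hwd₀, hid⟩ : ∃ wd₀ ∈ c.words, wd₀ = ([] : List ℕ) := by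
            refine ⟨[], ?_, rfl⟩
            simp only [others, cfg0, List.mem_cons, List.not_mem_nil, or_false] at hc
            rcases hc with e | e | e | e | e | e | e | e | e | e | e | e | e <;> subst e <;> decide
          have hidK : ev c.P [] ∈ c.K := List.mem_map.mpr ⟨wd₀, hwd₀, by rw [hid]⟩
          exact ev_cons ims i [] ▸ hmem (ev c.P []) hidK
        · rw [e1 _ x hx]; exact hKlt _ (hPK _ hg) x hx
        · rw [e1 _ x hx, e1 _ (w x) (h.lt x hx), hk]
          exact hσw x hx
      · obtain ⟨ihK, ihw⟩ := ih (fun j hj => hi j (by simp [hj])) hwd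
        refine ⟨ev_cons ims i wd ▸ hmul _ (hk ▸ hσK) _ ihK, fun x hx => ⟨?_, ?_⟩⟩
        · rw [ev_cons, get_code (fun z _ => get_lt _ _) hx]
          exact hKlt _ (hPK _ hg) _ (ihw x hx).1
        · obtain ⟨hlt, hval⟩ := ihw x hx
          rw [ev_cons, ev_cons, get_code (fun z _ => get_lt _ _) (h.lt x hx),
            get_code (fun z _ => get_lt _ _) hx, hk, ← hval, ← hσw _ (h.lt _ (ihw (w x) (h.lt x hx)).1),
            h.inv _ (ihw (w x) (h.lt x hx)).1]
  have hwords : ∀ wd ∈ c.words, ∀ i ∈ wd, i < c.P.length := fun wd hwd i hi => by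
    have := List.all_eq_true.mp (List.all_eq_true.mp (List.all_eq_true.mp words_ok_all c hc) wd hwd) i hi
    simpa using this
  have hpair : ∀ wd ∈ c.words, ev ims wd ∈ c.K ∧
      ∀ x, x < 28 → w (get (ev c.P wd) (w x)) = get (ev ims wd) x := by
    intro wd hwd
    by_cases h0 : wd = []
    · subst h0
      have hmem : ev c.P [] ∈ c.K := List.mem_map.mpr ⟨[], hwd, rfl⟩
      refine ⟨hmem, fun x hx => ?_⟩
      show w (get (code fun z => z) (w x)) = get (code fun z => z) x
      rw [get_code (fun z hz => by omega) (h.lt x hx), get_code (fun z hz => by omega) hx, h.inv x hx]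
    · obtain ⟨a, b⟩ := hword wd (hwords wd hwd) h0
      exact ⟨a, fun x hx => (b x hx).2⟩
  set A := c.words.map (ev ims) with hA
  have hzip : ∀ p ∈ c.K.zip A, ∃ wd ∈ c.words, p.1 = ev c.P wd ∧ p.2 = ev ims wd := by
    intro p hp
    rw [hA, Cfg.K, List.zip_map'] at hp
    obtain ⟨wd, hwd, rfl⟩ := List.mem_map.mp hp
    exact ⟨wd, hwd, rfl, rfl⟩
  have hgood : goodAut c.K A = true := by
    rw [goodAut, Bool.and_eq_true, List.all_eq_true, List.all_eq_true]
    refine ⟨fun a ha => ?_, fun p hp => ?_⟩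
    · obtain ⟨wd, hwd, rfl⟩ := List.mem_map.mp ha
      exact List.contains_iff_mem.mpr (hpair wd hwd).1
    · rw [List.all_eq_true]
      intro q hq
      obtain ⟨u, hu, hp1, hp2⟩ := hzip p hp
      obtain ⟨v, hv, hq1, hq2⟩ := hzip q hq
      split_ifs with heq
      · rw [beq_iff_eq] at heq ⊢
        rw [hq2, hp1]
        refine ev_ext fun x hx => ?_
        rw [hp2, hq1] at heq
        have h1 := (hpair u hu).2 (w x) (h.lt x hx)
        have hku : ∀ y, y < 28 → get (ev c.P u) y < 28 :=
          fun y hy => hKlt _ (List.mem_map.mpr ⟨u, hu, rfl⟩) y hy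
        rw [heq, h.inv x hx] at h1
        rw [← (hpair v hv).2 x hx, ← h1, h.inv _ (hku x hx)]
      · rfl
  rw [run, forceList_eq, List.all_eq_true] at hrun
  have h1 := hrun ims (hlen ▸ mem_tuples c.K ims himK)
  rw [forceList_eq, ← hA, if_pos hgood, force_eq] at h1
  have hw0 : w 0 = 27 := by
    have := h.inv 27 (by norm_num)
    rwa [h.top] at this
  have hstart : Agree w ((28 <<< 0) ||| (1 <<< (5 * 27))) := by
    intro x hx hne
    rw [show (28 : ℕ) <<< 0 = 28 <<< (5 * 0) from rfl, get_or, get_shift (by norm_num),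
      get_shift (by norm_num)] at hne ⊢
    split_ifs at hne ⊢ with e1 e2 e2
    · omega
    · subst e1; rw [Nat.or_zero, hw0]
    · subst e2; rw [Nat.zero_or, h.top]
    · simp at hne
  obtain ⟨n, hn, hleaf⟩ := dfs_sound (w := w) h.lt (fun p hp x hx => by
    obtain ⟨u, hu, hp1, hp2⟩ := hzip p hp
    have hku : ∀ y, y < 28 → get (ev c.P u) y < 28 :=
      fun y hy => hKlt _ (List.mem_map.mpr ⟨u, hu, rfl⟩) y hy
    have h2 := (hpair u hu).2 (w x) (h.lt x hx)
    rw [h.inv x hx] at h2
    rw [hp1, hp2]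
    exact ⟨hku x hx, hKlt _ (hpair u hu).1 x hx, h2, by rw [← h2, h.inv _ (hku x hx)]⟩)
    29 _ hstart h1
  rw [leaf, Bool.or_eq_true] at hleaf
  rcases hleaf with hl | hl
  · exfalso
    rw [Bool.not_eq_true', List.all_eq_false] at hl
    obtain ⟨e', he', hl⟩ := hl
    refine hl ?_
    rw [List.mem_range] at he'
    simp only [force_eq]
    obtain ⟨q, k, hk, hqk⟩ := h.close (e' + 1) (by omega) (by omega)
    have he28 : e' + 1 < 28 := by omega
    have hstep : ∀ x, x < 28 →
        get n (mulP c.b (negP (get n (e' + 1) - 1)) (get n (mulP c.b (e' + 1) (get n x - 1)) - 1)) - 1 =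
          mulP c.b q (get k x) := fun x hx => by
      rw [hn _ he28, hn x hx, Nat.add_sub_cancel, Nat.add_sub_cancel]
      have a1 := mulP_lt c.b (e' + 1) (w x) (h.lt x hx)
      rw [hn _ a1, Nat.add_sub_cancel]
      have a2 := mulP_lt c.b (negP (w (e' + 1))) _ (h.lt _ a1)
      rw [hn _ a2, Nat.add_sub_cancel]
      exact hqk x hx
    have hk0 : get k 0 = 0 := by
      have := List.all_eq_true.mp (List.all_eq_true.mp fix_zero_all c hc) k hk
      simpa using this
    rw [List.any_eq_true]
    refine ⟨k, hk, List.all_eq_true.mpr fun x hx => ?_⟩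
    rw [List.mem_range] at hx
    rw [beq_iff_eq, hstep 0 (by norm_num), hk0, hstep x hx]
    -- translation by the image of zero
    have hq0 : ∀ b q y : ℕ, y < 28 → mulP b (mulP b q 0) y = mulP b q y := by
      intro b q y hy
      simp only [mulP, idx, show (0 : ℕ) < 27 by norm_num, if_true]
      split_ifs with hy27
      · norm_num
        obtain ⟨a, ha⟩ : ∃ a, a = q % 3 := ⟨_, rfl⟩
        obtain ⟨a', ha'⟩ : ∃ a', a' = q / 3 % 3 := ⟨_, rfl⟩
        rw [← ha, ← ha']
        rw [show (a + 3 * a' + 9 * (q / 9 % 3)) % 3 = a by omega,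
          show (a + 3 * a' + 9 * (q / 9 % 3)) / 3 % 3 = a' by omega,
          show (a + 3 * a' + 9 * (q / 9 % 3)) / 9 = q / 9 % 3 by omega]
        omega
      · rfl
    exact (hq0 c.b q _ (hKlt k hk x hx)).symm
  · rw [Bool.and_eq_true] at hl
    refine ⟨hl.1, ?_⟩
    obtain ⟨k, hk, hk'⟩ := List.any_eq_true.mp hl.2
    refine ⟨k, hk, fun x hx => ?_⟩
    have := List.all_eq_true.mp hk' x (List.mem_range.mpr hx)
    rw [beq_iff_eq, hn x hx, Nat.add_sub_cancel] at this
    exact this

/-- The outcome of the search. -/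
theorem search_result {c : Cfg} (hc : c ∈ cfg0 :: others) {w : ℕ → ℕ} (h : Hyp c w) :
    c = cfg0 ∧ ∃ k ∈ cfg0.K, ∀ x, x < 28 → w x = get w0 (get k x) := by
  rcases List.mem_cons.mp hc with rfl | hc'
  · exact ⟨rfl, (run_sound hc run_cfg0 h).2⟩
  · exfalso
    have hrun : run c false = true := by
      have e : c ∈ others.take 4 ++ ((others.drop 4).take 4 ++ others.drop 8) := by
        rw [show others.take 4 ++ ((others.drop 4).take 4 ++ others.drop 8) = others from rfl]
        exact hc'
      rw [List.mem_append, List.mem_append] at e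
      rcases e with e | e | e
      · exact List.all_eq_true.mp run_others_one c e
      · exact List.all_eq_true.mp run_others_two c e
      · exact List.all_eq_true.mp run_others_three c e
    exact Bool.false_ne_true (run_sound hc hrun h).1

end Cfsg.Agent.Char.GTwoSpectrum.Search
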