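import Cfsg.Agent.Lib.Char.GTwoSpectrum.Points
import Cfsg.Agent.Lib.Char.GTwoSpectrum.Search

/-!
# The configuration of the stabiliser of two points
-/

set_option autoImplicit false
set_option linter.style.haveILetI false

namespace Cfsg.Agent.Char.GTwoSpectrum

open MulAction
open scoped Pointwise

universe u

/-- The sixteen matrices of a Sylow 2-subgroup of the linear group. -/
def s16 : List M2 :=
  (List.range 8).flatMap fun i => (List.range 2).map fun j => matOf Search.mC ^ i * matOf Search.mR ^ j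

theorem s16_mul : ∀ a ∈ s16, ∀ b ∈ s16, a * b ∈ s16 := by decide +kernel

theorem s16_inv : ∀ a ∈ s16, ∃ b ∈ s16, a * b = 1 ∧ b * a = 1 := by decide +kernel

theorem s16_one : (1 : M2) ∈ s16 := by decide +kernel

theorem s16_card : s16.toFinset.card = 16 := by decide +kernel

theorem mC_mem : matOf Search.mC ∈ s16 := by decide +kernel

theorem mR_mem : matOf Search.mR ∈ s16 := by decide +kernel

/-- A Sylow 2-subgroup of the linear group. -/
def twoGroup : Subgroup (GL (Fin 2) (ZMod 3)) where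
  carrier := {g | (g : M2) ∈ s16}
  one_mem' := s16_one
  mul_mem' := fun {a b} ha hb => s16_mul _ ha _ hb
  inv_mem' := fun {a} ha => by
    obtain ⟨b, hb, hab, hba⟩ := s16_inv _ ha
    show ((a⁻¹ : GL (Fin 2) (ZMod 3)) : M2) ∈ s16
    rwa [Units.inv_eq_of_mul_eq_one_right hab]

theorem card_twoGroup : Nat.card twoGroup = 16 := by
  have hb : Function.Bijective fun g : twoGroup =>
      (⟨((g : GL (Fin 2) (ZMod 3)) : M2), List.mem_toFinset.mpr g.2⟩ : {m // m ∈ s16.toFinset}) := by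
    refine ⟨fun a b e => Subtype.ext (Units.ext (congrArg Subtype.val e :)), fun m => ?_⟩
    have hm := List.mem_toFinset.mp m.2
    obtain ⟨b, -, hab, hba⟩ := s16_inv _ hm
    exact ⟨⟨⟨(m : M2), b, hab, hba⟩, hm⟩, rfl⟩
  rw [Nat.card_eq_of_bijective _ hb, Nat.card_eq_fintype_card, Fintype.card_coe, s16_card]

theorem exists_conj_twoGroup (H : Subgroup (GL (Fin 2) (ZMod 3))) (hH : Nat.card H = 8) :
    ∃ B : GL (Fin 2) (ZMod 3), ∀ h ∈ H, B⁻¹ * h * B ∈ twoGroup := by
  haveI : Fact (Nat.Prime 2) := ⟨Nat.prime_two⟩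
  haveI : Fact (Nat.Prime 3) := ⟨Nat.prime_three⟩
  have h48 : Nat.card (GL (Fin 2) (ZMod 3)) = 48 := by
    rw [Matrix.card_GL_field, Fin.prod_univ_two, ZMod.card]
    rfl
  have hf : (48 : ℕ).factorization 2 = 4 := by
    rw [show (48 : ℕ) = 2 ^ 4 * 3 by norm_num, Nat.factorization_mul (by norm_num) (by norm_num),
      Nat.Prime.factorization_pow Nat.prime_two, Nat.Prime.factorization Nat.prime_three]
    simp
  let S : Sylow 2 (GL (Fin 2) (ZMod 3)) :=
    Sylow.ofCard twoGroup (by rw [card_twoGroup, h48, hf]; norm_num)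
  obtain ⟨T, hT⟩ := (IsPGroup.of_card (n := 3) (by rw [hH]; norm_num) : IsPGroup 2 H).exists_le_sylow
  obtain ⟨B, hB⟩ := MulAction.exists_smul_eq (GL (Fin 2) (ZMod 3)) S T
  refine ⟨B, fun h hh => ?_⟩
  have h1 := hT hh
  rw [← hB] at h1
  have h2 : h ∈ MulAut.conj B • twoGroup := h1
  rw [Subgroup.mem_pointwise_smul_iff_inv_smul_mem] at h2
  simpa [MulAut.smul_def, mul_assoc] using h2

variable {L : Type u} [Group L]

theorem actV_ext {g h : M2} {ε η : ZMod 3} (e : ∀ u, actV g ε u = actV h η u) : g = h ∧ ε = η := by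
  have e1 := e (1, 0, 0)
  have e2 := e (0, 1, 0)
  have e3 := e (0, 0, 1)
  simp only [actV, Prod.mk.injEq, mul_one, mul_zero, add_zero, zero_add] at e1 e2 e3
  refine ⟨?_, e3.2.2⟩
  ext i j
  fin_cases i <;> fin_cases j
  exacts [e1.1, e2.1, e1.2.1, e2.2.1]

theorem eq_one_or_two : ∀ ε : ZMod 3, ε ≠ 0 → ε = ((1 : ℕ) : ZMod 3) ∨ ε = ((2 : ℕ) : ZMod 3) := by
  decide

/-- An element of order three and the stabiliser acting by matrices of the 2-group. -/
structure Acts (P Q : Sylow 3 L) (b : ZMod 3) (f : V3 → L)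
    (ψ : ↥(stabilizer L P ⊓ stabilizer L Q) → M2 × ZMod 3) : Prop where
  hom : ∀ u w : V3, f u * f w = f (mulV b u w)
  inj : Function.Injective f
  mem : ∀ u, f u ∈ P
  surj : ∀ x ∈ P, ∃ u, f u = x
  b01 : b = 0 ∨ b = 1
  eps : ∀ k, (ψ k).2 ≠ 0
  det : ∀ k, b * (ψ k).2 = b * ((ψ k).1 0 0 * (ψ k).1 1 1 - (ψ k).1 0 1 * (ψ k).1 1 0)
  act : ∀ (k : ↥(stabilizer L P ⊓ stabilizer L Q)) (u : V3), (k : L) * f u * (k : L)⁻¹ = f (actV (ψ k).1 (ψ k).2 u)
  mat_one : (ψ 1).1 = 1
  mat_mul : ∀ k k', (ψ (k * k')).1 = (ψ k).1 * (ψ k').1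
  mat_inj : Function.Injective fun k => (ψ k).1
  mem16 : ∀ k, (ψ k).1 ∈ s16

theorem Base.exists_acts [Finite L] {P Q : Sylow 3 L} (hB : Base P Q) :
    ∃ b f ψ, Acts P Q b f ψ := by
  classical
  obtain ⟨v, hv, hv2, hvc, hcen⟩ := hB.exists_central
  obtain ⟨b, f, hf⟩ := exists_frame (P := (P : Subgroup L)) hB.cardP hB.exp3
    (v := v) (by rw [← pow_two, ← hv2, pow_orderOf_eq_one]) (hB.conj_mem hv)
    (hB.card_centralizer hv hv2) hcen
  have hex := fun k : ↥(stabilizer L P ⊓ stabilizer L Q) =>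
    hf.exists_act (hB.conj_mem k.2) (hvc k k.2)
  choose g ε hε hdet hact using hex
  have hone : g 1 = 1 ∧ ε 1 = 1 := actV_ext fun u => by
    rw [actV_one]
    refine hf.inj ?_
    rw [← hact]; simp
  have hmul : ∀ k k', g (k * k') = g k * g k' ∧ ε (k * k') = ε k * ε k' := fun k k' =>
    actV_ext fun u => hf.inj (by
      rw [← actV_comp, ← hact, ← hact, ← hact, Subgroup.coe_mul]; group)
  have hcentral : ∀ k : ↥(stabilizer L P ⊓ stabilizer L Q), g k = 1 → ε k = 1 → k = 1 := by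
    intro k h1 h2
    refine Subtype.ext (hB.eq_one k.2 fun x hx => ?_)
    obtain ⟨u, rfl⟩ := hf.surj x hx
    rw [hact, h1, h2, actV_one]
  have hker : ∀ k : ↥(stabilizer L P ⊓ stabilizer L Q), g k = 1 → k = 1 := by
    intro k hk
    rcases eq_one_or_two _ (hε k) with he | he
    · exact hcentral k hk (by rw [he, Nat.cast_one])
    exfalso
    rcases hf.b01 with hb | hb
    · -- an involution with too many fixed points
      have hk1 : k ≠ 1 := fun e => by
        rw [e, hone.2] at he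
        exact absurd he (by decide)
      have hkk : k ^ 2 = 1 := by
        rw [pow_two]
        refine hcentral _ (by rw [(hmul k k).1, hk, one_mul]) ?_
        rw [(hmul k k).2, he]; rfl
      have h2 : orderOf (k : L) = 2 := by
        rw [Subgroup.orderOf_coe]; exact orderOf_eq_prime hkk hk1
      have h4 := hB.invol _ h2
      have hfix : ∀ p : ZMod 3 × ZMod 3, f (p.1, p.2, 0) • Q ∈ fixedBy (Sylow 3 L) (k : L) := by
        intro p
        show (k : L) • f (p.1, p.2, 0) • Q = f (p.1, p.2, 0) • Q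
        rw [hB.smul_smul_Q k.2, hact, hk]
        simp [actV]
      haveI := Fintype.ofFinite (fixedBy (Sylow 3 L) (k : L))
      have hle := Fintype.card_le_of_injective
        (fun p : ZMod 3 × ZMod 3 => (⟨_, hfix p⟩ : fixedBy (Sylow 3 L) (k : L))) fun p p' e => by
          have e' : f (p.1, p.2, 0) • Q = f (p'.1, p'.2, 0) • Q := congrArg Subtype.val e
          have := hB.free _ (mul_mem (inv_mem (hf.mem (p'.1, p'.2, 0))) (hf.mem (p.1, p.2, 0)))
            (by rw [mul_smul, e', inv_smul_smul])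
          have := hf.inj (inv_mul_eq_one.mp this).symm
          simp only [Prod.mk.injEq] at this
          exact Prod.ext this.1 this.2.1
      rw [Fintype.card_prod, ZMod.card, ← Nat.card_eq_fintype_card, h4] at hle
      omega
    · have := hdet k
      rw [hk, hb, he] at this
      simp at this
      exact absurd this (by decide)
  let ψ₀ : ↥(stabilizer L P ⊓ stabilizer L Q) →* M2 :=
    { toFun := g, map_one' := hone.1, map_mul' := fun k k' => (hmul k k').1 }
  have hinj : Function.Injective ψ₀.toHomUnits := by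
    rw [injective_iff_map_eq_one]
    exact fun k hk => hker k (congrArg Units.val hk)
  obtain ⟨B, hBc⟩ := exists_conj_twoGroup ψ₀.toHomUnits.range (by
    rw [Nat.card_congr (MonoidHom.ofInjective hinj).toEquiv.symm, hB.cardK])
  set β : ZMod 3 := if b = 1 then (B : M2) 0 0 * (B : M2) 1 1 - (B : M2) 0 1 * (B : M2) 1 0 else 1
    with hβ
  have hβ0 : β ≠ 0 := by
    rw [hβ]; split_ifs
    · rw [← Matrix.det_fin_two]
      exact (B.isUnit.map Matrix.detMonoidHom).ne_zero
    · exact one_ne_zero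
  have hββ : β * β = 1 := (by decide : ∀ j : ZMod 3, j ≠ 0 → j * j = 1) β hβ0
  have hbβ : b * β = b * ((B : M2) 0 0 * (B : M2) 1 1 - (B : M2) 0 1 * (B : M2) 1 0) := by
    rcases hf.b01 with hb | hb
    · rw [hb, zero_mul, zero_mul]
    · rw [hβ, if_pos hb]
  have hBB : ∀ u, actV (B : M2) β (actV ((B⁻¹ : GL (Fin 2) (ZMod 3)) : M2) β u) = u := fun u => by
    rw [actV_comp, hββ, Units.mul_inv, actV_one]
  refine ⟨b, fun u => f (actV (B : M2) β u),
    fun k => (((B⁻¹ : GL (Fin 2) (ZMod 3)) : M2) * g k * (B : M2), ε k), ?_⟩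
  refine ⟨fun u w => by rw [hf.hom, actV_mulV hbβ], ?_, fun u => hf.mem _, ?_, hf.b01, hε, ?_, ?_, ?_, ?_,
    ?_, ?_⟩
  · intro u w e
    have := congrArg (actV ((B⁻¹ : GL (Fin 2) (ZMod 3)) : M2) β) (hf.inj e)
    rwa [actV_comp, actV_comp, hββ, Units.inv_mul, actV_one, actV_one] at this
  · intro x hx
    obtain ⟨u, rfl⟩ := hf.surj x hx
    exact ⟨actV ((B⁻¹ : GL (Fin 2) (ZMod 3)) : M2) β u, congrArg f (hBB u)⟩
  · intro k
    have e : Matrix.det (((B⁻¹ : GL (Fin 2) (ZMod 3)) : M2) * g k * (B : M2)) = Matrix.det (g k) :=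
      Matrix.det_units_conj' B (g k)
    rw [Matrix.det_fin_two, Matrix.det_fin_two] at e
    show b * ε k = _
    rw [hdet k, e]
  · intro k u
    show (k : L) * f (actV (B : M2) β u) * (k : L)⁻¹ = f (actV (B : M2) β (actV _ _ u))
    rw [hact, actV_comp, actV_comp]
    congr 2
    · rw [← mul_assoc, ← mul_assoc, Units.mul_inv, one_mul]
    · exact mul_comm _ _
  · show ((B⁻¹ : GL (Fin 2) (ZMod 3)) : M2) * g 1 * (B : M2) = 1
    rw [hone.1, mul_one, Units.inv_mul]
  · intro k k'
    show ((B⁻¹ : GL (Fin 2) (ZMod 3)) : M2) * g (k * k') * (B : M2) = _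
    rw [(hmul k k').1]
    simp only [mul_assoc, Units.mul_inv_cancel_left]
  · intro k k' e
    refine hinj (Units.ext ?_)
    have e' : ((B⁻¹ : GL (Fin 2) (ZMod 3)) : M2) * g k * (B : M2) =
        ((B⁻¹ : GL (Fin 2) (ZMod 3)) : M2) * g k' * (B : M2) := e
    show g k = g k'
    exact (Units.mul_right_inj _).mp ((Units.mul_left_inj _).mp e')
  · intro k
    exact hBc _ ⟨k, rfl⟩

/-- The configuration with the data realising it. -/
structure Found (P Q : Sylow 3 L) (c : Search.Cfg) (f : V3 → L) (kg : ℕ → L) : Prop where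
  hc : c ∈ Search.cfg0 :: Search.others
  hom : ∀ u w : V3, f u * f w = f (mulV (c.b : ZMod 3) u w)
  inj : Function.Injective f
  mem : ∀ u, f u ∈ P
  surj : ∀ x ∈ P, ∃ u, f u = x
  kg_mem : ∀ i, i < c.gens.length → kg i ∈ stabilizer L P ⊓ stabilizer L Q
  kg_act : ∀ (i : ℕ) (hi : i < c.gens.length) (u : V3),
    kg i * f u * (kg i)⁻¹ = f (actV (matOf c.gens[i].1) (c.gens[i].2 : ZMod 3) u)
  kg_all : ∀ k ∈ stabilizer L P ⊓ stabilizer L Q, ∃ wd ∈ c.words, k = (wd.map kg).prod

theorem words_kl : (Search.wordsC.all fun wd => wd.all fun i => decide (i < 1)) = true ∧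
    (Search.wordsT.all fun wd => wd.all fun i => decide (i < 2)) = true := by decide +kernel

theorem det_mC : (matOf Search.mC) 0 0 * (matOf Search.mC) 1 1 -
    (matOf Search.mC) 0 1 * (matOf Search.mC) 1 0 = ((2 : ℕ) : ZMod 3) := by decide +kernel

theorem det_mS : (matOf Search.mS) 0 0 * (matOf Search.mS) 1 1 -
    (matOf Search.mS) 0 1 * (matOf Search.mS) 1 0 = ((1 : ℕ) : ZMod 3) := by decide +kernel

theorem det_mQ : (matOf Search.mQ) 0 0 * (matOf Search.mQ) 1 1 -
    (matOf Search.mQ) 0 1 * (matOf Search.mQ) 1 0 = ((1 : ℕ) : ZMod 3) := by decide +kernel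

theorem det_mR : (matOf Search.mR) 0 0 * (matOf Search.mR) 1 1 -
    (matOf Search.mR) 0 1 * (matOf Search.mR) 1 0 = ((2 : ℕ) : ZMod 3) := by decide +kernel

theorem Acts.mat_prod {P Q : Sylow 3 L} {b : ZMod 3} {f : V3 → L}
    {ψ : ↥(stabilizer L P ⊓ stabilizer L Q) → M2 × ZMod 3} (h : Acts P Q b f ψ)
    (kl : ℕ → ↥(stabilizer L P ⊓ stabilizer L Q)) :
    ∀ wd : List ℕ, (ψ (wd.map kl).prod).1 = (wd.map fun i => (ψ (kl i)).1).prod
  | [] => by simpa using h.mat_one
  | i :: wd => by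
    rw [List.map_cons, List.prod_cons, h.mat_mul, Acts.mat_prod h kl wd, List.map_cons, List.prod_cons]

/-- If the word images are eight different matrices the words give all of the stabiliser. -/
theorem Acts.cover {P Q : Sylow 3 L} {b : ZMod 3} {f : V3 → L}
    {ψ : ↥(stabilizer L P ⊓ stabilizer L Q) → M2 × ZMod 3} (h : Acts P Q b f ψ) [Finite L]
    (h8 : Nat.card ↥(stabilizer L P ⊓ stabilizer L Q) = 8)
    (kl : ℕ → ↥(stabilizer L P ⊓ stabilizer L Q)) (words : List (List ℕ)) (mats : List M2)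
    (hmats : mats = words.map fun wd => (wd.map fun i => (ψ (kl i)).1).prod)
    (hnd : mats.Nodup) (hlen : mats.length = 8) (k : ↥(stabilizer L P ⊓ stabilizer L Q)) :
    ∃ wd ∈ words, k = (wd.map kl).prod := by
  classical
  haveI := Fintype.ofFinite ↥(stabilizer L P ⊓ stabilizer L Q)
  have hcard : (words.map fun wd => (wd.map kl).prod).toFinset.card = 8 := by
    have hnd' : (words.map fun wd => (wd.map kl).prod).Nodup := by
      refine List.Nodup.of_map (fun k => (ψ k).1) ?_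
      rw [List.map_map]
      convert hnd using 1
      rw [hmats]
      exact List.map_congr_left fun wd _ => h.mat_prod kl wd
    rw [List.toFinset_card_of_nodup hnd', List.length_map, ← hlen, hmats, List.length_map]
  have : k ∈ (words.map fun wd => (wd.map kl).prod).toFinset := by
    have he := Finset.eq_univ_of_card (words.map fun wd => (wd.map kl).prod).toFinset
      (by rw [hcard, ← Nat.card_eq_fintype_card, h8])
    rw [he]
    exact Finset.mem_univ k
  obtain ⟨wd, hwd, e⟩ := List.mem_map.mp (List.mem_toFinset.mp this)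
  exact ⟨wd, hwd, e.symm⟩

theorem Acts.found_one [Finite L] {P Q : Sylow 3 L} {b : ZMod 3} {f : V3 → L}
    {ψ : ↥(stabilizer L P ⊓ stabilizer L Q) → M2 × ZMod 3} (h : Acts P Q b f ψ)
    (h8 : Nat.card ↥(stabilizer L P ⊓ stabilizer L Q) = 8)
    {k : ↥(stabilizer L P ⊓ stabilizer L Q)} (hk : (ψ k).1 = matOf Search.mC) :
    ∃ c kg, Found P Q c f kg := by
  obtain ⟨nb, hnb, hnb'⟩ : ∃ n : ℕ, (n : ZMod 3) = b ∧ (n = 0 ∨ n = 1) := by
    rcases h.b01 with e | e
    · exact ⟨0, by rw [e, Nat.cast_zero], Or.inl rfl⟩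
    · exact ⟨1, by rw [e, Nat.cast_one], Or.inr rfl⟩
  obtain ⟨ne, hne, hne'⟩ : ∃ n : ℕ, (n : ZMod 3) = (ψ k).2 ∧ (n = 1 ∨ n = 2) := by
    rcases eq_one_or_two _ (h.eps k) with e | e
    · exact ⟨1, e.symm, Or.inl rfl⟩
    · exact ⟨2, e.symm, Or.inr rfl⟩
  have hd := h.det k
  rw [hk, det_mC, ← hne, ← hnb] at hd
  refine ⟨⟨nb, [(Search.mC, ne)], Search.wordsC⟩, fun _ => (k : L),
    ⟨?_, fun u w => by rw [h.hom, hnb], h.inj, h.mem, h.surj, fun _ _ => k.2, ?_, ?_⟩⟩
  · rcases hnb' with rfl | rfl <;> rcases hne' with rfl | rfl <;>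
      first
        | exact List.mem_cons_self
        | (simp [Search.others]; done)
        | exact absurd hd (by decide)
  · intro i hi u
    simp only [List.length_singleton, Nat.lt_one_iff] at hi
    subst hi
    show (k : L) * f u * (k : L)⁻¹ = f (actV (matOf Search.mC) (ne : ZMod 3) u)
    rw [h.act, hk, hne]
  · intro x hx
    obtain ⟨wd, hwd, e⟩ := h.cover h8 (fun _ => k) Search.wordsC
      (Search.wordsC.map fun wd => (wd.map fun _ => matOf Search.mC).prod) (by simp only [hk])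
      (by decide +kernel) (by decide +kernel) ⟨x, hx⟩
    exact ⟨wd, hwd, by
      rw [show x = ((⟨x, hx⟩ : ↥(stabilizer L P ⊓ stabilizer L Q)) : L) from rfl, e,
        Subgroup.val_list_prod, List.map_map]; rfl⟩

theorem Acts.found_two [Finite L] {P Q : Sylow 3 L} {b : ZMod 3} {f : V3 → L}
    {ψ : ↥(stabilizer L P ⊓ stabilizer L Q) → M2 × ZMod 3} (h : Acts P Q b f ψ)
    (h8 : Nat.card ↥(stabilizer L P ⊓ stabilizer L Q) = 8)
    {k k' : ↥(stabilizer L P ⊓ stabilizer L Q)} (hk : (ψ k).1 = matOf Search.mS)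
    {m : ℕ × ℕ × ℕ × ℕ} (hm : m = Search.mQ ∨ m = Search.mR) (hk' : (ψ k').1 = matOf m) :
    ∃ c kg, Found P Q c f kg := by
  obtain ⟨nb, hnb, hnb'⟩ : ∃ n : ℕ, (n : ZMod 3) = b ∧ (n = 0 ∨ n = 1) := by
    rcases h.b01 with e | e
    · exact ⟨0, by rw [e, Nat.cast_zero], Or.inl rfl⟩
    · exact ⟨1, by rw [e, Nat.cast_one], Or.inr rfl⟩
  have hex : ∀ x, ∃ n : ℕ, (n : ZMod 3) = (ψ x).2 ∧ (n = 1 ∨ n = 2) := fun x => by
    rcases eq_one_or_two _ (h.eps x) with e | e
    · exact ⟨1, e.symm, Or.inl rfl⟩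
    · exact ⟨2, e.symm, Or.inr rfl⟩
  obtain ⟨ne, hne, hne'⟩ := hex k
  obtain ⟨nf, hnf, hnf'⟩ := hex k'
  have hd := h.det k
  have hd' := h.det k'
  rw [hk, det_mS, ← hne, ← hnb] at hd
  rw [hk', ← hnf, ← hnb] at hd'
  refine ⟨⟨nb, [(Search.mS, ne), (m, nf)], Search.wordsT⟩,
    fun i => if i = 0 then (k : L) else k',
    ⟨?_, fun u w => by rw [h.hom, hnb], h.inj, h.mem, h.surj, ?_, ?_, ?_⟩⟩
  · rcases hm with rfl | rfl
    · rw [det_mQ] at hd'
      rcases hnb' with rfl | rfl <;> rcases hne' with rfl | rfl <;> rcases hnf' with rfl | rfl <;>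
        first
          | (simp [Search.others]; done)
          | exact absurd hd (by decide)
          | exact absurd hd' (by decide)
    · rw [det_mR] at hd'
      rcases hnb' with rfl | rfl <;> rcases hne' with rfl | rfl <;> rcases hnf' with rfl | rfl <;>
        first
          | (simp [Search.others]; done)
          | exact absurd hd (by decide)
          | exact absurd hd' (by decide)
  · intro i _
    split_ifs
    · exact k.2
    · exact k'.2
  · intro i hi u
    obtain rfl | rfl : i = 0 ∨ i = 1 := by simp only [List.length_cons, List.length_nil] at hi; omega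
    · show (k : L) * f u * (k : L)⁻¹ = f (actV (matOf Search.mS) (ne : ZMod 3) u)
      rw [h.act, hk, hne]
    · show (k' : L) * f u * (k' : L)⁻¹ = f (actV (matOf m) (nf : ZMod 3) u)
      rw [h.act, hk', hnf]
  · intro x hx
    have hmats : ∀ wd : List ℕ, (wd.map fun i => (ψ (if i = 0 then k else k')).1) =
        wd.map fun i => if i = 0 then matOf Search.mS else matOf m := fun wd =>
      List.map_congr_left fun i _ => by split_ifs <;> assumption
    obtain ⟨wd, hwd, e⟩ := h.cover h8 (fun i => if i = 0 then k else k') Search.wordsT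
      (Search.wordsT.map fun wd => (wd.map fun i => if i = 0 then matOf Search.mS else matOf m).prod)
      (List.map_congr_left fun wd _ => by rw [hmats])
      (by rcases hm with rfl | rfl <;> decide +kernel) (by rw [List.length_map]; rfl) ⟨x, hx⟩
    refine ⟨wd, hwd, ?_⟩
    rw [show x = ((⟨x, hx⟩ : ↥(stabilizer L P ⊓ stabilizer L Q)) : L) from rfl, e,
      Subgroup.val_list_prod, List.map_map]
    congr 1
    exact List.map_congr_left fun i _ => by
      simp only [Function.comp_apply]; split_ifs <;> rfl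

theorem Base.exists_found [Finite L] {P Q : Sylow 3 L} (hB : Base P Q) :
    ∃ c f kg, Found P Q c f kg := by
  obtain ⟨b, f, ψ, h⟩ := hB.exists_acts
  let φ₀ : ↥(stabilizer L P ⊓ stabilizer L Q) →* M2 :=
    { toFun := fun k => (ψ k).1, map_one' := h.mat_one, map_mul' := h.mat_mul }
  set φ : ↥(stabilizer L P ⊓ stabilizer L Q) →* GL (Fin 2) (ZMod 3) := φ₀.toHomUnits with hφ
  have hinj : Function.Injective φ := fun k k' e => h.mat_inj (congrArg Units.val e)
  set H := φ.range with hH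
  have hle : H ≤ twoGroup := by
    rintro _ ⟨k, rfl⟩; exact h.mem16 k
  have hidx : (H.subgroupOf twoGroup).index = 2 := by
    have h1 : Nat.card H = 8 := by
      rw [hH, Nat.card_congr (MonoidHom.ofInjective hinj).toEquiv.symm, hB.cardK]
    have h2 := (H.subgroupOf twoGroup).card_mul_index
    rw [Nat.card_congr (Subgroup.subgroupOfEquivOfLe hle).toEquiv, h1, card_twoGroup] at h2
    omega
  obtain ⟨bC, -, hC1, hC2⟩ := s16_inv _ mC_mem
  obtain ⟨bR, -, hR1, hR2⟩ := s16_inv _ mR_mem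
  set C : twoGroup := ⟨⟨matOf Search.mC, bC, hC1, hC2⟩, mC_mem⟩ with hCdef
  set R : twoGroup := ⟨⟨matOf Search.mR, bR, hR1, hR2⟩, mR_mem⟩ with hRdef
  have hmem : ∀ (x : twoGroup) (M : M2), ((x : GL (Fin 2) (ZMod 3)) : M2) = M →
      x ∈ H.subgroupOf twoGroup → ∃ k, (ψ k).1 = M := by
    intro x M hM hx
    obtain ⟨k, hk⟩ := Subgroup.mem_subgroupOf.mp hx
    exact ⟨k, by rw [← hM, ← hk]; rfl⟩
  by_cases hC : C ∈ H.subgroupOf twoGroup
  · obtain ⟨k, hk⟩ := hmem C _ rfl hC
    exact ⟨_, f, (h.found_one hB.cardK hk).choose_spec⟩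
  have hS : C * C ∈ H.subgroupOf twoGroup := (Subgroup.mul_mem_iff_of_index_two hidx).mpr Iff.rfl
  obtain ⟨k, hk⟩ := hmem (C * C) (matOf Search.mS) (by
    show matOf Search.mC * matOf Search.mC = _
    decide +kernel) hS
  by_cases hR : R ∈ H.subgroupOf twoGroup
  · obtain ⟨k', hk'⟩ := hmem R _ rfl hR
    obtain ⟨c, kg, hfd⟩ := h.found_two hB.cardK hk (Or.inr rfl) hk'
    exact ⟨c, f, kg, hfd⟩
  · have hQ : C * R ∈ H.subgroupOf twoGroup :=
      (Subgroup.mul_mem_iff_of_index_two hidx).mpr (iff_of_false hC hR)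
    obtain ⟨k', hk'⟩ := hmem (C * R) (matOf Search.mQ) (by
      show matOf Search.mC * matOf Search.mR = _
      decide +kernel) hQ
    obtain ⟨c, kg, hfd⟩ := h.found_two hB.cardK hk (Or.inl rfl) hk'
    exact ⟨c, f, kg, hfd⟩

end Cfsg.Agent.Char.GTwoSpectrum
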