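import Cfsg.Agent.Lib.Char.GTwoSpectrum.SearchDefs

/-!
# Coordinates for the groups of order 27 and exponent three
-/

set_option autoImplicit false

namespace Cfsg.Agent.Char.GTwoSpectrum

/-- The coordinate space. -/
abbrev V3 : Type := ZMod 3 × ZMod 3 × ZMod 3

/-- The two-dimensional matrices. -/
abbrev M2 : Type := Matrix (Fin 2) (Fin 2) (ZMod 3)

/-- The product for the cocycle `b`. -/
def mulV (b : ZMod 3) (u v : V3) : V3 :=
  (u.1 + v.1, u.2.1 + v.2.1, u.2.2 + v.2.2 + b * (2 * u.1 * v.2.1 + u.2.1 * v.1))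

/-- The action of a matrix and a factor. -/
def actV (g : M2) (ε : ZMod 3) (u : V3) : V3 :=
  (g 0 0 * u.1 + g 0 1 * u.2.1, g 1 0 * u.1 + g 1 1 * u.2.1, ε * u.2.2)

theorem actV_comp (g h : M2) (ε η : ZMod 3) (u : V3) :
    actV g ε (actV h η u) = actV (g * h) (ε * η) u := by
  simp only [actV, Matrix.mul_apply, Fin.sum_univ_two]
  exact Prod.ext (by ring) (Prod.ext (by ring) (by ring))

theorem actV_one (u : V3) : actV 1 1 u = u := by simp [actV]

theorem actV_mulV {b : ZMod 3} {g : M2} {ε : ZMod 3}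
    (h : b * ε = b * (g 0 0 * g 1 1 - g 0 1 * g 1 0)) (u v : V3) :
    actV g ε (mulV b u v) = mulV b (actV g ε u) (actV g ε v) := by
  simp only [actV, mulV]
  refine Prod.ext (by ring) (Prod.ext (by ring) ?_)
  have h3 : (3 : ZMod 3) = 0 := rfl
  show ε * (u.2.2 + v.2.2 + b * (2 * u.1 * v.2.1 + u.2.1 * v.1)) = _
  linear_combination (2 * u.1 * v.2.1 + u.2.1 * v.1) * h +
    (-b * g 0 0 * g 1 0 * u.1 * v.1 - b * g 0 1 * g 1 1 * u.2.1 * v.2.1 -
      b * g 0 1 * g 1 0 * (u.1 * v.2.1 + u.2.1 * v.1)) * h3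

/-- The coordinates of a point. -/
def toV (x : ℕ) : V3 := ((x : ZMod 3), ((x / 3 : ℕ) : ZMod 3), ((x / 9 : ℕ) : ZMod 3))

/-- The point with given coordinates. -/
def ofV (u : V3) : ℕ := u.1.val + 3 * u.2.1.val + 9 * u.2.2.val

theorem ofV_lt (u : V3) : ofV u < 27 := by
  have h1 := ZMod.val_lt u.1
  have h2 := ZMod.val_lt u.2.1
  have h3 := ZMod.val_lt u.2.2
  simp only [ofV]
  omega

theorem toV_ofV : ∀ u : V3, toV (ofV u) = u := by decide +kernel

theorem ofV_toV : ∀ x < 27, ofV (toV x) = x := by decide +kernel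

theorem toV_zero : toV 0 = (0, 0, 0) := rfl

theorem cast_idx (i j k : ℕ) : toV (Search.idx i j k) = ((i : ZMod 3), (j : ZMod 3), (k : ZMod 3)) := by
  simp only [toV, Search.idx]
  refine Prod.ext ?_ (Prod.ext ?_ ?_) <;> dsimp only <;>
    rw [ZMod.natCast_eq_natCast_iff', ] <;> omega

theorem toV_mulP (b x y : ℕ) (hy : y < 27) :
    toV (Search.mulP b x y) = mulV (b : ZMod 3) (toV x) (toV y) := by
  rw [Search.mulP, if_pos hy, cast_idx]
  simp only [mulV, toV, Nat.cast_add, Nat.cast_mul, Nat.cast_ofNat, ZMod.natCast_mod]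

theorem mulP_lt_27 (b x y : ℕ) (hy : y < 27) : Search.mulP b x y < 27 := by
  rw [Search.mulP, if_pos hy, Search.idx]; omega

theorem toV_negP (x : ℕ) :
    toV (Search.negP x) = (-(toV x).1, -(toV x).2.1, -(toV x).2.2) := by
  have h2 : (2 : ZMod 3) = -1 := rfl
  rw [Search.negP, cast_idx]
  simp only [toV, Nat.cast_mul, Nat.cast_ofNat, ZMod.natCast_mod, h2, neg_one_mul]

theorem negP_lt (x : ℕ) : Search.negP x < 27 := by
  rw [Search.negP, Search.idx]; omega

/-- The matrix of four entries. -/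
def matOf (m : ℕ × ℕ × ℕ × ℕ) : M2 :=
  !![(m.1 : ZMod 3), (m.2.1 : ZMod 3); (m.2.2.1 : ZMod 3), (m.2.2.2 : ZMod 3)]

theorem toV_actP (g : (ℕ × ℕ × ℕ × ℕ) × ℕ) (x : ℕ) (hx : x < 27) :
    toV (Search.actP g x) = actV (matOf g.1) (g.2 : ZMod 3) (toV x) := by
  rw [Search.actP, if_pos hx, cast_idx]
  simp only [actV, toV, matOf, Nat.cast_add, Nat.cast_mul, ZMod.natCast_mod, Matrix.of_apply,
    Matrix.cons_val', Matrix.cons_val_zero, Matrix.cons_val_one, Matrix.cons_val_fin_one]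

theorem actP_lt_27 (g : (ℕ × ℕ × ℕ × ℕ) × ℕ) (x : ℕ) (hx : x < 27) : Search.actP g x < 27 := by
  rw [Search.actP, if_pos hx, Search.idx]; omega

end Cfsg.Agent.Char.GTwoSpectrum
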