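import Cfsg.Agent.Lib.Small.DegreeSearch

/-!
# Degrees and involution values for the order 6048
-/

set_option autoImplicit false

namespace Cfsg.Agent.Char.GTwoSpectrum

open Cfsg.Agent.Small

/-- The possible signed degrees of non-exceptional characters. -/
def degX : List ℤ := [-6, 8, -27, 36, -48]

/-- The possible signed degrees of the exceptional characters. -/
def degY : List ℤ := [-3, 4, 18, -24, 32]

theorem deg_complete : ∀ d ∈ DegreeSearch.divs 6048, 1 < d → d * d < 6048 → ∀ s ∈ [(1 : ℤ), -1],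
    ((s * (d : ℤ) - 1) % 7 = 0 → s * (d : ℤ) ∈ degX) ∧
      ((s * (d : ℤ) + 3) % 7 = 0 → s * (d : ℤ) ∈ degY) := by
  decide +kernel

/-- The candidate signed values for a signed degree. -/
def valsOf (a : ℤ) : List ℤ :=
  ((List.range (2 * a.natAbs + 1)).map fun i : ℕ => (i : ℤ) - a.natAbs).filter fun z =>
    decide (z.natAbs < a.natAbs ∧ (a - z) % 4 = 0)

/-- The two degree patterns, with the values allowed in the second. -/
def okVal (a b za zb zt : ℤ) : Bool :=
  decide ((a = -6 ∧ b = 8) ∨ (a = 8 ∧ b = -6) ∨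
    (a = -6 ∧ b = -27 ∧ ((za = 2 ∧ zb = -3 ∧ zt = 0) ∨ (za = -2 ∧ zb = -15 ∧ zt = 16))) ∨
    (a = -27 ∧ b = -6 ∧ ((zb = 2 ∧ za = -3 ∧ zt = 0) ∨ (zb = -2 ∧ za = -15 ∧ zt = 16))))

/-- The test. -/
def valCheck : Bool :=
  degX.all fun a => degX.all fun b => degY.all fun t =>
    if 1 + a + b + t = 0 then
      (valsOf a).all fun za => (valsOf b).all fun zb =>
        if a * b * t + za * za * b * t + zb * zb * a * t + (1 + za + zb) * (1 + za + zb) * a * b = 0 ∧
            (1 + za + zb).natAbs < t.natAbs ∧ (t + (1 + za + zb)) % 4 = 0 then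
          okVal a b za zb (-(1 + za + zb))
        else true
    else true

theorem valCheck_eq : valCheck = true := by decide +kernel

end Cfsg.Agent.Char.GTwoSpectrum
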