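import Cfsg.Agent.Lib.Char.GroupAlg
import Cfsg.Agent.Lib.Char.Ortho
import Cfsg.Agent.Lib.Char.BrauerHom
import Cfsg.Agent.Lib.Char.Degree

/-!
# The number of factorisations of an element as a product of two conjugates of an involution
-/

set_option autoImplicit false

namespace Cfsg.Agent.Char.GTwoSpectrum

open Cfsg Cfsg.Agent.Char
open scoped ComplexConjugate

universe u

variable {G : Type u} [Group G] [Fintype G]

open scoped _root_.Classical in
/-- The factorisations of `y` in the class of `s`. -/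
noncomputable def pairs (s y : G) : Finset G :=
  Finset.univ.filter fun g => IsConj s g ∧ IsConj s (g⁻¹ * y)

theorem mem_pairs {s y g : G} : g ∈ pairs s y ↔ IsConj s g ∧ IsConj s (g⁻¹ * y) := by
  classical
  simp [pairs]

theorem classInd_class (s : G) : IsClassFunction G (classInd s : G → ℂ) := by
  classical
  intro a k
  exact if_congr ⟨fun h => h.trans (isConj_iff.mpr ⟨k⁻¹, by simp [mul_assoc]⟩),
    fun h => h.trans (isConj_iff.mpr ⟨k, rfl⟩)⟩ rfl rfl

/-- The class algebra formula. -/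
theorem pairs_formula (s y : G) (hreal : ∀ χ : IrrCharacter G, conj ((χ : G → ℂ) s) = (χ : G → ℂ) s) :
    (Nat.card G : ℂ) * ((pairs s y).card : ℂ) = (Nat.card {x : G // IsConj s x} : ℂ) ^ 2 *
      ∑ χ : IrrCharacter G, ((χ : G → ℂ) s) ^ 2 / (χ : G → ℂ) 1 * (χ : G → ℂ) y := by
  classical
  set K : ℕ := Nat.card {x : G // IsConj s x} with hK
  set F : G → ℂ := conv (classInd s) (classInd s) with hF
  have hclI := classInd_class s
  have hclF : IsClassFunction G F := isClassFunction_conv hclI hclI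
  have hlam : ∀ χ : IrrCharacter G, lam (χ : G → ℂ) (classInd s) =
      (K : ℂ) * (χ : G → ℂ) s / (χ : G → ℂ) 1 := fun χ => by
    rw [lam]
    simp only [classInd, ite_mul, one_mul, zero_mul, ← Finset.sum_filter]
    rw [Finset.sum_congr rfl (g := fun _ => (χ : G → ℂ) s) fun x hx => ?_, Finset.sum_const,
      nsmul_eq_mul, hK, Nat.card_eq_fintype_card, Fintype.card_subtype]
    obtain ⟨c, rfl⟩ := isConj_iff.mp (Finset.mem_filter.mp hx).2
    rw [isClassFunction_character (irr_isCharacter χ.2)]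
  have hrealF : ∀ g, conj (F g) = F g := fun g => by
    simp only [hF, conv, map_sum, map_mul, classInd, apply_ite conj, map_one, map_zero]
  have hin : ∀ χ : IrrCharacter G, classInner F (χ : G → ℂ) =
      ((Nat.card G : ℂ)⁻¹ * (K : ℂ) ^ 2) * (((χ : G → ℂ) s) ^ 2 / (χ : G → ℂ) 1) := fun χ => by
    have h1 : lam (χ : G → ℂ) F = ((K : ℂ) * (χ : G → ℂ) s / (χ : G → ℂ) 1) ^ 2 := by
      rw [hF, lam_conv χ.2 hclI hclI, hlam, pow_two]
    rw [lam, div_eq_iff (irr_one_ne_zero χ.2)] at h1
    have h2' : ∑ g : G, F g * conj ((χ : G → ℂ) g) = conj (∑ g : G, F g * (χ : G → ℂ) g) := by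
      rw [map_sum]
      simp only [map_mul, hrealF]
    rw [classInner, h2', h1, char_one_eq_deg (irr_isCharacter χ.2)]
    simp only [map_mul, map_pow, map_div₀, map_natCast, hreal]
    have hq0 : (deg (χ : G → ℂ) : ℂ) ≠ 0 := Nat.cast_ne_zero.mpr (deg_pos χ.2).ne'
    field_simp
  have hFy : F y = ((pairs s y).card : ℂ) := by
    simp only [hF, conv, classInd, pairs, Finset.natCast_card_filter]
    refine Finset.sum_congr rfl fun g _ => ?_
    by_cases h1 : IsConj s g <;> by_cases h3 : IsConj s (g⁻¹ * y) <;>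
      simp only [h1, h3, if_true, if_false, mul_one, mul_zero, and_self, false_and, and_false]
  have h6 : F y = ∑ χ : IrrCharacter G, classInner F (χ : G → ℂ) * (χ : G → ℂ) y := by
    conv_lhs => rw [classFun_expansion hclF]
    simp [Finset.sum_apply]
  rw [hFy] at h6
  rw [h6, Finset.mul_sum, Finset.mul_sum]
  refine Finset.sum_congr rfl fun χ _ => ?_
  rw [hin]
  have hG0 : (Nat.card G : ℂ) ≠ 0 := Nat.cast_ne_zero.mpr Nat.card_pos.ne'
  field_simp

/-- An element normalising a cyclic subgroup of order seven, not centralising it, with square in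
the centraliser, inverts it. -/
theorem inverts_of_sq {y t : G} (hy : orderOf y = 7)
    (ht : t ∈ Subgroup.normalizer ((Subgroup.zpowers y : Subgroup G) : Set G))
    (ht2 : t * t = 1) (hne : ¬ Commute t y) : t * y * t⁻¹ = y⁻¹ := by
  obtain ⟨k, hk⟩ := Subgroup.mem_zpowers_iff.mp
    ((Subgroup.mem_normalizer_iff.mp ht y).mp (Subgroup.mem_zpowers y))
  have h1 : y ^ (k * k) = y ^ (1 : ℤ) := by
    rw [zpow_mul, hk, conj_zpow, hk, zpow_one,
      show t * (t * y * t⁻¹) * t⁻¹ = (t * t) * y * (t * t)⁻¹ by group, ht2]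
    simp
  rw [zpow_eq_zpow_iff_modEq, hy] at h1
  have h7 : (7 : ℤ) ∣ (k - 1) * (k + 1) := by
    have := Int.modEq_iff_dvd.mp h1.symm
    rw [show (k - 1) * (k + 1) = k * k - 1 by ring]
    exact_mod_cast this
  rcases (Int.prime_iff_natAbs_prime.mpr (by norm_num) : Prime (7 : ℤ)).dvd_or_dvd h7 with h | h
  · exfalso
    refine hne ?_
    have : t * y * t⁻¹ = y := by
      rw [← hk]
      conv_rhs => rw [← zpow_one y]
      rw [zpow_eq_zpow_iff_modEq, hy]
      exact (Int.modEq_iff_dvd.mpr (by exact_mod_cast h)).symm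
    exact mul_inv_eq_iff_eq_mul.mp this
  · rw [← hk, ← zpow_neg_one, zpow_eq_zpow_iff_modEq, hy]
    refine (Int.modEq_iff_dvd.mpr ?_).symm
    rw [sub_neg_eq_add]
    exact_mod_cast h

/-- Two elements inverting `y` differ by an element of its centraliser. -/
theorem inv_mul_mem_centralizer {y t g : G} (ht : t * y * t⁻¹ = y⁻¹) (hg : g * y * g⁻¹ = y⁻¹) :
    t⁻¹ * g ∈ Subgroup.centralizer ({y} : Set G) := by
  rw [Subgroup.mem_centralizer_singleton_iff]
  have h1 : g * y = t * y * t⁻¹ * g := by rw [ht, ← hg]; group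
  rw [mul_assoc, h1]
  group

/-- A factorisation of `y` into two conjugates of an involution inverts it. -/
theorem pairs_invert {s y g : G} (hs : s * s = 1) (hg : g ∈ pairs s y) :
    g * g = 1 ∧ g * y * g⁻¹ = y⁻¹ := by
  obtain ⟨h1, h3⟩ := mem_pairs.mp hg
  have hinvol : ∀ x : G, IsConj s x → x * x = 1 := fun x hx => by
    obtain ⟨c, rfl⟩ := isConj_iff.mp hx
    rw [show c * s * c⁻¹ * (c * s * c⁻¹) = c * (s * s) * c⁻¹ by group, hs]
    simp
  have e1 := hinvol g h1
  have hgi : g⁻¹ = g := inv_eq_of_mul_eq_one_right e1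
  have e2 := hinvol _ h3
  rw [hgi] at e2 ⊢
  refine ⟨e1, eq_inv_of_mul_eq_one_left ?_⟩
  rw [mul_assoc]
  exact e2

end Cfsg.Agent.Char.GTwoSpectrum
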