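import Cfsg.Agent.Lib.Char.GTwoSpectrum.Block
import Cfsg.Agent.Lib.Char.GTwoSpectrum.PairCount
import Cfsg.Agent.Lib.Char.GTwoSpectrum.DegreesData
import Cfsg.Agent.Lib.Char.SmallOrderGraph.Invol
import Cfsg.Agent.Lib.Char.GaloisConj
import Cfsg.Agent.Lib.Char.Congr

/-!
# The characters of degrees 6, 27 and 32 of a simple group of order 6048
-/

set_option autoImplicit false
set_option linter.style.haveILetI false

namespace Cfsg.Agent.Char.GTwoSpectrum

open Cfsg Cfsg.Agent Cfsg.Agent.Char Cfsg.Agent.Small.Order459648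
open scoped ComplexConjugate

universe u

variable {L : Type u} [Group L]

/-- A character with equal values at an element of order three and its square takes one of the
values `d - 3 j` there. -/
theorem three_value [Finite L] {χ : L → ℂ} (h : IsCharacter L χ) {x : L} (hx : x ^ 3 = 1)
    (heq : χ x = χ (x ^ 2)) :
    ∃ (j d : ℕ), 2 * j ≤ d ∧ χ 1 = d ∧ χ x = (d : ℂ) - 3 * j := by
  classical
  obtain ⟨n, ρ, rfl⟩ := h
  obtain ⟨μ, hμ, htr, -⟩ := exists_eigenvalues ρ x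
  obtain ⟨d, hd⟩ : ∃ d, d = Module.finrank ℂ (Fin n → ℂ) := ⟨_, rfl⟩
  revert μ
  rw [← hd]
  intro μ hμ htr
  have h1 : ρ.character x = ∑ i, μ i := by simpa using htr 1
  have h2 := htr 2
  have h0 : ρ.character 1 = (d : ℂ) := by rw [Representation.char_one, hd]
  set F := Finset.univ.filter fun i : Fin d => μ i ≠ 1 with hF
  have hmu : ∀ i, μ i + μ i ^ 2 = if μ i ≠ 1 then -1 else 2 := fun i => by
    by_cases hi : μ i = 1
    · rw [if_neg (not_not.mpr hi), hi]; norm_num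
    · rw [if_pos hi]
      have h3 : μ i ^ 3 = 1 := by
        obtain ⟨k, hk⟩ := orderOf_dvd_of_pow_eq_one hx
        rw [hk, pow_mul, hμ i, one_pow]
      have h4 : (μ i - 1) * (μ i + μ i ^ 2 + 1) = 0 := by linear_combination h3
      linear_combination (mul_eq_zero.mp h4).resolve_left (sub_ne_zero.mpr hi)
  have hsum : ρ.character x + ρ.character (x ^ 2) = 2 * (d : ℂ) - 3 * (F.card : ℂ) := by
    rw [h1, h2, ← Finset.sum_add_distrib, Finset.sum_congr rfl fun i _ => hmu i,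
      Finset.sum_ite, ← hF]
    simp only [Finset.sum_const, nsmul_eq_mul]
    have hc := Finset.card_filter_add_card_filter_not (s := (Finset.univ : Finset (Fin d))) (fun i => μ i ≠ 1)
    rw [← hF, Finset.card_univ, Fintype.card_fin] at hc
    have hc' : (F.card : ℂ) + ((Finset.univ.filter fun i : Fin d => ¬ μ i ≠ 1).card : ℂ) = d := by
      exact_mod_cast hc
    linear_combination 2 * hc'
  rw [← heq] at hsum
  have hint : IsIntegral ℤ (ρ.character x) := by
    rw [h1]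
    exact IsIntegral.sum _ fun i _ => root_of_unity_isIntegral (orderOf_pos x).ne' (hμ i)
  have hq : ρ.character x = (((2 * (d : ℚ) - 3 * F.card) / 2 : ℚ) : ℂ) := by
    push_cast
    linear_combination (1 / 2 : ℂ) * hsum
  rw [hq] at hint
  obtain ⟨z, hz⟩ := isIntegral_rat_cast_imp hint
  have hz' : 2 * z = 2 * (d : ℤ) - 3 * (F.card : ℤ) := by
    have : (2 : ℚ) * z = 2 * (d : ℚ) - 3 * F.card := by rw [hz]; ring
    exact_mod_cast this
  have hle : F.card ≤ d := (Finset.card_le_univ F).trans_eq (Fintype.card_fin d)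
  obtain ⟨j, hj⟩ : 2 ∣ F.card := by omega
  refine ⟨j, d, by omega, h0, ?_⟩
  rw [hq, hj]
  push_cast
  ring

/-- The characters of degrees 6, 27 and 32. -/
structure LChars [Fintype L] (c₆ c₂₇ c₃₂ : IrrCharacter L) : Prop where
  deg6 : (c₆ : L → ℂ) 1 = 6
  deg27 : (c₂₇ : L → ℂ) 1 = 27
  deg32 : (c₃₂ : L → ℂ) 1 = 32
  inv6 : ∀ t : L, orderOf t = 2 → (c₆ : L → ℂ) t = -2
  inv27 : ∀ t : L, orderOf t = 2 → (c₂₇ : L → ℂ) t = 3
  pow6 : ∀ g : L, (c₆ : L → ℂ) (g ^ 5) = (c₆ : L → ℂ) g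
  total : ∃ y : L, orderOf y = 7 ∧ ∀ φ : IrrCharacter L → ℂ,
    (∀ ψ ψ' : IrrCharacter L,
      (∀ g : L, ¬ 7 ∣ orderOf g → (ψ : L → ℂ) g = (ψ' : L → ℂ) g) → φ ψ = φ ψ') →
    ∑ χ : IrrCharacter L, φ χ * (χ : L → ℂ) y = φ oneChar - φ c₆ - φ c₂₇ + φ c₃₂

theorem apply_seven_ne_zero [Finite L] {χ : L → ℂ} (h : IsCharacter L χ) {d : ℕ} (hd : χ 1 = d)
    (h7 : ¬ 7 ∣ d) {g : L} (hg : orderOf g = 7) : χ g ≠ 0 := by
  intro h0
  obtain ⟨M, hM⟩ := exists_pModular (p := 7) (by norm_num)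
  haveI : Fact (Nat.Prime 7) := ⟨by norm_num⟩
  have h1 := char_congr_deg hM h (g := g) ⟨1, by rw [hg, pow_one]⟩
  rw [h0, hd, zero_sub] at h1
  have h2 := memLI_neg (pmod_prime hM) h1
  rw [neg_neg] at h2
  exact h7 ((memLI_natCast_iff hM d).mp h2)

theorem no_small_index [IsSimpleGroup L] [Finite L] (hL : Nat.card L = 6048) (H : Subgroup L)
    (hH : H ≠ ⊤) : 9 ≤ H.index := by
  by_contra hlt
  have h1 := Small.SmallOrders.card_dvd_index_factorial H hH
  rw [hL] at h1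
  have hle : H.index ≤ 8 := by omega
  revert h1
  interval_cases H.index <;> decide

variable [Fintype L]

theorem exists_LChars [IsSimpleGroup L] (h : Gap L) (hL : Nat.card L = 6048) :
    ∃ c₆ c₂₇ c₃₂ : IrrCharacter L, LChars c₆ c₂₇ c₃₂ := by
  classical
  haveI : Fact (Nat.Prime 7) := ⟨by norm_num⟩
  haveI : Fact (Nat.Prime 2) := ⟨Nat.prime_two⟩
  have hd : Nat.card L ∣ 12096 := by rw [hL]; norm_num
  have hna : ¬ IsMulCommutative L := Small.SmallOrders.not_comm_of_card (by rw [hL]; norm_num)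
  obtain ⟨y, e, B, Y, ε, θ, hy, he6, he1, hN, hB⟩ :=
    exists_sevenBlock h hd (by rw [hL]; norm_num) (by rw [hL]; norm_num)
  obtain rfl : e = 3 := by
    obtain ⟨P, hP⟩ := (IsPGroup.of_card (n := 1) (by rw [Nat.card_zpowers, hy, pow_one]) :
      IsPGroup 7 (Subgroup.zpowers y)).exists_le_sylow
    have hPc := Small.SmallOrders.sylow_card_eq (k := 1) (m := 864) (by rw [hL]; norm_num) (by norm_num) P
    have heq : Subgroup.zpowers y = (P : Subgroup L) :=
      Subgroup.eq_of_le_of_card_ge hP (by rw [show Nat.card (P : Subgroup L) = 7 ^ 1 from hPc,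
        Nat.card_zpowers, hy, pow_one])
    have hmod : Nat.card (Sylow 7 L) % 7 = 1 := card_sylow_modEq_one 7 L
    rw [Sylow.card_eq_index_normalizer P] at hmod
    replace hmod : (Subgroup.normalizer ((P : Subgroup L) : Set L)).index % 7 = 1 := hmod
    have hi := (Subgroup.normalizer ((P : Subgroup L) : Set L)).card_mul_index
    rw [← heq] at hmod hi
    rw [hN, hL] at hi
    have hle : e ≤ 6 := Nat.le_of_dvd (by norm_num) he6
    interval_cases e <;> omega
  have hval : ∀ χ : IrrCharacter L, (χ : L → ℂ) 1 = (deg (χ : L → ℂ) : ℂ) :=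
    fun χ => char_one_eq_deg (irr_isCharacter χ.2)
  have hdone : deg ((oneChar : IrrCharacter L) : L → ℂ) = 1 := charDegree_oneChar
  have hdpos : ∀ χ : IrrCharacter L, χ ≠ oneChar → 1 < deg (χ : L → ℂ) :=
    fun χ hne => one_lt_degree hna hne
  have h17 : ¬ 7 ∣ orderOf (1 : L) := by rw [orderOf_one]; norm_num
  have hdY : ∀ ψ ∈ Y, deg (ψ : L → ℂ) = deg (θ : L → ℂ) := fun ψ hψ => by
    have := hB.regY ψ hψ 1 h17
    rw [hval, hval] at this
    exact_mod_cast this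
  obtain ⟨θ', hθ', hθne⟩ : ∃ θ' ∈ Y, θ' ≠ θ :=
    Finset.exists_mem_ne (by rw [hB.cardY]; norm_num) θ
  have hθ1 : θ ≠ oneChar := fun e1 => by
    have := hdpos θ' (fun e2 => hθne (e2.trans e1.symm))
    rw [hdY θ' hθ', e1, hdone] at this
    exact lt_irrefl _ this
  obtain ⟨b, c, hbc, hBeq⟩ : ∃ b c, b ≠ c ∧ (B.erase oneChar).erase θ = {b, c} := by
    refine Finset.card_eq_two.mp ?_
    rw [Finset.card_erase_of_mem (Finset.mem_erase.mpr ⟨hθ1, hB.theta_mem⟩),
      Finset.card_erase_of_mem hB.one_mem, hB.cardB]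
  have hb : b ∈ (B.erase oneChar).erase θ := by rw [hBeq]; simp
  have hc : c ∈ (B.erase oneChar).erase θ := by rw [hBeq]; simp
  simp only [Finset.mem_erase] at hb hc
  obtain ⟨hbθ, hb1, hbB⟩ := hb
  obtain ⟨hcθ, hc1, hcB⟩ := hc
  have hsum : ∀ φ : IrrCharacter L → ℂ, ∑ χ ∈ B, (ε χ : ℂ) * φ χ =
      φ oneChar + (ε b : ℂ) * φ b + (ε c : ℂ) * φ c + (ε θ : ℂ) * φ θ := fun φ => by
    rw [← Finset.add_sum_erase B _ hB.one_mem,
      ← Finset.add_sum_erase (B.erase oneChar) _ (Finset.mem_erase.mpr ⟨hθ1, hB.theta_mem⟩), hBeq,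
      Finset.sum_pair hbc, hB.one_eps]
    push_cast
    ring
  -- degrees
  have hd2 : ∀ χ : IrrCharacter L, χ ≠ oneChar → deg (χ : L → ℂ) * deg (χ : L → ℂ) < 6048 := by
    intro χ hne
    have h5 := Finset.sum_le_univ_sum_of_nonneg (s := ({oneChar, χ} : Finset (IrrCharacter L)))
      (f := fun χ : IrrCharacter L => Complex.normSq ((χ : L → ℂ) 1))
      (fun χ => Complex.normSq_nonneg _)
    rw [sum_normSq_all, Finset.sum_pair (Ne.symm hne), hval, hval, hdone, Complex.normSq_natCast,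
      Complex.normSq_natCast] at h5
    have hc' : Nat.card (Subgroup.centralizer ({(1 : L)} : Set L)) ≤ 6048 :=
      hL ▸ Subgroup.card_le_card_group _
    have h6 : ((1 * 1 + deg (χ : L → ℂ) * deg (χ : L → ℂ) : ℕ) : ℝ) ≤ ((6048 : ℕ) : ℝ) := by
      push_cast
      refine le_trans (le_trans (le_of_eq ?_) h5) (by exact_mod_cast hc')
      norm_num
    have := Nat.cast_le.mp h6
    omega
  have hs : ∀ χ ∈ B, ε χ ∈ [(1 : ℤ), -1] := fun χ hχ => by
    rcases hB.sign χ hχ with e1 | e1 <;> simp [e1]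
  have hDX : ∀ χ ∈ B, χ ≠ oneChar → χ ≠ θ → ε χ * (deg (χ : L → ℂ) : ℤ) ∈ degX := fun χ hχ h1 h2 =>
    (deg_complete _ (Small.DegreeSearch.mem_divs (by norm_num) (hL ▸ deg_dvd_card χ.2))
      (hdpos χ h1) (hd2 χ h1) (ε χ) (hs χ hχ)).1 (Int.emod_eq_zero_of_dvd (hB.congr χ hχ h2))
  have hDY : ε θ * (deg (θ : L → ℂ) : ℤ) ∈ degY :=
    (deg_complete _ (Small.DegreeSearch.mem_divs (by norm_num) (hL ▸ deg_dvd_card θ.2))
      (hdpos θ hθ1) (hd2 θ hθ1) (ε θ) (hs θ hB.theta_mem)).2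
      (Int.emod_eq_zero_of_dvd (by exact_mod_cast hB.congr_theta))
  -- values at an involution
  have key : ∀ t : L, orderOf t = 2 → ∃ zb zc zt : ℤ,
      (b : L → ℂ) t = ((ε b * zb : ℤ) : ℂ) ∧ (c : L → ℂ) t = ((ε c * zc : ℤ) : ℂ) ∧
      (θ : L → ℂ) t = ((ε θ * zt : ℤ) : ℂ) ∧
      okVal (ε b * (deg (b : L → ℂ) : ℤ)) (ε c * (deg (c : L → ℂ) : ℤ)) zb zc zt = true ∧
      zt = -(1 + zb + zc) := by
    intro t hto
    have htt : t * t = 1 := by rw [← pow_two, ← hto, pow_orderOf_eq_one]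
    have ht7 : ¬ 7 ∣ orderOf t := by rw [hto]; norm_num
    obtain ⟨ub, hub, hb4, hblt⟩ := SmallOrderGraph.invol_value hna hb1 hto
    obtain ⟨uc, huc, hc4, hclt⟩ := SmallOrderGraph.invol_value hna hc1 hto
    obtain ⟨ut, hut, ht4, htlt⟩ := SmallOrderGraph.invol_value hna hθ1 hto
    have hreal : ∀ χ : IrrCharacter L, conj ((χ : L → ℂ) t) = (χ : L → ℂ) t := fun χ => by
      obtain ⟨z, d, hz, -⟩ := Small.InvolutionSearch.invol_facts (irr_isCharacter χ.2)
        (show t ^ 2 = 1 by rw [pow_two, htt])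
      rw [hz, map_intCast]
    have hempty : pairs t y = ∅ := by
      rw [Finset.eq_empty_iff_forall_notMem]
      intro g hg
      obtain ⟨hgg, hgy⟩ := pairs_invert htt hg
      have hg1 : g ≠ 1 := fun e1 => by
        rw [e1, one_mul, inv_one, mul_one, eq_inv_iff_mul_eq_one, ← pow_two] at hgy
        have := orderOf_dvd_of_pow_eq_one hgy
        rw [hy] at this
        norm_num at this
      have hgN : g ∈ Subgroup.normalizer ((Subgroup.zpowers y : Subgroup L) : Set L) := by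
        rw [Subgroup.mem_normalizer_iff_map_conj_eq, MonoidHom.map_zpowers]
        show Subgroup.zpowers (g * y * g⁻¹) = _
        rw [hgy, Subgroup.zpowers_inv]
      have h2 : orderOf g = 2 := by
        rcases (Nat.dvd_prime Nat.prime_two).mp (orderOf_dvd_of_pow_eq_one (x := g) (n := 2) (by rw [pow_two, hgg]))
          with e1 | e1
        · exact absurd (orderOf_eq_one_iff.mp e1) hg1
        · exact e1
      have := Subgroup.orderOf_dvd_natCard _ hgN
      rw [h2, hN] at this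
      norm_num at this
    have h6 := pairs_formula t y hreal
    rw [hempty, Finset.card_empty, Nat.cast_zero, mul_zero, eq_comm, mul_eq_zero, or_iff_right
      (pow_ne_zero 2 (Nat.cast_ne_zero.mpr (show Nat.card {x : L // IsConj t x} ≠ 0 by
        haveI : Nonempty {x : L // IsConj t x} := ⟨⟨t, IsConj.refl t⟩⟩
        rw [Nat.card_eq_fintype_card]
        exact Fintype.card_ne_zero))),
      hB.total (fun χ => ((χ : L → ℂ) t) ^ 2 / (χ : L → ℂ) 1) (fun ψ hψ => by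
        simp only [hB.regY ψ hψ t ht7, hB.regY ψ hψ 1 h17]), hsum] at h6
    have hrel := hB.rel t ht7
    rw [hsum] at hrel
    have hone : ∀ g : L, ((oneChar : IrrCharacter L) : L → ℂ) g = 1 := fun g => rfl
    simp only [hone, hub, huc, hut, hval, hdone, Nat.cast_one, one_pow, div_one] at h6 hrel
    have hrelZ : 1 + ε b * ub + ε c * uc + ε θ * ut = 0 := by exact_mod_cast hrel
    have hrel1 := hB.rel 1 h17
    rw [hsum] at hrel1
    simp only [hval, hdone, Nat.cast_one] at hrel1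
    have hrel1Z : 1 + ε b * (deg (b : L → ℂ) : ℤ) + ε c * (deg (c : L → ℂ) : ℤ) +
        ε θ * (deg (θ : L → ℂ) : ℤ) = 0 := by exact_mod_cast hrel1
    have hdb : (deg (b : L → ℂ) : ℂ) ≠ 0 := Nat.cast_ne_zero.mpr (deg_pos b.2).ne'
    have hdc : (deg (c : L → ℂ) : ℂ) ≠ 0 := Nat.cast_ne_zero.mpr (deg_pos c.2).ne'
    have hdt : (deg (θ : L → ℂ) : ℂ) ≠ 0 := Nat.cast_ne_zero.mpr (deg_pos θ.2).ne'
    have eb : (ε b : ℂ) * (ε b : ℂ) = 1 := by rcases hB.sign b hbB with e1 | e1 <;> simp [e1]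
    have ec : (ε c : ℂ) * (ε c : ℂ) = 1 := by rcases hB.sign c hcB with e1 | e1 <;> simp [e1]
    have et : (ε θ : ℂ) * (ε θ : ℂ) = 1 := by rcases hB.sign θ hB.theta_mem with e1 | e1 <;> simp [e1]
    have hsab : ∀ χ ∈ B, ∀ z : ℤ, (ε χ * z).natAbs = z.natAbs := fun χ hχ z => by
      rcases hB.sign χ hχ with e1 | e1 <;> simp [e1]
    obtain ⟨A, hA⟩ : ∃ A, A = ε b * (deg (b : L → ℂ) : ℤ) := ⟨_, rfl⟩
    obtain ⟨C, hC⟩ : ∃ C, C = ε c * (deg (c : L → ℂ) : ℤ) := ⟨_, rfl⟩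
    obtain ⟨T, hT⟩ : ∃ T, T = ε θ * (deg (θ : L → ℂ) : ℤ) := ⟨_, rfl⟩
    obtain ⟨za, hza⟩ : ∃ za, za = ε b * ub := ⟨_, rfl⟩
    obtain ⟨zc, hzc⟩ : ∃ zc, zc = ε c * uc := ⟨_, rfl⟩
    have hzt : ε θ * ut = -(1 + za + zc) := by omega
    have heq : A * C * T + za * za * C * T + zc * zc * A * T +
        (1 + za + zc) * (1 + za + zc) * A * C = 0 := by
      have : ((A * C * T + za * za * C * T + zc * zc * A * T +
          (ε θ * ut) * (ε θ * ut) * A * C : ℤ) : ℂ) = ((0 : ℤ) : ℂ) := by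
        rw [hA, hC, hT, hza, hzc]
        push_cast
        linear_combination ((ε b : ℂ) * (ε c : ℂ) * (ε θ : ℂ) * deg (b : L → ℂ) * deg (c : L → ℂ) * deg (θ : L → ℂ)) * h6
          - ((ε b : ℂ) ^ 2 * (ε c : ℂ) * (ε θ : ℂ) * deg (c : L → ℂ) * deg (θ : L → ℂ)) *
              (div_mul_cancel₀ ((ub : ℂ) ^ 2) hdb)
          - ((ε b : ℂ) * (ε c : ℂ) ^ 2 * (ε θ : ℂ) * deg (b : L → ℂ) * deg (θ : L → ℂ)) *
              (div_mul_cancel₀ ((uc : ℂ) ^ 2) hdc)
          - ((ε b : ℂ) * (ε c : ℂ) * (ε θ : ℂ) ^ 2 * deg (b : L → ℂ) * deg (c : L → ℂ)) *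
              (div_mul_cancel₀ ((ut : ℂ) ^ 2) hdt)
      rw [hzt] at this
      have h9 : A * C * T + za * za * C * T + zc * zc * A * T +
          (-(1 + za + zc)) * (-(1 + za + zc)) * A * C = 0 := by exact_mod_cast this
      linear_combination h9
    have hmem : ∀ χ ∈ B, ∀ z : ℤ, z.natAbs < deg (χ : L → ℂ) →
        (4 : ℤ) ∣ (deg (χ : L → ℂ) : ℤ) - z →
        ε χ * z ∈ valsOf (ε χ * (deg (χ : L → ℂ) : ℤ)) := by
      intro χ hχ z hz h4
      simp only [valsOf, List.mem_filter, List.mem_map, List.mem_range, decide_eq_true_eq, hsab χ hχ,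
        Int.natAbs_natCast]
      refine ⟨⟨(ε χ * z + deg (χ : L → ℂ)).toNat, ?_, ?_⟩, hz, ?_⟩
      · rcases hB.sign χ hχ with e1 | e1 <;> rw [e1] <;> omega
      · rcases hB.sign χ hχ with e1 | e1 <;> rw [e1] <;> omega
      · rw [show ε χ * (deg (χ : L → ℂ) : ℤ) - ε χ * z = ε χ * ((deg (χ : L → ℂ) : ℤ) - z) by ring]
        exact Int.emod_eq_zero_of_dvd (dvd_mul_of_dvd_right h4 _)
    have hchk := valCheck_eq
    simp only [valCheck, List.all_eq_true] at hchk
    have h7 := hchk A (hA ▸ hDX b hbB hb1 hbθ) C (hC ▸ hDX c hcB hc1 hcθ) T (hT ▸ hDY)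
    rw [if_pos (by omega), List.all_eq_true] at h7
    have h8 := h7 za (hza ▸ hA ▸ hmem b hbB ub hblt hb4)
    rw [List.all_eq_true] at h8
    have h9 := h8 zc (hzc ▸ hC ▸ hmem c hcB uc hclt hc4)
    rw [if_pos ⟨heq, by
        rw [← Int.natAbs_neg, ← hzt, hsab θ hB.theta_mem, hT, hsab θ hB.theta_mem, Int.natAbs_natCast]
        exact htlt, by
        rw [hT, show 1 + za + zc = -(ε θ * ut) by omega,
          show ε θ * (deg (θ : L → ℂ) : ℤ) + -(ε θ * ut) = ε θ * ((deg (θ : L → ℂ) : ℤ) - ut) by ring]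
        exact Int.emod_eq_zero_of_dvd (dvd_mul_of_dvd_right ht4 _)⟩] at h9
    refine ⟨za, zc, -(1 + za + zc), ?_, ?_, ?_, hA ▸ hC ▸ h9, rfl⟩
    · rw [hub, hza]; push_cast; linear_combination (-(ub : ℂ)) * eb
    · rw [huc, hzc]; push_cast; linear_combination (-(uc : ℂ)) * ec
    · rw [hut, ← hzt]; push_cast; linear_combination (-(ut : ℂ)) * et
  obtain ⟨t₀, ht₀⟩ := exists_prime_orderOf_dvd_card' (G := L) 2 (by rw [hL]; norm_num)
  obtain ⟨zb₀, zc₀, zt₀, -, -, -, hok₀, -⟩ := key t₀ ht₀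
  simp only [okVal, decide_eq_true_eq] at hok₀
  -- the pattern with degree three is impossible
  have hnotA : ¬ ((ε b * (deg (b : L → ℂ) : ℤ) = -6 ∧ ε c * (deg (c : L → ℂ) : ℤ) = 8) ∨
      (ε b * (deg (b : L → ℂ) : ℤ) = 8 ∧ ε c * (deg (c : L → ℂ) : ℤ) = -6)) := by
    intro hA
    have hrel1 := hB.rel 1 h17
    rw [hsum] at hrel1
    simp only [hval, hdone, Nat.cast_one] at hrel1
    have hrel1Z : 1 + ε b * (deg (b : L → ℂ) : ℤ) + ε c * (deg (c : L → ℂ) : ℤ) +
        ε θ * (deg (θ : L → ℂ) : ℤ) = 0 := by exact_mod_cast hrel1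
    have h3 : deg (θ : L → ℂ) = 3 := by
      rcases hB.sign θ hB.theta_mem with e1 | e1 <;> rw [e1] at hrel1Z <;> omega
    have hdb : deg (b : L → ℂ) = 6 ∨ deg (b : L → ℂ) = 8 := by
      rcases hB.sign b hbB with e1 | e1 <;> rw [e1] at hA <;> omega
    have hdc : deg (c : L → ℂ) = 6 ∨ deg (c : L → ℂ) = 8 := by
      rcases hB.sign c hcB with e1 | e1 <;> rw [e1] at hA <;> omega
    let ψ : IrrCharacter L := ⟨_, isIrrCharacter_pow θ.2 (k := 5) (by rw [hL]; norm_num)⟩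
    have hψ1 : (ψ : L → ℂ) 1 = ((3 : ℕ) : ℂ) := by
      show (θ : L → ℂ) (1 ^ 5) = _
      rw [one_pow, hval, h3]
    have hψY : ψ ∈ Y := by
      by_contra hψY
      have hψB : ψ ∈ B := by
        by_contra hψB
        exact apply_seven_ne_zero (irr_isCharacter ψ.2) hψ1 (by norm_num) hy (hB.vanish ψ hψB hψY)
      have hne1 : ψ ≠ oneChar := fun e1 => by
        rw [e1] at hψ1
        norm_num [show ((oneChar : IrrCharacter L) : L → ℂ) 1 = 1 from rfl] at hψ1
      have hneθ : ψ ≠ θ := fun e1 => hψY (e1 ▸ hB.theta_Y)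
      have hmem : ψ ∈ ({b, c} : Finset (IrrCharacter L)) := hBeq ▸
        Finset.mem_erase.mpr ⟨hneθ, Finset.mem_erase.mpr ⟨hne1, hψB⟩⟩
      rw [hval] at hψ1
      have hψ3 : deg (ψ : L → ℂ) = 3 := by exact_mod_cast hψ1
      rcases Finset.mem_insert.mp hmem with e1 | e1
      · rw [e1] at hψ3; omega
      · rw [Finset.mem_singleton.mp e1] at hψ3; omega
    haveI : Fact (Nat.Prime 3) := ⟨Nat.prime_three⟩
    obtain ⟨P⟩ := (inferInstance : Nonempty (Sylow 3 L))
    have hPc := Small.SmallOrders.sylow_card_eq (k := 3) (m := 224) (by rw [hL]; norm_num) (by norm_num) P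
    have hv : ∀ x : ↥(P : Subgroup L), x ≠ 1 → (θ : L → ℂ) x = 0 := by
      intro x hx
      have hdvd : orderOf (x : L) ∣ 3 ^ 3 := by
        rw [← hPc]; exact (P : Subgroup L).orderOf_dvd_natCard x.2
      obtain ⟨i, hi, hio⟩ := (Nat.dvd_prime_pow Nat.prime_three).mp hdvd
      have hi1 : i ≤ 1 := by
        by_contra hi2
        refine (h ((x : L) ^ (3 ^ (i - 2)))).1 ?_
        rw [orderOf_pow_of_dvd (pow_ne_zero _ (by norm_num)) (hio ▸ pow_dvd_pow 3 (by omega)), hio,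
          show 3 ^ i = 3 ^ (i - 2) * 9 by rw [show (9 : ℕ) = 3 ^ 2 by norm_num, ← pow_add]; congr 1; omega,
          Nat.mul_div_cancel_left _ (pow_pos (by norm_num) _)]
      have h3x : (x : L) ^ 3 = 1 := orderOf_dvd_iff_pow_eq_one.mp (hio ▸ by
        simpa using pow_dvd_pow 3 hi1)
      have h7x : ¬ 7 ∣ orderOf (x : L) := fun h7 => by
        have := h7.trans (orderOf_dvd_of_pow_eq_one h3x)
        norm_num at this
      have heq : (θ : L → ℂ) x = (θ : L → ℂ) ((x : L) ^ 2) := by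
        rw [← hB.regY ψ hψY _ h7x]
        show (θ : L → ℂ) ((x : L) ^ 5) = _
        rw [show (5 : ℕ) = 3 + 2 from rfl, pow_add, h3x, one_mul]
      obtain ⟨j, d, hjd, hd1, hxv⟩ := three_value (irr_isCharacter θ.2) h3x heq
      rw [hval, h3] at hd1
      obtain rfl : d = 3 := by exact_mod_cast hd1.symm
      rcases (show j = 0 ∨ j = 1 by omega) with rfl | rfl
      · exfalso
        refine hx (Subtype.ext (faithful hθ1 (by show deg (θ : L → ℂ) ≠ 1; omega) (x : L) ?_))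
        rw [hxv, hval, h3]; norm_num
      · rw [hxv]; norm_num
    obtain ⟨n, hn⟩ := exists_sum_on_sylow (P := P) θ
    rw [Finset.sum_eq_single_of_mem (1 : ↥(P : Subgroup L)) (Finset.mem_univ _) (fun x _ hx => hv x hx),
      OneMemClass.coe_one, hval, h3, show Nat.card P = 3 ^ 3 from hPc] at hn
    have : 3 = 3 ^ 3 * n := by exact_mod_cast hn
    omega
  -- the pattern with degrees 6, 27, 32
  obtain ⟨c₆, c₂₇, hswap, hd6, hd27⟩ : ∃ c₆ c₂₇ : IrrCharacter L,
      ((c₆ = b ∧ c₂₇ = c) ∨ (c₆ = c ∧ c₂₇ = b)) ∧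
      ε c₆ * (deg (c₆ : L → ℂ) : ℤ) = -6 ∧ ε c₂₇ * (deg (c₂₇ : L → ℂ) : ℤ) = -27 := by
    rcases hok₀ with h' | h' | ⟨h', h'', -⟩ | ⟨h', h'', -⟩
    · exact absurd (Or.inl h') hnotA
    · exact absurd (Or.inr h') hnotA
    · exact ⟨b, c, Or.inl ⟨rfl, rfl⟩, h', h''⟩
    · exact ⟨c, b, Or.inr ⟨rfl, rfl⟩, h'', h'⟩
  have h6B : c₆ ∈ B ∧ c₆ ≠ oneChar := by
    rcases hswap with ⟨e1, -⟩ | ⟨e1, -⟩ <;> subst e1 <;> exact ⟨by assumption, by assumption⟩
  have h27B : c₂₇ ∈ B ∧ c₂₇ ≠ oneChar := by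
    rcases hswap with ⟨-, e1⟩ | ⟨-, e1⟩ <;> subst e1 <;> exact ⟨by assumption, by assumption⟩
  have e6 : ε c₆ = -1 ∧ deg (c₆ : L → ℂ) = 6 := by
    rcases hB.sign c₆ h6B.1 with e1 | e1 <;> rw [e1] at hd6 <;> omega
  have e27 : ε c₂₇ = -1 ∧ deg (c₂₇ : L → ℂ) = 27 := by
    rcases hB.sign c₂₇ h27B.1 with e1 | e1 <;> rw [e1] at hd27 <;> omega
  have hrel1 := hB.rel 1 h17
  rw [hsum] at hrel1
  simp only [hval, hdone, Nat.cast_one] at hrel1
  have hrel1Z : 1 + ε b * (deg (b : L → ℂ) : ℤ) + ε c * (deg (c : L → ℂ) : ℤ) +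
      ε θ * (deg (θ : L → ℂ) : ℤ) = 0 := by exact_mod_cast hrel1
  have et : ε θ = 1 ∧ deg (θ : L → ℂ) = 32 := by
    rcases hswap with ⟨r1, r2⟩ | ⟨r1, r2⟩ <;> subst r1 <;> subst r2 <;>
      rcases hB.sign θ hB.theta_mem with e1 | e1 <;> rw [e1] at hrel1Z <;> rw [e1] <;> omega
  have hinv : ∀ t : L, orderOf t = 2 → (c₆ : L → ℂ) t = -2 ∧ (c₂₇ : L → ℂ) t = 3 := by
    intro t ht
    obtain ⟨zb, zc, zt, hzb, hzc, hzt, hok, -⟩ := key t ht
    simp only [okVal, decide_eq_true_eq] at hok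
    have hbig : ∀ u v : ℂ, (θ : L → ℂ) t = 16 → (c₂₇ : L → ℂ) t = 15 → False := by
      intro _ _ h16 h15
      have ht7 : ¬ 7 ∣ orderOf t := by rw [ht]; norm_num
      have h5 := Finset.sum_le_univ_sum_of_nonneg (s := ({θ, θ', c₂₇} : Finset (IrrCharacter L)))
        (f := fun χ : IrrCharacter L => Complex.normSq ((χ : L → ℂ) t))
        (fun χ => Complex.normSq_nonneg _)
      have hn1 : θ ∉ ({θ', c₂₇} : Finset (IrrCharacter L)) := by
        simp only [Finset.mem_insert, Finset.mem_singleton, not_or]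
        exact ⟨Ne.symm hθne, fun e1 => by rw [e1] at et; omega⟩
      have hn2 : θ' ∉ ({c₂₇} : Finset (IrrCharacter L)) := by
        rw [Finset.mem_singleton]
        intro e1
        have := hdY θ' hθ'
        rw [e1] at this
        omega
      rw [sum_normSq_all, Finset.sum_insert hn1, Finset.sum_insert hn2, Finset.sum_singleton,
        hB.regY θ' hθ' t ht7, h16, h15] at h5
      have h6 : (737 : ℝ) ≤ (Nat.card (Subgroup.centralizer ({t} : Set L)) : ℝ) := by
        refine le_trans (le_of_eq ?_) h5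
        norm_num [Complex.normSq_ofNat]
      have h7 : 737 ≤ Nat.card (Subgroup.centralizer ({t} : Set L)) := by exact_mod_cast h6
      have hne : Subgroup.centralizer ({t} : Set L) ≠ ⊤ := fun e1 => by
        have ht1 : t ∈ Subgroup.center L := Subgroup.mem_center_iff.mpr fun g =>
          Subgroup.mem_centralizer_singleton_iff.mp (e1 ▸ Subgroup.mem_top g)
        rw [Small.SmallOrders.center_eq_bot hna, Subgroup.mem_bot] at ht1
        rw [ht1, orderOf_one] at ht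
        norm_num at ht
      have h9 := no_small_index hL _ hne
      have h10 := (Subgroup.centralizer ({t} : Set L)).card_mul_index
      rw [hL] at h10
      have := Nat.mul_le_mul h7 h9
      omega
    rcases hok with ⟨r1, r2⟩ | ⟨r1, r2⟩ | ⟨r1, r2, hz⟩ | ⟨r1, r2, hz⟩
    · exact absurd (Or.inl ⟨r1, r2⟩) hnotA
    · exact absurd (Or.inr ⟨r1, r2⟩) hnotA
    all_goals
      rcases hswap with ⟨s1, s2⟩ | ⟨s1, s2⟩ <;> subst s1 <;> subst s2
      all_goals
        first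
          | omega
          | (rcases hz with ⟨z1, z2, z3⟩ | ⟨z1, z2, z3⟩
             · constructor <;> first
                 | (rw [hzb, e6.1]; simp [z1, z2]; done) | (rw [hzc, e6.1]; simp [z1, z2]; done)
                 | (rw [hzb, e27.1]; simp [z1, z2]; done) | (rw [hzc, e27.1]; simp [z1, z2]; done)
             · exfalso
               refine hbig 0 0 (by rw [hzt, et.1, z3]; norm_num) ?_
               first
                 | (rw [hzb, e27.1]; simp [z1, z2]; done) | (rw [hzc, e27.1]; simp [z1, z2]; done))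
  refine ⟨c₆, c₂₇, θ, ⟨by rw [hval, e6.2]; norm_num, by rw [hval, e27.2]; norm_num,
    by rw [hval, et.2]; norm_num, fun t ht => (hinv t ht).1, fun t ht => (hinv t ht).2, ?_, y, hy, ?_⟩⟩
  · intro g
    let ψ : IrrCharacter L := ⟨_, isIrrCharacter_pow c₆.2 (k := 5) (by rw [hL]; norm_num)⟩
    have hψ1 : (ψ : L → ℂ) 1 = ((6 : ℕ) : ℂ) := by
      show (c₆ : L → ℂ) (1 ^ 5) = _
      rw [one_pow, hval, e6.2]
    have hψd : deg (ψ : L → ℂ) = 6 := by rw [hval] at hψ1; exact_mod_cast hψ1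
    suffices hψ : ψ = c₆ from congrFun (congrArg Subtype.val hψ) g
    have hψY : ψ ∉ Y := fun h' => by rw [hdY ψ h'] at hψd; omega
    have hψB : ψ ∈ B := by
      by_contra hψB
      exact apply_seven_ne_zero (irr_isCharacter ψ.2) hψ1 (by norm_num) hy (hB.vanish ψ hψB hψY)
    have hne1 : ψ ≠ oneChar := fun e1 => by rw [e1, hdone] at hψd; omega
    have hneθ : ψ ≠ θ := fun e1 => hψY (e1 ▸ hB.theta_Y)
    have hmem : ψ ∈ ({b, c} : Finset (IrrCharacter L)) := hBeq ▸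
      Finset.mem_erase.mpr ⟨hneθ, Finset.mem_erase.mpr ⟨hne1, hψB⟩⟩
    rcases hswap with ⟨r1, r2⟩ | ⟨r1, r2⟩ <;> subst r1 <;> subst r2 <;>
      rcases Finset.mem_insert.mp hmem with r3 | r3
    all_goals first
      | exact r3
      | exact Finset.mem_singleton.mp r3
      | (rw [r3] at hψd; omega)
      | (rw [Finset.mem_singleton.mp r3] at hψd; omega)
  · intro φ hφ
    rw [hB.total φ fun ψ hψ => hφ ψ θ fun g hg => hB.regY ψ hψ g hg, hsum, et.1]
    rcases hswap with ⟨r1, r2⟩ | ⟨r1, r2⟩ <;> subst r1 <;> subst r2 <;> rw [e6.1, e27.1] <;>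
      push_cast <;> ring

end Cfsg.Agent.Char.GTwoSpectrum
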