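import Cfsg.Agent.Lib.Small.InvolutionSearch

/-!
# The degree and value search for the order 12096
-/

set_option autoImplicit false

namespace Cfsg.Agent.Char.GTwoSpectrum.SimpleKill

open Cfsg.Agent.Small

/-- The admissible signed degrees. -/
def degs : List ℤ := [-6, 8, -27, 36, -48, 64]

/-- The admissible pairs of a signed degree and a signed value. -/
def items (K : ℕ) : List (ℤ × ℤ) :=
  degs.flatMap fun D =>
    (((List.range (Nat.min D.natAbs (DegreeSearch.root (12096 / K)) * 2 + 1)).map fun i : ℕ =>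
        (i : ℤ) - (Nat.min D.natAbs (DegreeSearch.root (12096 / K)) : ℤ)).filter fun z =>
      decide (z.natAbs ^ 2 ≤ 12096 / K ∧ z ≠ D ∧ (D - z) % 4 = 0 ∧ ((K : ℤ) * z) % D = 0)).map
        fun z => (D, z)

/-- No configuration for a class of `K` involutions. -/
def chk (K : ℕ) : Bool :=
  InvolutionSearch.search (12096 / K) 12096
    (fun SD SZ B => !(decide (SD = 0 ∧ SZ = 0 ∧ (K : ℤ) * K * B = 7 * 12096 * 12096)))
    (items K) 6 1 1 1 12096

theorem all_chk : ((DegreeSearch.divs 288).all fun d => chk (7 * d)) = true := by decide +kernel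

theorem degs_complete : ∀ d ∈ DegreeSearch.divs 12096, 1 < d → d * d < 12096 →
    ∀ s ∈ [(1 : ℤ), -1], ((s * (d : ℤ)) - 1) % 7 = 0 → s * (d : ℤ) ∈ degs := by decide +kernel

end Cfsg.Agent.Char.GTwoSpectrum.SimpleKill
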