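import Cfsg.Agent.Lib.Char.GTwoSpectrum.Block
import Cfsg.Agent.Lib.Char.GTwoSpectrum.PairCount
import Cfsg.Agent.Lib.Char.GTwoSpectrum.SimpleKillData
import Cfsg.Agent.Lib.Char.SmallOrderGraph.Invol

/-!
# No simple group of order 12096 without elements of order 9, 14 or 21
-/

set_option autoImplicit false
set_option linter.style.haveILetI false

namespace Cfsg.Agent.Char.GTwoSpectrum

open Cfsg Cfsg.Agent Cfsg.Agent.Char Cfsg.Agent.Small.Order459648
open scoped ComplexConjugate

universe u

variable {G : Type u} [Group G]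

variable [Fintype G]

theorem SimpleKill.card_ne_12096 [IsSimpleGroup G] (h : Gap G) : Nat.card G ≠ 12096 := by
  classical
  intro hG
  have hGd : Nat.card G ∣ 12096 := by rw [hG]
  haveI : Fact (Nat.Prime 7) := ⟨by norm_num⟩
  haveI : Fact (Nat.Prime 2) := ⟨Nat.prime_two⟩
  have hna : ¬ IsMulCommutative G := Small.SmallOrders.not_comm_of_card (by rw [hG]; norm_num)
  obtain ⟨y, e, B, Y, ε, θ, hy, he6, he1, hN, hB⟩ :=
    exists_sevenBlock h hGd (by rw [hG]; norm_num) (by rw [hG]; norm_num)
  set N := Subgroup.normalizer ((Subgroup.zpowers y : Subgroup G) : Set G) with hNdef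
  -- six divides the normaliser
  obtain rfl : e = 6 := by
    obtain ⟨P, hP⟩ := (IsPGroup.of_card (n := 1) (by rw [Nat.card_zpowers, hy, pow_one]) :
      IsPGroup 7 (Subgroup.zpowers y)).exists_le_sylow
    have hPc := Small.SmallOrders.sylow_card_eq (k := 1) (m := 1728) (by rw [hG]; norm_num) (by norm_num) P
    have heq : Subgroup.zpowers y = (P : Subgroup G) :=
      Subgroup.eq_of_le_of_card_ge hP (by rw [show Nat.card (P : Subgroup G) = 7 ^ 1 from hPc,
        Nat.card_zpowers, hy, pow_one])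
    have hmod : Nat.card (Sylow 7 G) % 7 = 1 := card_sylow_modEq_one 7 G
    rw [Sylow.card_eq_index_normalizer P] at hmod
    replace hmod : (Subgroup.normalizer ((P : Subgroup G) : Set G)).index % 7 = 1 := hmod
    have hi := (Subgroup.normalizer ((P : Subgroup G) : Set G)).card_mul_index
    rw [← heq] at hmod hi
    rw [← hNdef] at hmod hi
    rw [hN, hG] at hi
    have hle : e ≤ 6 := Nat.le_of_dvd (by norm_num) he6
    interval_cases e <;> omega
  -- an involution inverting y
  obtain ⟨t₀, ht₀⟩ := exists_prime_orderOf_dvd_card' 2 (show 2 ∣ Nat.card N by rw [hN]; norm_num)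
  obtain ⟨t, ht⟩ : ∃ t : G, t = (t₀ : G) := ⟨_, rfl⟩
  have hto : orderOf t = 2 := by rw [ht, Subgroup.orderOf_coe, ht₀]
  have htt : t * t = 1 := by rw [← pow_two, ← hto, pow_orderOf_eq_one]
  have htinv : t⁻¹ = t := inv_eq_of_mul_eq_one_right htt
  have hinv : t * y * t⁻¹ = y⁻¹ :=
    inverts_of_sq hy (ht ▸ t₀.2) htt (h.not_commute hy (Or.inl hto))
  have hCy := h.centralizer_seven hGd hy
  have hzp : ∀ w ∈ Subgroup.zpowers y, t * w * t⁻¹ = w⁻¹ := by
    intro w hw
    obtain ⟨i, rfl⟩ := Subgroup.mem_zpowers_iff.mp hw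
    rw [← conj_zpow, hinv, inv_zpow]
  -- the six elements of the normaliser centralising t
  set C := Subgroup.centralizer ({t} : Set G) with hC
  have hC6 : 6 ∣ Nat.card C := by
    have hle : (C.subgroupOf N).index ≤ 7 := by
      rw [Subgroup.index_eq_card, ← hy, ← Nat.card_zpowers]
      have hmem : ∀ n : N, t⁻¹ * ((n : G) * t * (n : G)⁻¹) ∈ Subgroup.zpowers y := fun n => by
        rw [← hCy]
        refine inv_mul_mem_centralizer hinv ?_
        obtain ⟨i, hi⟩ := Subgroup.mem_zpowers_iff.mp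
          ((Subgroup.mem_normalizer_iff.mp ((Subgroup.normalizer _).inv_mem n.2) y).mp
            (Subgroup.mem_zpowers y))
        rw [inv_inv] at hi
        calc (n : G) * t * (n : G)⁻¹ * y * ((n : G) * t * (n : G)⁻¹)⁻¹
            = (n : G) * (t * ((n : G)⁻¹ * y * (n : G)) * t⁻¹) * (n : G)⁻¹ := by group
          _ = y⁻¹ := by
            rw [← hi, hzp _ (zpow_mem (Subgroup.mem_zpowers y) i), hi]
            group
      refine Nat.card_le_card_of_injective (fun q => Quotient.liftOn' q
        (fun n : N => (⟨_, hmem n⟩ : Subgroup.zpowers y)) fun n n' hnn => ?_) ?_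
      · rw [QuotientGroup.leftRel_apply, Subgroup.mem_subgroupOf, hC,
          Subgroup.mem_centralizer_singleton_iff] at hnn
        refine Subtype.ext (congrArg (fun z => t⁻¹ * z) ?_)
        simp only [Subgroup.coe_mul, InvMemClass.coe_inv] at hnn
        calc (n : G) * t * (n : G)⁻¹
            = (n : G) * (t * ((n : G)⁻¹ * (n' : G))) * (n' : G)⁻¹ := by group
          _ = (n' : G) * t * (n' : G)⁻¹ := by rw [← hnn]; group
      · intro q q' hqq
        induction q using Quotient.inductionOn' with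
        | h n =>
          induction q' using Quotient.inductionOn' with
          | h n' =>
            have h1 := mul_left_cancel (congrArg Subtype.val hqq)
            refine QuotientGroup.eq.mpr ?_
            rw [Subgroup.mem_subgroupOf, hC, Subgroup.mem_centralizer_singleton_iff]
            simp only [Subgroup.coe_mul, InvMemClass.coe_inv]
            calc (n : G)⁻¹ * (n' : G) * t
                = (n : G)⁻¹ * ((n' : G) * t * (n' : G)⁻¹) * (n' : G) := by group
              _ = t * ((n : G)⁻¹ * (n' : G)) := by rw [← h1]; group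
    have h1 := (C.subgroupOf N).card_mul_index
    rw [hN] at h1
    have h7 : ¬ 7 ∣ Nat.card (C.subgroupOf N) := fun h7 => by
      obtain ⟨z, hz⟩ := exists_prime_orderOf_dvd_card' 7 h7
      refine h.not_commute (x := t) (y := ((z : N) : G))
        (by rw [Subgroup.orderOf_coe, Subgroup.orderOf_coe, hz]) (Or.inl hto) ?_
      exact (Subgroup.mem_centralizer_singleton_iff.mp z.2).symm
    have h42 : Nat.card (C.subgroupOf N) ∣ 6 :=
      ((Nat.Prime.coprime_iff_not_dvd (by norm_num)).mpr h7).symm.dvd_of_dvd_mul_left (Dvd.intro _ h1)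
    obtain ⟨r, hr⟩ := h42
    have h6 : Nat.card (C.subgroupOf N) = 6 := by
      have hle' := Nat.mul_le_mul_left (Nat.card (C.subgroupOf N)) hle
      have := Nat.le_of_dvd (by norm_num) (Dvd.intro r hr.symm : _ ∣ 6)
      omega
    rw [← h6]
    exact Subgroup.card_comap_dvd_of_injective C N.subtype N.subtype_injective
  -- the class
  set K : ℕ := Nat.card {x : G // IsConj t x} with hK
  have hKc : K * Nat.card C = 12096 := by
    rw [hK, card_conjClass_eq_index, ← hC, Subgroup.index_mul_card, hG]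
  have hK7 : 7 ∣ K := by
    rcases (Nat.Prime.dvd_mul (by norm_num)).mp (show 7 ∣ K * Nat.card C by rw [hKc]; norm_num) with h' | h'
    · exact h'
    · exfalso
      obtain ⟨z, hz⟩ := exists_prime_orderOf_dvd_card' 7 h'
      exact h.not_commute (x := t) (y := (z : G)) (by rw [Subgroup.orderOf_coe, hz]) (Or.inl hto)
        (Subgroup.mem_centralizer_singleton_iff.mp z.2).symm
  obtain ⟨d, hd⟩ := hK7
  have hd288 : d ∣ 288 := by
    obtain ⟨c, hc⟩ := hC6
    refine ⟨c, ?_⟩
    rw [hd, hc] at hKc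
    nlinarith
  -- the pairs
  have hpairs : (pairs t y).card = 7 := by
    have himg : pairs t y = (Finset.univ : Finset (Subgroup.zpowers y)).image fun w : ↥(Subgroup.zpowers y) => t * (w : G) := by
      ext g
      constructor
      · intro hg
        obtain ⟨-, hg2⟩ := pairs_invert htt hg
        exact Finset.mem_image.mpr ⟨⟨t⁻¹ * g, hCy ▸ inv_mul_mem_centralizer hinv hg2⟩,
          Finset.mem_univ _, mul_inv_cancel_left t g⟩
      · intro hg
        obtain ⟨w, -, rfl⟩ := Finset.mem_image.mp hg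
        have hcls : ∀ v ∈ Subgroup.zpowers y, IsConj t (t * v) := by
          intro v hv
          obtain ⟨i, rfl⟩ := Subgroup.mem_zpowers_iff.mp hv
          refine isConj_iff.mpr ⟨y ^ (3 * i), ?_⟩
          have h3 : y ^ (3 * i) * t = t * y ^ (-(3 * i)) := by
            have h4 := hzp _ (zpow_mem (Subgroup.mem_zpowers y) (3 * i))
            rw [← zpow_neg] at h4
            rw [← h4, htinv]
            simp only [← mul_assoc, htt, one_mul]
          rw [h3, mul_assoc, ← zpow_neg, ← zpow_add]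
          congr 1
          rw [zpow_eq_zpow_iff_modEq, hy]
          exact Int.modEq_iff_dvd.mpr ⟨i, by push_cast; ring⟩
        refine mem_pairs.mpr ⟨hcls _ w.2, ?_⟩
        have h4 : (t * (w : G))⁻¹ * y = t * ((w : G) * y) := by
          have h5 := hzp _ ((Subgroup.zpowers y).inv_mem w.2)
          rw [inv_inv, htinv] at h5
          rw [mul_inv_rev, htinv]
          calc (w : G)⁻¹ * t * y = t * (t * (w : G)⁻¹ * t) * y := by
                simp only [← mul_assoc, htt, one_mul]
            _ = t * ((w : G) * y) := by rw [h5]; group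
        rw [h4]
        exact hcls _ (mul_mem w.2 (Subgroup.mem_zpowers y))
    rw [himg, Finset.card_image_of_injective _ fun w₁ w₂ h' => Subtype.ext (mul_left_cancel h'),
      Finset.card_univ, ← Nat.card_eq_fintype_card, Nat.card_zpowers, hy]
  -- the values
  have hss : t ^ 2 = 1 := by rw [pow_two, htt]
  choose u du hu hdu hpar hle using fun χ : IrrCharacter G =>
    Small.InvolutionSearch.invol_facts (irr_isCharacter χ.2) hss
  have hreal : ∀ χ : IrrCharacter G, conj ((χ : G → ℂ) t) = (χ : G → ℂ) t := fun χ => by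
    rw [hu, map_intCast]
  have hval : ∀ χ : IrrCharacter G, (χ : G → ℂ) 1 = (deg (χ : G → ℂ) : ℂ) :=
    fun χ => char_one_eq_deg (irr_isCharacter χ.2)
  have ht7 : ¬ 7 ∣ orderOf t := by rw [hto]; norm_num
  have h17 : ¬ 7 ∣ orderOf (1 : G) := by rw [orderOf_one]; norm_num
  set f : IrrCharacter G → ℤ × ℤ := fun χ => (ε χ * (deg (χ : G → ℂ) : ℤ), ε χ * u χ) with hf
  have huone : u oneChar = 1 := by
    have := hu oneChar
    simp only [oneChar] at this
    exact_mod_cast this.symm
  have hdone : deg ((oneChar : IrrCharacter G) : G → ℂ) = 1 := charDegree_oneChar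
  have hf1 : f oneChar = (1, 1) := by simp [hf, hB.one_eps, hdone, huone]
  have hSD : ∑ χ ∈ B, (f χ).1 = 0 := by
    have := hB.rel 1 h17
    simp only [hval] at this
    exact_mod_cast this
  have hSZ : ∑ χ ∈ B, (f χ).2 = 0 := by
    have := hB.rel t ht7
    simp only [hu] at this
    exact_mod_cast this
  have hDN : ∀ χ ∈ B, (f χ).1 ∣ (12096 : ℤ) := fun χ hχ => by
    have h' : ((deg (χ : G → ℂ) : ℕ) : ℤ) ∣ ((12096 : ℕ) : ℤ) :=
      Int.natCast_dvd_natCast.mpr (hG ▸ deg_dvd_card χ.2)
    rcases hB.sign χ hχ with e1 | e1 <;> simp [hf, e1] <;> exact_mod_cast h'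
  have hSB : (K : ℤ) * K * ∑ χ ∈ B, (f χ).2 * (f χ).2 * ((12096 : ℤ) / (f χ).1) =
      7 * 12096 * 12096 := by
    have h6 := pairs_formula t y hreal
    rw [hB.total (fun χ => ((χ : G → ℂ) t) ^ 2 / (χ : G → ℂ) 1) (fun ψ hψ => by
      simp only [hB.regY ψ hψ t ht7, hB.regY ψ hψ 1 h17]), hpairs, hG, ← hK] at h6
    have h8 : ∀ χ ∈ B, (((f χ).2 * (f χ).2 * ((12096 : ℤ) / (f χ).1) : ℤ) : ℂ) =
        (12096 : ℂ) * ((ε χ : ℂ) * (((χ : G → ℂ) t) ^ 2 / (χ : G → ℂ) 1)) := by
      intro χ hχ
      have hd0 : ((deg (χ : G → ℂ) : ℂ)) ≠ 0 := Nat.cast_ne_zero.mpr (deg_pos χ.2).ne'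
      rw [Int.cast_mul, Int.cast_div (hDN χ hχ) (by
        simp only [hf]
        rcases hB.sign χ hχ with e1 | e1 <;> simp [e1, hd0])]
      simp only [hf, hval, hu]
      rcases hB.sign χ hχ with e1 | e1 <;> rw [e1] <;> push_cast <;> field_simp
    have h9 : (((K : ℤ) * K * ∑ χ ∈ B, (f χ).2 * (f χ).2 * ((12096 : ℤ) / (f χ).1) : ℤ) : ℂ) =
        ((7 * 12096 * 12096 : ℤ) : ℂ) := by
      rw [Int.cast_mul, Int.cast_sum, Finset.sum_congr rfl h8, ← Finset.mul_sum]
      push_cast at h6 ⊢
      linear_combination (-(12096 : ℂ)) * h6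
    exact_mod_cast h9
  have hKpos : 0 < K := Nat.pos_of_ne_zero fun h0 => by rw [h0, zero_mul] at hKc; omega
  have hQ : ∑ χ ∈ B, (f χ).2.natAbs ^ 2 ≤ 12096 / K := by
    rw [show 12096 / K = Nat.card C by rw [← hKc, Nat.mul_div_cancel_left _ hKpos]]
    have h5 := Finset.sum_le_univ_sum_of_nonneg (s := B)
      (f := fun χ : IrrCharacter G => Complex.normSq ((χ : G → ℂ) t))
      (fun χ => Complex.normSq_nonneg _)
    rw [sum_normSq_all, ← hC] at h5
    have h6 : ((∑ χ ∈ B, (f χ).2.natAbs ^ 2 : ℕ) : ℝ) = ∑ χ ∈ B, Complex.normSq ((χ : G → ℂ) t) := by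
      rw [Nat.cast_sum]
      refine Finset.sum_congr rfl fun χ hχ => ?_
      have h7 : (f χ).2.natAbs = (u χ).natAbs := by
        simp only [hf]
        rcases hB.sign χ hχ with e1 | e1 <;> simp [e1]
      rw [h7, hu, Complex.normSq_intCast, Nat.cast_pow, Nat.cast_natAbs, Int.cast_abs, sq_abs,
        pow_two]
    rw [← h6] at h5
    exact_mod_cast h5
  have hitem : ∀ χ ∈ B.erase oneChar, f χ ∈ SimpleKill.items K := by
    intro χ hχ
    obtain ⟨hne, hχB⟩ := Finset.mem_erase.mp hχ
    obtain ⟨z, hz, h4, hzlt⟩ := SmallOrderGraph.invol_value hna hne hto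
    obtain rfl : z = u χ := by rw [hu] at hz; exact_mod_cast hz.symm
    have h1d : 1 < deg (χ : G → ℂ) := one_lt_degree hna hne
    have hd2 : deg (χ : G → ℂ) * deg (χ : G → ℂ) < 12096 := by
      have h5 := Finset.sum_le_univ_sum_of_nonneg (s := ({oneChar, χ} : Finset (IrrCharacter G)))
        (f := fun χ : IrrCharacter G => Complex.normSq ((χ : G → ℂ) 1))
        (fun χ => Complex.normSq_nonneg _)
      rw [sum_normSq_all, Finset.sum_pair (Ne.symm hne), hval, hval, hdone, Complex.normSq_natCast,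
        Complex.normSq_natCast] at h5
      have hc : Nat.card (Subgroup.centralizer ({(1 : G)} : Set G)) ≤ 12096 :=
        hG ▸ Subgroup.card_le_card_group _
      have h6 : ((1 * 1 + deg (χ : G → ℂ) * deg (χ : G → ℂ) : ℕ) : ℝ) ≤ ((12096 : ℕ) : ℝ) := by
        push_cast
        refine le_trans (le_trans (le_of_eq ?_) h5) (by exact_mod_cast hc)
        norm_num
      have := Nat.cast_le.mp h6
      omega
    have hmod : (ε χ * (deg (χ : G → ℂ) : ℤ) - 1) % 7 = 0 := by
      by_cases hθ : χ = θ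
      · subst hθ
        have := hB.congr_theta
        omega
      · exact Int.emod_eq_zero_of_dvd (hB.congr χ hχB hθ)
    have hD : ε χ * (deg (χ : G → ℂ) : ℤ) ∈ SimpleKill.degs :=
      SimpleKill.degs_complete _ (Small.DegreeSearch.mem_divs (by norm_num) (hG ▸ deg_dvd_card χ.2))
        h1d hd2 (ε χ) (by rcases hB.sign χ hχB with e1 | e1 <;> simp [e1]) hmod
    have hint : (deg (χ : G → ℂ) : ℤ) ∣ (K : ℤ) * u χ := by
      have h3 := omega_isIntegral χ.2 t
      rw [omega, hu, hval] at h3
      obtain ⟨w, hw⟩ := isIntegral_rat_cast_imp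
        (q := (K : ℚ) * u χ / deg (χ : G → ℂ)) (by push_cast; exact h3)
      have hd0 : (deg (χ : G → ℂ) : ℚ) ≠ 0 := Nat.cast_ne_zero.mpr (deg_pos χ.2).ne'
      rw [eq_div_iff hd0] at hw
      refine ⟨w, ?_⟩
      have h5 : (K : ℤ) * u χ = w * deg (χ : G → ℂ) := by exact_mod_cast hw.symm
      rw [h5, mul_comm]
    have hzabs : (ε χ * u χ).natAbs = (u χ).natAbs := by
      rcases hB.sign χ hχB with e1 | e1 <;> simp [e1]
    have hDabs : (ε χ * (deg (χ : G → ℂ) : ℤ)).natAbs = deg (χ : G → ℂ) := by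
      rcases hB.sign χ hχB with e1 | e1 <;> simp [e1]
    have hu0 : (u χ).natAbs ^ 2 ≤ 12096 / K := by
      have h3 := (Finset.single_le_sum (f := fun χ => (f χ).2.natAbs ^ 2) (fun _ _ => Nat.zero_le _)
        hχB).trans hQ
      simpa only [hf, hzabs] using h3
    have hu2 : (u χ).natAbs ≤ Small.DegreeSearch.root (12096 / K) := by
      by_contra h3
      have h4' : Small.DegreeSearch.root (12096 / K) + 1 ≤ (u χ).natAbs := by omega
      have h5 := Nat.mul_le_mul h4' h4'
      rw [← pow_two (u χ).natAbs] at h5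
      exact absurd (Small.DegreeSearch.lt_root_sq (12096 / K)) (not_lt.mpr (h5.trans hu0))
    have hzlt' : (u χ).natAbs < deg (χ : G → ℂ) := hzlt
    simp only [SimpleKill.items, List.mem_flatMap, List.mem_map, List.mem_filter, List.mem_range,
      decide_eq_true_eq, hf]
    refine ⟨_, hD, ε χ * u χ, ⟨?_, ?_, ?_, ?_, ?_⟩, rfl⟩
    · rw [hDabs]
      set m := Nat.min (deg (χ : G → ℂ)) (Small.DegreeSearch.root (12096 / K))
      have hmin : (u χ).natAbs ≤ m := le_min hzlt'.le hu2
      exact ⟨(ε χ * u χ + m).toNat, by omega, by omega⟩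
    · rw [hzabs]; exact hu0
    · intro e1
      have := congrArg Int.natAbs e1
      omega
    · rw [show ε χ * (deg (χ : G → ℂ) : ℤ) - ε χ * u χ = ε χ * ((deg (χ : G → ℂ) : ℤ) - u χ) by ring]
      exact Int.emod_eq_zero_of_dvd (dvd_mul_of_dvd_right h4 _)
    · rw [mul_left_comm]
      exact Int.emod_eq_zero_of_dvd (mul_dvd_mul_left _ hint)
  have hcK := List.all_eq_true.mp SimpleKill.all_chk d (Small.DegreeSearch.mem_divs (by norm_num) hd288)
  rw [← hd] at hcK
  rw [← Finset.add_sum_erase B _ hB.one_mem, hf1] at hQ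
  simp only [Int.natAbs_one, one_pow] at hQ
  have hL := Small.InvolutionSearch.search_sound (SimpleKill.items K) 6 1 1 1 12096 (B.erase oneChar) hitem
    (by rw [Finset.card_erase_of_mem hB.one_mem, hB.cardB]) hcK hQ
  rw [← Finset.add_sum_erase B _ hB.one_mem, hf1] at hSD hSZ hSB
  simp only [Int.ediv_one, one_mul] at hSB
  rw [Bool.not_eq_true', decide_eq_false_iff_not] at hL
  exact hL ⟨hSD, hSZ, hSB⟩

end Cfsg.Agent.Char.GTwoSpectrum
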