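import Cfsg.Agent.Lib.Char.GTwoSpectrum.Basic
import Cfsg.Agent.Lib.Char.GTwoSpectrum.SimpleKill
import Cfsg.Agent.Lib.Char.SmallOrderGraph.List
import Cfsg.Agent.Lib.Small.OrderFiveHundredFourIso
import Cfsg.Agent.Lib.Lie.G2Orders.Exist

/-!
# The simple subgroup of index two
-/

set_option autoImplicit false
set_option linter.style.haveILetI false

namespace Cfsg.Agent.Char.GTwoSpectrum

open Subgroup

universe u

theorem exists_order_nine {S : Type*} [Group S] [Finite S] [IsSimpleGroup S]
    (h : Nat.card S = 504) : ∃ s : S, orderOf s = 9 := by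
  classical
  let F := GaloisField 2 3
  haveI := Fintype.ofFinite F
  haveI : Fact (Nat.Prime 2) := ⟨Nat.prime_two⟩
  have hF : Fintype.card F = 8 := by
    rw [← Nat.card_eq_fintype_card, GaloisField.card 2 3 (by norm_num)]; norm_num
  obtain ⟨e⟩ := Small.OrderFiveHundredFour.iso h hF
  obtain ⟨B, hB⟩ := (Lie.G2Orders.exists_quad (F := F) hF).1
  have hc : Subgroup.center (Matrix.SpecialLinearGroup (Fin 2) F) = ⊥ := by
    haveI : CharP F 2 := charP_of_card_eq_prime_pow (f := 3) (by rw [hF]; norm_num)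
    rw [eq_bot_iff]
    intro A hA
    obtain ⟨r, hr, hA'⟩ := Matrix.SpecialLinearGroup.mem_center_iff.mp hA
    have hr1 : r = 1 := by
      rw [Fintype.card_fin] at hr
      exact sq_eq_one_iff.mp hr |>.elim id fun e' => e'.trans (CharTwo.neg_eq 1)
    rw [Subgroup.mem_bot]
    refine Subtype.ext ?_
    rw [← hA', hr1, map_one]
    rfl
  refine ⟨e.symm (QuotientGroup.mk B), ?_⟩
  rw [MulEquiv.orderOf_eq]
  refine (orderOf_injective (QuotientGroup.mk' _) ((MonoidHom.ker_eq_bot_iff _).mp ?_) B).trans hB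
  rw [QuotientGroup.ker_mk', hc]

theorem Gap.quotient_nine {G : Type*} [Group G] [Finite G] (h : Gap G) (M : Subgroup G)
    [M.Normal] (x : G ⧸ M) : orderOf x ≠ 9 := by
  intro hx
  obtain ⟨g, rfl⟩ := QuotientGroup.mk'_surjective M x
  have hd : 9 ∣ orderOf g := hx ▸ orderOf_map_dvd (QuotientGroup.mk' M) g
  obtain ⟨k, hk⟩ := hd
  refine (h (g ^ k)).1 ?_
  have h0 := orderOf_pos g
  rw [orderOf_pow_of_dvd (by rintro rfl; omega) ⟨9, by rw [hk, mul_comm]⟩, hk,
    Nat.mul_div_cancel _ (Nat.pos_of_ne_zero (by rintro rfl; omega))]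

theorem index_dvd_six {G : Type*} [Group G] [Finite G] (h : Gap G) (hG : Nat.card G ∣ 12096)
    (N : Subgroup G) [N.Normal] (h7 : 7 ∣ Nat.card N) : N.index ∣ 6 := by
  haveI : Fact (Nat.Prime 7) := ⟨by norm_num⟩
  obtain ⟨y, hy⟩ := exists_prime_orderOf_dvd_card' 7 h7
  have hy' : orderOf (y : G) = 7 := by rw [Subgroup.orderOf_coe, hy]
  have h49 : ¬ 7 ^ 2 ∣ Nat.card N := fun h' =>
    absurd (h'.trans ((Subgroup.card_subgroup_dvd_card N).trans hG)) (by norm_num)
  obtain ⟨S, hS⟩ := (IsPGroup.of_card (n := 1) (by rw [Nat.card_zpowers, hy, pow_one]) :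
    IsPGroup 7 (Subgroup.zpowers y)).exists_le_sylow
  have hSc : Nat.card (S : Subgroup N) = 7 := by
    obtain ⟨k, hk⟩ := S.isPGroup'.exists_card_eq
    have h1 := Subgroup.card_le_of_le hS
    rw [Nat.card_zpowers, hy, hk] at h1
    have h2 : k ≤ 1 := by
      by_contra hk2
      exact h49 ((pow_dvd_pow 7 (by omega : 2 ≤ k)).trans (hk ▸ Subgroup.card_subgroup_dvd_card _))
    rcases Nat.le_one_iff_eq_zero_or_eq_one.mp h2 with rfl | rfl
    · norm_num at h1
    · simpa using hk
  have hSy : Subgroup.zpowers y = (S : Subgroup N) :=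
    Subgroup.eq_of_le_of_card_ge hS (by rw [hSc, Nat.card_zpowers, hy])
  set Q := (S : Subgroup N).map N.subtype
  have hQy : Q = Subgroup.zpowers (y : G) := by
    rw [show Q = (S : Subgroup N).map N.subtype from rfl, ← hSy, MonoidHom.map_zpowers]; rfl
  set W := Subgroup.normalizer (Q : Set G)
  have hsup : W ⊔ N = ⊤ := Sylow.normalizer_sup_eq_top S
  have hidx : N.index ∣ Nat.card W := by
    rw [Subgroup.index_eq_card]
    refine Subgroup.card_dvd_of_surjective ((QuotientGroup.mk' N).comp W.subtype) fun x => ?_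
    obtain ⟨g, rfl⟩ := QuotientGroup.mk'_surjective N x
    have hg : g ∈ (↑(W ⊔ N) : Set G) := by rw [hsup]; trivial
    rw [Subgroup.mul_normal] at hg
    obtain ⟨a, ha, b, hb, rfl⟩ := Set.mem_mul.mp hg
    refine ⟨⟨a, ha⟩, ?_⟩
    show ((a : G) : G ⧸ N) = ((a * b : G) : G ⧸ N)
    exact QuotientGroup.eq.mpr (by simpa using hb)
  have hQc : Nat.card Q = 7 := by rw [hQy, Nat.card_zpowers, hy']
  have hW : Nat.card W ∣ 42 := by
    have h1 := Subgroup.card_eq_card_quotient_mul_card_subgroup Q.normalizerMonoidHom.ker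
    have h2 : Nat.card (W ⧸ Q.normalizerMonoidHom.ker) ∣ 6 := by
      rw [Nat.card_congr (QuotientGroup.quotientKerEquivRange _).toEquiv]
      refine (Subgroup.card_subgroup_dvd_card _).trans ?_
      haveI : IsCyclic Q := isCyclic_of_prime_card (p := 7) hQc
      rw [IsCyclic.card_mulAut, hQc]
      rfl
    have h3 : Nat.card Q.normalizerMonoidHom.ker ∣ 7 := by
      rw [Subgroup.normalizerMonoidHom_ker, Nat.card_congr (Subgroup.subgroupOfEquivOfLe
        (Subgroup.centralizer_le_normalizer _)).toEquiv, hQy]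
      rw [show Subgroup.centralizer ((Subgroup.zpowers (y : G) : Subgroup G) : Set G) =
          Subgroup.centralizer ({(y : G)} : Set G) by
        rw [Subgroup.zpowers_eq_closure, Subgroup.centralizer_closure], h.centralizer_seven hG hy',
        Nat.card_zpowers, hy']
    rw [h1]
    exact (Nat.mul_dvd_mul h2 h3)
  have h77 : ¬ 7 ∣ N.index := fun h' => by
    have := Nat.mul_dvd_mul h7 h'
    rw [Subgroup.card_mul_index] at this
    exact absurd (this.trans hG) (by norm_num)
  exact (((Nat.Prime.coprime_iff_not_dvd (by norm_num)).mpr h77).symm).dvd_of_dvd_mul_left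
    (show N.index ∣ 7 * 6 from hidx.trans hW)

variable {G : Type u} [Group G] [Finite G]

theorem exists_simple_index_two (h : Gap G) (hG : Nat.card G = 12096) :
    ∃ N : Subgroup G, N.Normal ∧ Nat.card N = 6048 ∧ IsSimpleGroup N ∧
      Subgroup.centralizer (N : Set G) = ⊥ := by
  classical
  haveI : Fact (Nat.Prime 7) := ⟨by norm_num⟩
  have hGd : Nat.card G ∣ 12096 := by rw [hG]
  obtain ⟨N, ⟨hNn, hN7⟩, hNmin⟩ := ((Set.toFinite {N : Subgroup G | N.Normal ∧ 7 ∣ Nat.card N}).exists_minimalFor
    (fun N : Subgroup G => Nat.card N) _ ⟨⊤, Subgroup.normal_top, by rw [Subgroup.card_top, hG]; norm_num⟩)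
  haveI := hNn
  have hidx := index_dvd_six h hGd N hN7
  have hN9 : 9 ∣ Nat.card N := by
    have h1 : 27 ∣ Nat.card N * N.index := by rw [Subgroup.card_mul_index, hG]; norm_num
    have h2 : 27 ∣ Nat.card N * 6 := h1.trans (Nat.mul_dvd_mul_left _ hidx)
    omega
  have hhN := h.subgroup N
  have hNd : Nat.card N ∣ 12096 := (Subgroup.card_subgroup_dvd_card N).trans hGd
  obtain ⟨M, ⟨hMn, hMne⟩, hMmax⟩ := ((Set.toFinite {M : Subgroup N | M.Normal ∧ M ≠ ⊤}).exists_maximalFor
    (fun M : Subgroup N => Nat.card M) _ ⟨⊥, Subgroup.normal_bot, fun e => by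
      have := congrArg (fun K : Subgroup N => Nat.card K) e
      simp only [Subgroup.card_bot, Subgroup.card_top] at this
      omega⟩)
  haveI := hMn
  haveI hsimp : IsSimpleGroup (N ⧸ M) := by
    haveI : Nontrivial (N ⧸ M) := QuotientGroup.nontrivial_iff.mpr hMne
    refine ⟨fun K hK => ?_⟩
    haveI := hK
    set J := K.comap (QuotientGroup.mk' M) with hJ
    have hle : M ≤ J := fun x hx => by
      rw [hJ, Subgroup.mem_comap, show QuotientGroup.mk' M x = 1 from (QuotientGroup.eq_one_iff x).mpr hx]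
      exact one_mem K
    by_cases hJt : J = ⊤
    · right
      rw [← Subgroup.map_comap_eq_self_of_surjective (QuotientGroup.mk'_surjective M) K, ← hJ, hJt,
        Subgroup.map_top_of_surjective _ (QuotientGroup.mk'_surjective M)]
    · left
      have := hMmax ⟨inferInstance, hJt⟩ (Subgroup.card_le_of_le hle)
      rw [← Subgroup.map_comap_eq_self_of_surjective (QuotientGroup.mk'_surjective M) K, ← hJ,
        ← Subgroup.eq_of_le_of_card_ge hle this, QuotientGroup.map_mk'_self]
  have hprod : Nat.card (N ⧸ M) * Nat.card M = Nat.card N :=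
    (Subgroup.card_eq_card_quotient_mul_card_subgroup M).symm
  have h7M : ¬ 7 ∣ Nat.card M := by
    intro h7M
    have hi6 : M.index ∣ 6 := index_dvd_six hhN hNd M h7M
    set K : Subgroup G := Subgroup.closure {g : G | g ∈ N ∧ g ^ 7 = 1} with hK
    haveI hKn : K.Normal := by
      refine ⟨fun x hx g => ?_⟩
      induction hx using Subgroup.closure_induction with
      | mem x hx => exact Subgroup.subset_closure ⟨hNn.conj_mem x hx.1 g, by rw [conj_pow, hx.2]; simp⟩
      | one => simp
      | mul a b _ _ ha hb =>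
        rw [show g * (a * b) * g⁻¹ = (g * a * g⁻¹) * (g * b * g⁻¹) by group]; exact mul_mem ha hb
      | inv a _ ha =>
        rw [show g * a⁻¹ * g⁻¹ = (g * a * g⁻¹)⁻¹ by group]; exact inv_mem ha
    have hKle : K ≤ M.map N.subtype := by
      rw [hK, Subgroup.closure_le]
      rintro g ⟨hg, hg7⟩
      refine ⟨⟨g, hg⟩, ?_, rfl⟩
      rw [SetLike.mem_coe, ← QuotientGroup.eq_one_iff (N := M) (⟨g, hg⟩ : N), ← orderOf_eq_one_iff]
      have h1 : orderOf ((⟨g, hg⟩ : N) : N ⧸ M) ∣ 7 := by
        refine (orderOf_map_dvd (QuotientGroup.mk' M) _).trans (orderOf_dvd_of_pow_eq_one ?_)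
        exact Subtype.ext (by simpa using hg7)
      have h2 : orderOf ((⟨g, hg⟩ : N) : N ⧸ M) ∣ 6 :=
        (_root_.orderOf_dvd_natCard _).trans (by rwa [← Subgroup.index_eq_card])
      exact Nat.eq_one_of_dvd_one (Nat.dvd_gcd h1 h2)
    have hK7 : 7 ∣ Nat.card K := by
      obtain ⟨y, hy⟩ := exists_prime_orderOf_dvd_card' 7 hN7
      have hyK : (y : G) ∈ K := Subgroup.subset_closure ⟨y.2, by
        rw [← hy, ← Subgroup.coe_pow, pow_orderOf_eq_one]; rfl⟩
      rw [← hy, ← Subgroup.orderOf_coe]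
      exact Subgroup.orderOf_dvd_natCard K hyK
    have h1 := Subgroup.card_le_of_le hKle
    rw [← Nat.card_congr (M.equivMapOfInjective _ N.subtype_injective).toEquiv] at h1
    have h2 := hNmin ⟨hKn, hK7⟩ (h1.trans (Subgroup.card_le_card_group M))
    exact hMne (Subgroup.eq_top_of_le_card M (h2.trans h1))
  have h3M := hhN.not_three hNd M hN7 h7M
  have h7S : 7 ∣ Nat.card (N ⧸ M) :=
    ((Nat.Prime.dvd_mul (by norm_num)).mp (hprod ▸ hN7)).resolve_right h7M
  have h9S : 9 ∣ Nat.card (N ⧸ M) :=
    (((Nat.Prime.coprime_iff_not_dvd Nat.prime_three).mpr h3M).pow_left 2).dvd_of_dvd_mul_right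
      (show 3 ^ 2 ∣ Nat.card (N ⧸ M) * Nat.card M from hprod ▸ hN9)
  have hSd : Nat.card (N ⧸ M) ∣ 12096 := (Dvd.intro _ hprod).trans hNd
  have hnc : ¬ IsMulCommutative (N ⧸ M) := Small.SmallOrders.not_comm_of_card fun hp => by
    rcases hp.eq_one_or_self_of_dvd 7 h7S with e | e
    · norm_num at e
    · rw [← e] at h9S; norm_num at h9S
  have hno504 : Nat.card (N ⧸ M) ≠ 504 := fun e => by
    obtain ⟨s, hs⟩ := exists_order_nine e
    exact hhN.quotient_nine M s hs
  have hbig : Nat.card (N ⧸ M) = 6048 ∨ Nat.card (N ⧸ M) = 12096 := by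
    rcases Nat.lt_or_ge (Nat.card (N ⧸ M)) 6000 with h1 | h1
    · exfalso
      have hmem := SmallOrderGraph.card_mem_orders hnc h1
      simp only [SmallOrderGraph.orders, List.mem_cons, List.not_mem_nil, or_false] at hmem
      rcases hmem with e | e | e | e | e | e | e | e | e | e | e <;> rw [e] at hSd h9S hno504 <;>
        revert hSd h9S hno504 <;> norm_num
    · obtain ⟨k, hk⟩ := hSd
      have : k ≤ 2 := by nlinarith
      interval_cases k <;> omega
  have hNi := Subgroup.card_mul_index N
  rw [hG, ← hprod] at hNi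
  have hMpos : 0 < Nat.card M := Nat.card_pos
  have hipos : 0 < N.index := Nat.pos_of_ne_zero Subgroup.index_ne_zero_of_finite
  have htriv : Nat.card M = 1 := by
    by_contra hM1
    have hM2 : Nat.card M = 2 := by
      rcases hbig with e | e <;> rw [e] at hNi
      · have hMi : Nat.card M * N.index = 2 :=
          Nat.eq_of_mul_eq_mul_left (show 0 < 6048 by norm_num) (by rw [← mul_assoc, hNi])
        exact ((Nat.dvd_prime Nat.prime_two).mp (Dvd.intro _ hMi)).resolve_left hM1
      · exact absurd (Nat.eq_one_of_mul_eq_one_right (Nat.eq_of_mul_eq_mul_left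
          (show 0 < 12096 by norm_num) (show 12096 * (Nat.card M * N.index) = 12096 * 1 by
            rw [← mul_assoc, hNi, mul_one]))) hM1
    obtain ⟨z, hz⟩ := exists_prime_orderOf_dvd_card' (G := M) 2 (by rw [hM2])
    obtain ⟨y, hy⟩ := exists_prime_orderOf_dvd_card' 7 hN7
    refine hhN.not_commute hy (x := (z : N)) (Or.inl (by rw [Subgroup.orderOf_coe, hz])) ?_
    have hzy : y * (z : N) * y⁻¹ ∈ M := hMn.conj_mem _ z.2 y
    have hcase : ∀ w : M, w = 1 ∨ w = z := fun w => by
      haveI := Fintype.ofFinite M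
      by_contra hw
      push Not at hw
      have hne : z ≠ 1 := fun e => by rw [e, orderOf_one] at hz; norm_num at hz
      have : ({1, z, w} : Finset M).card ≤ Fintype.card M := Finset.card_le_univ _
      rw [← Nat.card_eq_fintype_card, hM2, Finset.card_insert_of_notMem (by simp [Ne.symm hne, Ne.symm hw.1]),
        Finset.card_insert_of_notMem (by simp [Ne.symm hw.2]), Finset.card_singleton] at this
      omega
    rcases hcase ⟨_, hzy⟩ with e | e
    · exfalso
      have e' := congrArg Subtype.val e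
      simp only [OneMemClass.coe_one, conj_eq_one_iff] at e'
      have : z = 1 := Subtype.ext e'
      rw [this, orderOf_one] at hz
      norm_num at hz
    · exact (mul_inv_eq_iff_eq_mul.mp (congrArg Subtype.val e)).symm
  rw [htriv, mul_one] at hNi hprod
  have hMbot : M = ⊥ := Subgroup.eq_bot_of_card_eq M htriv
  haveI : Nontrivial N := Finite.one_lt_card_iff_nontrivial.mp (by rw [← hprod]; omega)
  haveI : IsSimpleGroup N := IsSimpleGroup.isSimpleGroup_of_surjective
    (H := N) ((QuotientGroup.quotientMulEquivOfEq hMbot).trans QuotientGroup.quotientBot).toMonoidHom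
    (MulEquiv.surjective _)
  rcases hbig with e | e
  · refine ⟨N, hNn, by rw [← hprod, e], inferInstance, ?_⟩
    rw [e] at hNi hprod
    by_contra hC
    set C := Subgroup.centralizer (N : Set G) with hCdef
    haveI : C.Normal := inferInstance
    have hnN : ¬ IsMulCommutative N := Small.SmallOrders.not_comm_of_card (by rw [← hprod]; norm_num)
    have hCN : C ⊓ N = ⊥ := by
      rw [eq_bot_iff]
      rintro x ⟨hxC, hxN⟩
      have : (⟨x, hxN⟩ : N) ∈ Subgroup.center N := Subgroup.mem_center_iff.mpr fun g =>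
        Subtype.ext (Subgroup.mem_centralizer_iff.mp hxC g g.2)
      rw [Small.SmallOrders.center_eq_bot hnN, Subgroup.mem_bot] at this
      exact congrArg Subtype.val this
    have hCd : Nat.card C ∣ N.index := by
      rw [Subgroup.index_eq_card]
      refine Subgroup.card_dvd_of_injective ((QuotientGroup.mk' N).comp C.subtype)
        ((injective_iff_map_eq_one _).mpr fun x hx => Subtype.ext ?_)
      exact (Subgroup.eq_bot_iff_forall _).mp hCN x ⟨x.2, (QuotientGroup.eq_one_iff (x : G)).mp hx⟩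
    have h2 : Nat.card C = 2 := by
      have h3 : N.index = 2 := by omega
      rw [h3] at hCd
      exact ((Nat.dvd_prime Nat.prime_two).mp hCd).resolve_left
        fun e' => hC (Subgroup.eq_bot_of_card_eq C e')
    obtain ⟨z, hz⟩ := exists_prime_orderOf_dvd_card' (G := C) 2 (by rw [h2])
    obtain ⟨y, hy⟩ := exists_prime_orderOf_dvd_card' 7 hN7
    exact h.not_commute (y := (y : G)) (by rw [Subgroup.orderOf_coe, hy]) (x := (z : G))
      (Or.inl (by rw [Subgroup.orderOf_coe, hz]))
      (Subgroup.mem_centralizer_iff.mp z.2 y y.2).symm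
  · haveI := Fintype.ofFinite N
    exact (SimpleKill.card_ne_12096 hhN (by rw [← hprod, e])).elim

end Cfsg.Agent.Char.GTwoSpectrum
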