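import Cfsg.Agent.Lib.Char.GTwoSpectrum.Perm
import Cfsg.Agent.Lib.Small.OrderSieve
import Cfsg.Agent.S4226

/-!
# The Sylow 3-subgroups of a simple group of order 6048
-/

set_option autoImplicit false
set_option linter.style.haveILetI false

namespace Cfsg.Agent.Char.GTwoSpectrum

open Cfsg Cfsg.Agent Cfsg.Agent.Char
open scoped ComplexConjugate commutatorElement Pointwise

universe u

variable {L : Type u} [Group L]

/-- In a group of order 27 commutators are central. -/
theorem comm_central_27 [Finite L] (P : Subgroup L) (hP : Nat.card P = 27) {a b c : L}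
    (ha : a ∈ P) (hb : b ∈ P) (hc : c ∈ P) :
    (a * b * a⁻¹ * b⁻¹) * c = c * (a * b * a⁻¹ * b⁻¹) := by
  haveI : Fact (Nat.Prime 3) := ⟨Nat.prime_three⟩
  have hp : IsPGroup 3 P := IsPGroup.of_card (n := 3) (by rw [hP]; norm_num)
  haveI : Nontrivial P := Finite.one_lt_card_iff_nontrivial.mp (by rw [hP]; norm_num)
  haveI := hp.center_nontrivial
  obtain ⟨k, hk⟩ := (hp.to_subgroup (Subgroup.center P)).exists_card_eq
  have hk1 : 1 ≤ k := Nat.one_le_iff_ne_zero.mpr fun e => by
    have := Finite.one_lt_card_iff_nontrivial.mpr (inferInstance : Nontrivial (Subgroup.center P))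
    rw [hk, e, pow_zero] at this
    exact lt_irrefl _ this
  have hq := Subgroup.card_eq_card_quotient_mul_card_subgroup (Subgroup.center P)
  rw [hP, hk] at hq
  obtain ⟨j, hj⟩ := (hp.to_quotient (Subgroup.center P)).exists_card_eq
  rw [hj, ← pow_add, show (27 : ℕ) = 3 ^ 3 by norm_num] at hq
  have hjk := Nat.pow_right_injective (le_refl 2 |>.trans (by norm_num)) hq
  have hcomm : ∀ x y : P ⧸ Subgroup.center P, x * y = y * x := by
    intro x y
    rcases (show j = 0 ∨ j = 1 ∨ j = 2 by omega) with rfl | rfl | rfl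
    · haveI : Subsingleton (P ⧸ Subgroup.center P) := (Nat.card_eq_one_iff_unique.mp (by simpa using hj)).1
      exact Subsingleton.elim _ _
    · haveI : IsCyclic (P ⧸ Subgroup.center P) := isCyclic_of_prime_card (p := 3) (by simpa using hj)
      exact (IsCyclic.commutative (α := P ⧸ Subgroup.center P)).is_comm.comm x y
    · exact IsPGroup.commutative_of_card_eq_prime_sq hj x y
  have hmem : (⟨a, ha⟩ * ⟨b, hb⟩ * ⟨a, ha⟩⁻¹ * ⟨b, hb⟩⁻¹ : P) ∈ Subgroup.center P := by
    rw [← QuotientGroup.eq_one_iff]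
    simp only [QuotientGroup.mk_mul, QuotientGroup.mk_inv]
    rw [hcomm ((⟨a, ha⟩ : P) : P ⧸ Subgroup.center P)]
    group
  exact (congrArg Subtype.val (Subgroup.mem_center_iff.mp hmem ⟨c, hc⟩)).symm

variable [Fintype L] [IsSimpleGroup L] {c₆ c₂₇ c₃₂ : IrrCharacter L}

/-- The centraliser of a subgroup of order nine is a 3-group. -/
theorem LChars.centralizer_nine (hc : LChars c₆ c₂₇ c₃₂) (h : Gap L) (hL : Nat.card L = 6048)
    (D : Subgroup L) (hD : Nat.card D = 9) :
    IsPGroup 3 (Subgroup.centralizer (D : Set L)) := by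
  haveI : Fact (Nat.Prime 3) := ⟨Nat.prime_three⟩
  set C := Subgroup.centralizer (D : Set L)
  have hd : Nat.card C ∣ 12096 := (Subgroup.card_subgroup_dvd_card C).trans (by rw [hL]; norm_num)
  obtain ⟨z, hz⟩ := exists_prime_orderOf_dvd_card' (G := D) 3 (by rw [hD]; norm_num)
  have hno : ∀ q : ℕ, q = 2 ∨ q = 7 → ¬ q ∣ Nat.card C := fun q hq hdv => by
    haveI : Fact q.Prime := ⟨by rcases hq with rfl | rfl <;> norm_num⟩
    obtain ⟨x, hx⟩ := exists_prime_orderOf_dvd_card' q hdv
    have hxD : ∀ d ∈ D, Commute d (x : L) := fun d hd => Subgroup.mem_centralizer_iff.mp x.2 d hd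
    rcases hq with rfl | rfl
    · exact hc.no_invol_nine hL D hD (by rw [Subgroup.orderOf_coe, hx]) hxD
    · exact h.not_commute (y := (x : L)) (x := (z : L)) (by rw [Subgroup.orderOf_coe, hx])
        (Or.inr (by rw [Subgroup.orderOf_coe, hz])) (hxD z z.2)
  obtain ⟨a, m, hm, ha⟩ := Nat.exists_eq_pow_mul_and_not_dvd (n := Nat.card C) Nat.card_pos.ne' 3 (by norm_num)
  refine IsPGroup.of_card (n := a) ?_
  suffices m = 1 by rw [ha, this, mul_one]
  by_contra hm1
  obtain ⟨q, hq, hqm⟩ := Nat.exists_prime_and_dvd hm1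
  have hqC : q ∣ Nat.card C := ha ▸ dvd_mul_of_dvd_right hqm _
  rcases card_factors hd hq hqC with e | e | e
  · exact hno q (Or.inl e) hqC
  · exact hm (e ▸ hqm)
  · exact hno q (Or.inr e) hqC

/-- The number of Sylow 3-subgroups is not 112. -/
theorem LChars.card_sylow_ne (hc : LChars c₆ c₂₇ c₃₂) (h : Gap L) (hL : Nat.card L = 6048)
    [Fact (Nat.Prime 3)] : Nat.card (Sylow 3 L) ≠ 112 := by
  classical
  intro h112
  have hPc : ∀ P : Sylow 3 L, Nat.card (P : Subgroup L) = 27 := fun P =>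
    Small.SmallOrders.sylow_card_eq (k := 3) (m := 224) (by rw [hL]; norm_num) (by norm_num) P
  obtain ⟨P⟩ := (inferInstance : Nonempty (Sylow 3 L))
  obtain ⟨Q, hQP, hrel⟩ := Small.OrderSieve.exists_inter (k := 3) (fun P => hPc P)
    (by rw [h112]; norm_num) P
  set D := (P : Subgroup L) ⊓ (Q : Subgroup L) with hDdef
  have hDP : D ≤ (P : Subgroup L) := inf_le_left
  have hDQ : D ≤ (Q : Subgroup L) := inf_le_right
  have hD : Nat.card D = 9 := by
    have h1 := (D.subgroupOf (P : Subgroup L)).card_mul_index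
    rw [Nat.card_congr (Subgroup.subgroupOfEquivOfLe hDP).toEquiv, hPc,
      show (D.subgroupOf (P : Subgroup L)).index = 3 from hrel] at h1
    omega
  have hnorm : ∀ R : Sylow 3 L, D ≤ (R : Subgroup L) →
      (R : Subgroup L) ≤ Subgroup.normalizer (D : Set L) := by
    intro R hR
    have h1 : (D.subgroupOf (R : Subgroup L)).index = 3 := by
      have h2 := (D.subgroupOf (R : Subgroup L)).card_mul_index
      rw [Nat.card_congr (Subgroup.subgroupOfEquivOfLe hR).toEquiv, hPc, hD] at h2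
      omega
    have hn : (D.subgroupOf (R : Subgroup L)).Normal := by
      refine Subgroup.normal_of_index_eq_minFac_card ?_
      rw [h1, hPc]
      norm_num
    exact (Subgroup.normal_subgroupOf_iff_le_normalizer hR).mp hn
  have hPM := hnorm P hDP
  have hQM := hnorm Q hDQ
  set C := Subgroup.centralizer (D : Set L) with hC
  have hC3 := hc.centralizer_nine h hL D hD
  have hCle : ∀ R : Sylow 3 L, (R : Subgroup L) ≤ Subgroup.normalizer (D : Set L) →
      C ≤ (R : Subgroup L) := by
    intro R hR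
    have hRC : (R : Subgroup L) ≤ Subgroup.normalizer (C : Set L) := fun r hr => by
      rw [Subgroup.mem_normalizer_iff]
      intro x
      simp only [hC, Subgroup.mem_centralizer_iff]
      have hrn := Subgroup.mem_normalizer_iff.mp (hR hr)
      constructor
      · intro hx d hd
        have := hx (r⁻¹ * d * r) (by
          have := (hrn (r⁻¹ * d * r)).mpr (by simpa [mul_assoc] using hd)
          exact this)
        calc d * (r * x * r⁻¹) = r * ((r⁻¹ * d * r) * x) * r⁻¹ := by group
          _ = r * (x * (r⁻¹ * d * r)) * r⁻¹ := by rw [this]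
          _ = r * x * r⁻¹ * d := by group
      · intro hx d hd
        have := hx (r * d * r⁻¹) ((hrn d).mp hd)
        calc d * x = r⁻¹ * ((r * d * r⁻¹) * (r * x * r⁻¹)) * r := by group
          _ = r⁻¹ * ((r * x * r⁻¹) * (r * d * r⁻¹)) * r := by rw [this]
          _ = x * d := by group
    have hsup : IsPGroup 3 ↥((R : Subgroup L) ⊔ C) := R.isPGroup'.to_sup_of_normal_right' hC3 hRC
    rw [← R.3 hsup le_sup_left]
    exact le_sup_right
  have hCD : C ≤ D := le_inf (hCle P hPM) (hCle Q hQM)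
  -- the fixed points of elements outside D
  have hDcomm : ∀ a ∈ D, ∀ b ∈ D, a * b = b * a := fun a ha b hb =>
    congrArg Subtype.val (IsPGroup.commutative_of_card_eq_prime_sq (p := 3) (G := D)
      (by rw [hD]; norm_num) ⟨a, ha⟩ ⟨b, hb⟩)
  set cl : L → Subgroup L := fun x => D ⊓ Subgroup.centralizer ({x} : Set L) with hcl
  have hfix : ∀ R : Sylow 3 L, D ≤ (R : Subgroup L) → ∀ x ∈ (R : Subgroup L), x ∉ D →
      Nat.card (cl x) = 3 ∧ ∀ d ∈ D, x * d * x⁻¹ * d⁻¹ ∈ cl x := by
    intro R hR x hx hxD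
    have hcomm : ∀ d ∈ D, x * d * x⁻¹ * d⁻¹ ∈ cl x := fun d hd => by
      refine Subgroup.mem_inf.mpr
        ⟨mul_mem ((Subgroup.mem_normalizer_iff.mp (hnorm R hR hx) d).mp hd) (inv_mem hd), ?_⟩
      rw [Subgroup.mem_centralizer_singleton_iff]
      exact comm_central_27 _ (hPc R) hx (hR hd) hx
    refine ⟨?_, hcomm⟩
    have hle : cl x ≤ D := inf_le_left
    have hd9 : Nat.card (cl x) ∣ 3 ^ 2 := by
      have := Subgroup.card_dvd_of_le hle
      rw [hD] at this
      simpa using this
    obtain ⟨i, hi, hi'⟩ := (Nat.dvd_prime_pow Nat.prime_three).mp hd9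
    rcases (show i = 0 ∨ i = 1 ∨ i = 2 by omega) with rfl | rfl | rfl
    · exfalso
      have hbot := Subgroup.eq_bot_of_card_eq (cl x) (by rw [hi', pow_zero])
      refine hxD (hCD ?_)
      rw [hC, Subgroup.mem_centralizer_iff]
      intro d hd
      have := hcomm d hd
      rw [hbot, Subgroup.mem_bot, mul_inv_eq_one, mul_inv_eq_iff_eq_mul] at this
      exact this.symm
    · simpa using hi'
    · exfalso
      have htop := Subgroup.eq_of_le_of_card_ge hle (by rw [hi', hD]; norm_num)
      refine hxD (hCD ?_)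
      rw [hC, Subgroup.mem_centralizer_iff]
      intro d hd
      have : d ∈ cl x := htop.symm ▸ hd
      exact Subgroup.mem_centralizer_singleton_iff.mp this.2
  obtain ⟨x, hxP, hxD⟩ : ∃ x ∈ (P : Subgroup L), x ∉ D := by
    by_contra hno
    push Not at hno
    have := Subgroup.card_le_of_le (show (P : Subgroup L) ≤ D from hno)
    rw [hPc, hD] at this
    omega
  obtain ⟨x', hxQ, hxD'⟩ : ∃ x ∈ (Q : Subgroup L), x ∉ D := by
    by_contra hno
    push Not at hno
    have := Subgroup.card_le_of_le (show (Q : Subgroup L) ≤ D from hno)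
    rw [hPc, hD] at this
    omega
  have hzp : ∀ R : Sylow 3 L, D ≤ (R : Subgroup L) → ∀ z ∈ (R : Subgroup L), z ∉ D →
      ∃ c ∈ D, c ≠ 1 ∧ cl z = Subgroup.zpowers c := by
    intro R hR z hz hzD
    obtain ⟨c, hc1⟩ := exists_prime_orderOf_dvd_card' (G := cl z) 3 (by rw [(hfix R hR z hz hzD).1])
    refine ⟨c, c.2.1, fun e => ?_, ?_⟩
    · rw [show c = 1 from Subtype.ext e, orderOf_one] at hc1
      norm_num at hc1
    · symm
      refine Subgroup.eq_of_le_of_card_ge (by rw [Subgroup.zpowers_le]; exact c.2) ?_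
      rw [Nat.card_zpowers, Subgroup.orderOf_coe, hc1, (hfix R hR z hz hzD).1]
  obtain ⟨c, hcD, hc1, hcx⟩ := hzp P hDP x hxP hxD
  obtain ⟨c', hcD', hc1', hcx'⟩ := hzp Q hDQ x' hxQ hxD'
  have hord : ∀ R : Sylow 3 L, ∀ z ∈ (R : Subgroup L), z ≠ 1 → orderOf z = 3 := fun R z hz hz1 =>
    ((Nat.dvd_prime Nat.prime_three).mp (orderOf_dvd_of_pow_eq_one (h.pow_three R.isPGroup' hz))).resolve_left
      fun e => hz1 (orderOf_eq_one_iff.mp e)
  have hc3 := hord P c (hDP hcD) hc1
  have hc3' := hord P c' (hDP hcD') hc1'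
  have hx3 := h.pow_three P.isPGroup' hxP
  have hx3' := h.pow_three Q.isPGroup' hxQ
  -- the fixed lines differ
  have hne : c' ∉ Subgroup.zpowers c := by
    intro hmem
    have heq : Subgroup.zpowers c' = Subgroup.zpowers c :=
      Subgroup.eq_of_le_of_card_ge (by rwa [Subgroup.zpowers_le]) (by rw [Nat.card_zpowers, Nat.card_zpowers, hc3, hc3'])
    have hcx'' : cl x' = Subgroup.zpowers c := hcx'.trans heq
    obtain ⟨d, hdD, hdc⟩ : ∃ d ∈ D, d ∉ Subgroup.zpowers c := by
      by_contra hno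
      push Not at hno
      have := Subgroup.card_le_of_le (show D ≤ Subgroup.zpowers c from hno)
      rw [hD, Nat.card_zpowers, hc3] at this
      omega
    have hz1 := (hfix P hDP x hxP hxD).2 d hdD
    have hz2 := (hfix Q hDQ x' hxQ hxD').2 d hdD
    rw [hcx] at hz1
    rw [hcx''] at hz2
    obtain ⟨i, hi⟩ := Subgroup.mem_zpowers_iff.mp hz1
    obtain ⟨j, hj⟩ := Subgroup.mem_zpowers_iff.mp hz2
    have hxc : x * c * x⁻¹ = c := by
      have : c ∈ cl x := hcx ▸ Subgroup.mem_zpowers c
      rw [mul_inv_eq_iff_eq_mul]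
      exact (Subgroup.mem_centralizer_singleton_iff.mp this.2).symm
    have hxc' : x' * c * x'⁻¹ = c := by
      have : c ∈ cl x' := hcx'' ▸ Subgroup.mem_zpowers c
      rw [mul_inv_eq_iff_eq_mul]
      exact (Subgroup.mem_centralizer_singleton_iff.mp this.2).symm
    have hxd : x * d * x⁻¹ = c ^ i * d := by rw [hi]; group
    have hxd' : x' * d * x'⁻¹ = c ^ j * d := by rw [hj]; group
    have hj0 : ¬ (3 : ℤ) ∣ j := fun hdv => by
      have : c ^ j = 1 := orderOf_dvd_iff_zpow_eq_one.mp (by rw [hc3]; exact_mod_cast hdv)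
      rw [this, one_mul] at hxd'
      have : d ∈ cl x' := ⟨hdD, Subgroup.mem_centralizer_singleton_iff.mpr
        (mul_inv_eq_iff_eq_mul.mp hxd').symm⟩
      exact hdc (hcx'' ▸ this)
    obtain ⟨k, hk⟩ : ∃ k : ℕ, (3 : ℤ) ∣ (k : ℤ) * j + i := by
      rcases (show i % 3 = 0 ∨ i % 3 = 1 ∨ i % 3 = 2 by omega) with e | e | e
      · exact ⟨0, by omega⟩
      all_goals
        rcases (show j % 3 = 1 ∨ j % 3 = 2 by omega) with e' | e'
        all_goals first | exact ⟨1, by omega⟩ | exact ⟨2, by omega⟩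
    have hpow : ∀ n : ℕ, x' ^ n * d * (x' ^ n)⁻¹ = c ^ ((n : ℤ) * j) * d ∧
        x' ^ n * c * (x' ^ n)⁻¹ = c := by
      intro n
      induction n with
      | zero => simp
      | succ n ih =>
        constructor
        · rw [pow_succ', show x' * x' ^ n * d * (x' * x' ^ n)⁻¹ = x' * (x' ^ n * d * (x' ^ n)⁻¹) * x'⁻¹ by group,
            ih.1, show x' * (c ^ ((n : ℤ) * j) * d) * x'⁻¹ = (x' * c * x'⁻¹) ^ ((n : ℤ) * j) * (x' * d * x'⁻¹) by
              rw [conj_zpow]; group, hxc', hxd', ← mul_assoc, ← zpow_add]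
          push_cast
          ring_nf
        · rw [pow_succ', show x' * x' ^ n * c * (x' * x' ^ n)⁻¹ = x' * (x' ^ n * c * (x' ^ n)⁻¹) * x'⁻¹ by group,
            ih.2, hxc']
    obtain ⟨hk1, hk2⟩ := hpow k
    have hfd : x * x' ^ k * d = d * (x * x' ^ k) := by
      have : x * x' ^ k * d * (x * x' ^ k)⁻¹ = d := by
        rw [show x * x' ^ k * d * (x * x' ^ k)⁻¹ = x * (x' ^ k * d * (x' ^ k)⁻¹) * x⁻¹ by group, hk1,
          show x * (c ^ ((k : ℤ) * j) * d) * x⁻¹ = (x * c * x⁻¹) ^ ((k : ℤ) * j) * (x * d * x⁻¹) by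
            rw [conj_zpow]; group, hxc, hxd, ← mul_assoc, ← zpow_add,
          orderOf_dvd_iff_zpow_eq_one.mp (by rw [hc3]; exact_mod_cast hk), one_mul]
      exact mul_inv_eq_iff_eq_mul.mp this
    have hfc : x * x' ^ k * c = c * (x * x' ^ k) := by
      have : x * x' ^ k * c * (x * x' ^ k)⁻¹ = c := by
        rw [show x * x' ^ k * c * (x * x' ^ k)⁻¹ = x * (x' ^ k * c * (x' ^ k)⁻¹) * x⁻¹ by group, hk2, hxc]
      exact mul_inv_eq_iff_eq_mul.mp this
    set W := D ⊓ Subgroup.centralizer ({x * x' ^ k} : Set L) with hW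
    have hcW : c ∈ W := ⟨hcD, Subgroup.mem_centralizer_singleton_iff.mpr hfc.symm⟩
    have hdW : d ∈ W := ⟨hdD, Subgroup.mem_centralizer_singleton_iff.mpr hfd.symm⟩
    have hWD : W = D := by
      refine Subgroup.eq_of_le_of_card_ge inf_le_left ?_
      obtain ⟨i', hi', hW'⟩ := (Nat.dvd_prime_pow Nat.prime_three).mp
        (show Nat.card W ∣ 3 ^ 2 by
          have := Subgroup.card_dvd_of_le (show W ≤ D from inf_le_left)
          rw [hD] at this; simpa using this)
      rw [hD, hW']
      rcases (show i' ≤ 1 ∨ i' = 2 by omega) with e | e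
      · exfalso
        have hle : Subgroup.zpowers c ≤ W := by rw [Subgroup.zpowers_le]; exact hcW
        have := Subgroup.eq_of_le_of_card_ge hle (by
          rw [hW', Nat.card_zpowers, hc3]
          exact (Nat.pow_le_pow_right (by norm_num) e).trans (by norm_num))
        exact hdc (this ▸ hdW)
      · rw [e]; norm_num
    have hin : x * x' ^ k ∈ D := hCD (by
      rw [hC, Subgroup.mem_centralizer_iff]
      intro e he
      have : e ∈ W := hWD.symm ▸ he
      exact Subgroup.mem_centralizer_singleton_iff.mp this.2)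
    refine hxD ?_
    have hxQ' : x ∈ (Q : Subgroup L) := by
      have := mul_mem (hDQ hin) (inv_mem (pow_mem hxQ k))
      rwa [mul_inv_cancel_right] at this
    exact ⟨hxP, hxQ'⟩
  -- adapted generators
  have hzc' : ∃ i : ℤ, ¬ (3 : ℤ) ∣ i ∧ x * c' * x⁻¹ = c ^ i * c' := by
    have hz := (hfix P hDP x hxP hxD).2 c' hcD'
    rw [hcx] at hz
    obtain ⟨i, hi⟩ := Subgroup.mem_zpowers_iff.mp hz
    refine ⟨i, fun hdv => hne ?_, by rw [hi]; group⟩
    rw [orderOf_dvd_iff_zpow_eq_one.mp (by rw [hc3]; exact_mod_cast hdv), eq_comm, mul_inv_eq_one,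
      mul_inv_eq_iff_eq_mul] at hi
    rw [← hcx]
    exact ⟨hcD', Subgroup.mem_centralizer_singleton_iff.mpr hi.symm⟩
  have hzc : ∃ i : ℤ, ¬ (3 : ℤ) ∣ i ∧ x' * c * x'⁻¹ = c' ^ i * c := by
    have hz := (hfix Q hDQ x' hxQ hxD').2 c hcD
    rw [hcx'] at hz
    obtain ⟨i, hi⟩ := Subgroup.mem_zpowers_iff.mp hz
    refine ⟨i, fun hdv => hne ?_, by rw [hi]; group⟩
    rw [orderOf_dvd_iff_zpow_eq_one.mp (by rw [hc3']; exact_mod_cast hdv), eq_comm, mul_inv_eq_one,
      mul_inv_eq_iff_eq_mul] at hi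
    have hm : c ∈ Subgroup.zpowers c' := hcx' ▸ (show c ∈ cl x' from
      ⟨hcD, Subgroup.mem_centralizer_singleton_iff.mpr hi.symm⟩)
    rw [Subgroup.eq_of_le_of_card_ge (show Subgroup.zpowers c ≤ Subgroup.zpowers c' by
      rwa [Subgroup.zpowers_le]) (by rw [Nat.card_zpowers, Nat.card_zpowers, hc3, hc3'])]
    exact Subgroup.mem_zpowers c'
  obtain ⟨i, hi0, hi⟩ := hzc'
  obtain ⟨j, hj0, hj⟩ := hzc
  have hxc : x * c * x⁻¹ = c := by
    have : c ∈ cl x := hcx ▸ Subgroup.mem_zpowers c
    rw [mul_inv_eq_iff_eq_mul]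
    exact (Subgroup.mem_centralizer_singleton_iff.mp this.2).symm
  have hxc' : x' * c' * x'⁻¹ = c' := by
    have : c' ∈ cl x' := hcx' ▸ Subgroup.mem_zpowers c'
    rw [mul_inv_eq_iff_eq_mul]
    exact (Subgroup.mem_centralizer_singleton_iff.mp this.2).symm
  -- powers with the standard actions
  obtain ⟨a, ha, hac, hac'⟩ : ∃ a ∈ (P : Subgroup L), a * c * a⁻¹ = c ∧ a * c' * a⁻¹ = c * c' := by
    rcases (show i % 3 = 1 ∨ i % 3 = 2 by omega) with e | e
    · refine ⟨x, hxP, hxc, ?_⟩
      rw [hi]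
      congr 1
      conv_rhs => rw [← zpow_one c]
      rw [zpow_eq_zpow_iff_modEq, hc3]
      exact e
    · refine ⟨x * x, mul_mem hxP hxP, ?_, ?_⟩
      · rw [show x * x * c * (x * x)⁻¹ = x * (x * c * x⁻¹) * x⁻¹ by group, hxc, hxc]
      · rw [show x * x * c' * (x * x)⁻¹ = x * (x * c' * x⁻¹) * x⁻¹ by group, hi,
          show x * (c ^ i * c') * x⁻¹ = (x * c * x⁻¹) ^ i * (x * c' * x⁻¹) by rw [conj_zpow]; group,
          hxc, hi, ← mul_assoc, ← zpow_add]
        congr 1
        conv_rhs => rw [← zpow_one c]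
        rw [zpow_eq_zpow_iff_modEq, hc3]
        show (i + i) % 3 = 1 % 3
        omega
  obtain ⟨b, hb, hbc', hbc⟩ : ∃ b ∈ (Q : Subgroup L), b * c' * b⁻¹ = c' ∧ b * c * b⁻¹ = c'⁻¹ * c := by
    rcases (show j % 3 = 1 ∨ j % 3 = 2 by omega) with e | e
    · refine ⟨x' * x', mul_mem hxQ hxQ, ?_, ?_⟩
      · rw [show x' * x' * c' * (x' * x')⁻¹ = x' * (x' * c' * x'⁻¹) * x'⁻¹ by group, hxc', hxc']
      · rw [show x' * x' * c * (x' * x')⁻¹ = x' * (x' * c * x'⁻¹) * x'⁻¹ by group, hj,
          show x' * (c' ^ j * c) * x'⁻¹ = (x' * c' * x'⁻¹) ^ j * (x' * c * x'⁻¹) by rw [conj_zpow]; group,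
          hxc', hj, ← mul_assoc, ← zpow_add]
        congr 1
        rw [← zpow_neg_one, zpow_eq_zpow_iff_modEq, hc3']
        show (j + j) % 3 = -1 % 3
        omega
    · refine ⟨x', hxQ, hxc', ?_⟩
      rw [hj]
      congr 1
      rw [← zpow_neg_one, zpow_eq_zpow_iff_modEq, hc3']
      show j % 3 = -1 % 3
      omega
  have hdc : c * c' = c' * c := hDcomm c hcD c' hcD'
  set w := a * b * a with hw
  have hwc : w * c * w⁻¹ = c'⁻¹ := by
    calc w * c * w⁻¹ = a * (b * (a * c * a⁻¹) * b⁻¹) * a⁻¹ := by rw [hw]; group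
      _ = a * (c'⁻¹ * c) * a⁻¹ := by rw [hac, hbc]
      _ = (a * c' * a⁻¹)⁻¹ * (a * c * a⁻¹) := by group
      _ = (c * c')⁻¹ * c := by rw [hac, hac']
      _ = c'⁻¹ := by group
  have hwc' : w * c' * w⁻¹ = c := by
    calc w * c' * w⁻¹ = a * (b * (a * c' * a⁻¹) * b⁻¹) * a⁻¹ := by rw [hw]; group
      _ = a * ((b * c * b⁻¹) * (b * c' * b⁻¹)) * a⁻¹ := by rw [hac']; group
      _ = a * (c'⁻¹ * (c * c')) * a⁻¹ := by rw [hbc, hbc']; group
      _ = a * c * a⁻¹ := by rw [hdc, inv_mul_cancel_left]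
      _ = c := hac
  set g := w * w with hg
  have hgc : g * c * g⁻¹ = c⁻¹ := by
    rw [hg, show w * w * c * (w * w)⁻¹ = w * (w * c * w⁻¹) * w⁻¹ by group, hwc, ← conj_inv, hwc']
  have hgc' : g * c' * g⁻¹ = c'⁻¹ := by
    rw [hg, show w * w * c' * (w * w)⁻¹ = w * (w * c' * w⁻¹) * w⁻¹ by group, hwc', hwc]
  -- D is generated by the two lines
  have hgen : ∀ d ∈ D, d ∈ Subgroup.closure ({c, c'} : Set L) := by
    have hle : Subgroup.closure ({c, c'} : Set L) ≤ D := by
      rw [Subgroup.closure_le]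
      rintro z (rfl | rfl)
      · exact hcD
      · exact hcD'
    have heq : Subgroup.closure ({c, c'} : Set L) = D := by
      refine Subgroup.eq_of_le_of_card_ge hle ?_
      obtain ⟨n, hn, hn'⟩ := (Nat.dvd_prime_pow Nat.prime_three).mp
        (show Nat.card (Subgroup.closure ({c, c'} : Set L)) ∣ 3 ^ 2 by
          have := Subgroup.card_dvd_of_le hle
          rw [hD] at this; simpa using this)
      rw [hD, hn']
      rcases (show n ≤ 1 ∨ n = 2 by omega) with e | e
      · exfalso
        have h1 : Subgroup.zpowers c ≤ Subgroup.closure ({c, c'} : Set L) := by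
          rw [Subgroup.zpowers_le]; exact Subgroup.subset_closure (Or.inl rfl)
        have h2 := Subgroup.eq_of_le_of_card_ge h1 (by
          rw [hn', Nat.card_zpowers, hc3]
          exact (Nat.pow_le_pow_right (by norm_num) e).trans (by norm_num))
        exact hne (h2.symm ▸ Subgroup.subset_closure (Or.inr rfl))
      · rw [e]; norm_num
    intro d hd
    rw [heq]; exact hd
  have hinv : ∀ d ∈ D, g * d * g⁻¹ = d⁻¹ := by
    intro d hd
    have hd' := hgen d hd
    suffices g * d * g⁻¹ = d⁻¹ ∧ d ∈ D from this.1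
    clear hd
    induction hd' using Subgroup.closure_induction with
    | mem z hz =>
      rcases hz with rfl | rfl
      · exact ⟨hgc, hcD⟩
      · exact ⟨hgc', hcD'⟩
    | one => exact ⟨by simp, one_mem D⟩
    | mul z z' _ _ hz hz' =>
      refine ⟨?_, mul_mem hz.2 hz'.2⟩
      rw [show g * (z * z') * g⁻¹ = (g * z * g⁻¹) * (g * z' * g⁻¹) by group, hz.1, hz'.1, mul_inv_rev,
        hDcomm _ (inv_mem hz.2) _ (inv_mem hz'.2)]
    | inv z _ hz =>
      exact ⟨by rw [← conj_inv, hz.1], inv_mem hz.2⟩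
  have hg2 : g * g ∈ D := hCD (by
    rw [hC, Subgroup.mem_centralizer_iff]
    intro d hd
    symm
    rw [← mul_inv_eq_iff_eq_mul, show g * g * d * (g * g)⁻¹ = g * (g * d * g⁻¹) * g⁻¹ by group,
      hinv d hd, hinv _ (inv_mem hd), inv_inv])
  -- the involution
  set u := g * g * g with hu
  have huinv : ∀ d ∈ D, u * d * u⁻¹ = d⁻¹ := by
    intro d hd
    rw [hu, show g * g * g * d * (g * g * g)⁻¹ = g * (g * (g * d * g⁻¹) * g⁻¹) * g⁻¹ by group,
      hinv d hd, hinv _ (inv_mem hd), inv_inv, hinv d hd]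
  have huu : u * u = 1 := by
    rw [hu, show g * g * g * (g * g * g) = (g * g) ^ 3 by simp only [pow_succ, pow_zero, one_mul, mul_assoc]]
    exact h.pow_three P.isPGroup' (hDP hg2)
  have hu2 : orderOf u = 2 := by
    refine ((Nat.dvd_prime Nat.prime_two).mp (orderOf_dvd_of_pow_eq_one (x := u) (n := 2)
      (by rw [pow_two, huu]))).resolve_left fun e => ?_
    have hu1 := orderOf_eq_one_iff.mp e
    have := huinv c hcD
    rw [hu1, one_mul, inv_one, mul_one, eq_inv_iff_mul_eq_one, ← pow_two] at this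
    have h2 := orderOf_dvd_of_pow_eq_one this
    rw [hc3] at h2
    norm_num at h2
  -- u normalises P
  have huP : ∀ p ∈ (P : Subgroup L), u * p * u⁻¹ * p⁻¹ ∈ D := by
    intro p hp
    refine hCD ?_
    rw [hC, Subgroup.mem_centralizer_iff]
    intro d hd
    symm
    rw [← mul_inv_eq_iff_eq_mul]
    have hpn := Subgroup.mem_normalizer_iff.mp (hPM hp)
    have hd1 : p⁻¹ * d * p ∈ D := by
      have := (hpn (p⁻¹ * d * p)).mpr (by simpa [mul_assoc] using hd)
      exact this
    have e1 : u⁻¹ * (p⁻¹ * d * p) * u = (p⁻¹ * d * p)⁻¹ := by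
      have := huinv _ (inv_mem hd1)
      rw [inv_inv] at this
      calc u⁻¹ * (p⁻¹ * d * p) * u = u⁻¹ * (u * (p⁻¹ * d * p)⁻¹ * u⁻¹) * u := by rw [this]
        _ = _ := by group
    calc u * p * u⁻¹ * p⁻¹ * d * (u * p * u⁻¹ * p⁻¹)⁻¹
        = u * (p * (u⁻¹ * (p⁻¹ * d * p) * u) * p⁻¹) * u⁻¹ := by group
      _ = u * d⁻¹ * u⁻¹ := by rw [e1]; group
      _ = d := by rw [huinv _ (inv_mem hd), inv_inv]
  set N := Subgroup.normalizer ((P : Subgroup L) : Set L) with hN
  have huN : u ∈ N := by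
    rw [hN, Subgroup.mem_normalizer_iff_map_conj_eq]
    refine Subgroup.eq_of_le_of_card_ge ?_ (le_of_eq (Subgroup.card_map_of_injective
      (MulAut.conj u).injective).symm)
    rintro _ ⟨p, hp, rfl⟩
    have := mul_mem (hDP (huP p hp)) hp
    simpa [mul_assoc] using this
  have hNc : Nat.card N = 54 := by
    have h1 := N.card_mul_index
    have h2 : N.index = 112 := (Sylow.card_eq_index_normalizer P).symm.trans h112
    rw [h2, hL] at h1
    omega
  -- the residual is contained in a subgroup of order 18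
  have hres : pResidualOf 3 N ≤ D ⊔ Subgroup.zpowers u := by
    rw [pResidualOf, Subgroup.map_le_iff_le_comap, pResidual, Subgroup.closure_le]
    intro v hv
    rw [SetLike.mem_coe, Subgroup.mem_comap]
    show (v : L) ∈ D ⊔ Subgroup.zpowers u
    have hv2 : (v : L) ^ 2 = 1 := by
      have h1 : orderOf v ∣ 54 := hNc ▸ orderOf_dvd_natCard v
      have h2 : (orderOf v).Coprime (3 ^ 3) := Nat.Coprime.pow_right 3 hv
      have h3 : orderOf v ∣ 2 := h2.dvd_of_dvd_mul_right (show orderOf v ∣ 2 * 3 ^ 3 from h1)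
      rw [← Subgroup.coe_pow, orderOf_dvd_iff_pow_eq_one.mp h3, OneMemClass.coe_one]
    set PN := (P : Subgroup L).subgroupOf N with hPN
    have hi2 : PN.index = 2 := by
      have h1 := PN.card_mul_index
      rw [hPN, Nat.card_congr (Subgroup.subgroupOfEquivOfLe (hN ▸ Subgroup.le_normalizer)).toEquiv,
        hPc, hNc] at h1
      rw [hPN]
      omega
    by_cases hvP : (v : L) ∈ (P : Subgroup L)
    · have h3 := h.pow_three P.isPGroup' hvP
      have : (v : L) = 1 := by
        rw [pow_succ, hv2, one_mul] at h3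
        exact h3
      rw [this]
      exact one_mem _
    · have huP' : u ∉ (P : Subgroup L) := fun hu' => by
        have h3 := h.pow_three P.isPGroup' hu'
        have := orderOf_dvd_of_pow_eq_one h3
        rw [hu2] at this
        norm_num at this
      have hm : v * ⟨u, huN⟩ ∈ PN := by
        rw [Subgroup.mul_mem_iff_of_index_two hi2]
        simp only [hPN, Subgroup.mem_subgroupOf]
        exact iff_of_false hvP huP'
      have hp : (v : L) * u ∈ (P : Subgroup L) := by simpa [hPN, Subgroup.mem_subgroupOf] using hm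
      obtain ⟨p, hp', hvp⟩ : ∃ p ∈ (P : Subgroup L), (v : L) = p * u :=
        ⟨(v : L) * u, hp, by rw [mul_assoc, huu, mul_one]⟩
      have hp2 : p * p ∈ D := by
        have h1 := hv2
        rw [hvp, pow_two] at h1
        have h2 : u * p * u⁻¹ = p⁻¹ := by
          rw [inv_eq_of_mul_eq_one_right huu, eq_inv_iff_mul_eq_one]
          calc u * p * u * p = p⁻¹ * (p * u * (p * u)) * p := by group
            _ = 1 := by rw [h1, mul_one, inv_mul_cancel]
        have h3 := huP p hp'
        rw [h2] at h3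
        have := inv_mem h3
        simpa using this
      have hpD : p ∈ D := by
        have h3 := h.pow_three P.isPGroup' hp'
        have := inv_mem hp2
        rwa [show (p * p)⁻¹ = p by
          rw [inv_eq_iff_mul_eq_one, ← pow_two, ← pow_succ, h3]] at this
      rw [hvp]
      exact mul_mem (Subgroup.mem_sup_left hpD) (Subgroup.mem_sup_right (Subgroup.mem_zpowers u))
  have h18 : Nat.card ↥(D ⊔ Subgroup.zpowers u) ≤ 18 := by
    have hun : Subgroup.zpowers u ≤ Subgroup.normalizer (D : Set L) := by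
      rw [Subgroup.zpowers_le, Subgroup.mem_normalizer_iff_map_conj_eq]
      refine Subgroup.eq_of_le_of_card_ge ?_ (le_of_eq (Subgroup.card_map_of_injective
        (MulAut.conj u).injective).symm)
      rintro _ ⟨d, hd, rfl⟩
      show u * d * u⁻¹ ∈ D
      rw [huinv d hd]
      exact inv_mem hd
    have hset : (↑(D ⊔ Subgroup.zpowers u) : Set L) = (D : Set L) * (Subgroup.zpowers u : Set L) :=
      Subgroup.coe_mul_of_right_le_normalizer_left _ _ hun
    calc Nat.card ↥(D ⊔ Subgroup.zpowers u)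
        = Nat.card ↥((D : Set L) * (Subgroup.zpowers u : Set L)) := by rw [← hset]; rfl
      _ ≤ Nat.card ↥(D : Set L) * Nat.card ↥(Subgroup.zpowers u : Set L) := Set.natCard_mul_le
      _ = 18 := by
        show Nat.card D * Nat.card (Subgroup.zpowers u) = 18
        rw [hD, Nat.card_zpowers, hu2]
  -- but the residual is everything
  have hcl' : (P : Subgroup L).lowerCentralSeries (3 - 1) = ⊥ := by
    rw [eq_bot_iff, show 3 - 1 = 1 + 1 from rfl, Subgroup.lowerCentralSeries_succ, Subgroup.commutator_le]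
    intro z hz p hp
    rw [Subgroup.lowerCentralSeries_succ, Subgroup.lowerCentralSeries_zero] at hz
    rw [Subgroup.mem_bot, commutatorElement_eq_one_iff_mul_comm]
    suffices h' : z ∈ Subgroup.centralizer ((P : Subgroup L) : Set L) from
      (Subgroup.mem_centralizer_iff.mp h' p hp).symm
    refine (Subgroup.commutator_le (H₃ := Subgroup.centralizer ((P : Subgroup L) : Set L))).mpr ?_ hz
    intro a ha b hb
    rw [Subgroup.mem_centralizer_iff]
    intro e he
    exact (comm_central_27 _ (hPc P) ha hb he).symm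
  have hfull := S4226.result P hcl'
  rw [← hN] at hfull
  have htop : pResidual 3 L = ⊤ := by
    haveI : (pResidual 3 L).Normal := by
      refine ⟨fun z hz e => ?_⟩
      induction hz using Subgroup.closure_induction with
      | mem z hz =>
        refine Subgroup.subset_closure ?_
        show (orderOf (e * z * e⁻¹)).Coprime 3
        rw [show e * z * e⁻¹ = MulAut.conj e z from rfl, MulEquiv.orderOf_eq]
        exact hz
      | one => simp
      | mul z z' _ _ hz hz' =>
        rw [show e * (z * z') * e⁻¹ = (e * z * e⁻¹) * (e * z' * e⁻¹) by group]; exact mul_mem hz hz'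
      | inv z _ hz =>
        rw [show e * z⁻¹ * e⁻¹ = (e * z * e⁻¹)⁻¹ by group]; exact inv_mem hz
    refine (IsSimpleGroup.eq_bot_or_eq_top_of_normal _ inferInstance).resolve_left fun e => ?_
    have : u ∈ pResidual 3 L := Subgroup.subset_closure (by
      show (orderOf u).Coprime 3
      rw [hu2]; norm_num)
    rw [e, Subgroup.mem_bot] at this
    rw [this, orderOf_one] at hu2
    norm_num at hu2
  rw [htop, top_inf_eq] at hfull
  rw [hfull] at hres
  have := Subgroup.card_le_of_le hres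
  omega

/-- There are 28 Sylow 3-subgroups, permuted with character `1 + c₂₇`. -/
theorem LChars.sylow_perm (hc : LChars c₆ c₂₇ c₃₂) (h : Gap L) (hL : Nat.card L = 6048)
    [Fact (Nat.Prime 3)] :
    Nat.card (Sylow 3 L) = 28 ∧ ∀ g : L,
      (Nat.card (MulAction.fixedBy (Sylow 3 L) g) : ℂ) = 1 + (c₂₇ : L → ℂ) g := by
  classical
  obtain ⟨P⟩ := (inferInstance : Nonempty (Sylow 3 L))
  set N := Subgroup.normalizer ((P : Subgroup L) : Set L) with hN
  have hPc : Nat.card (P : Subgroup L) = 27 :=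
    Small.SmallOrders.sylow_card_eq (k := 3) (m := 224) (by rw [hL]; norm_num) (by norm_num) P
  have h7 : ¬ 7 ∣ Nat.card N := fun h7 => by
    haveI : Fact (Nat.Prime 7) := ⟨by norm_num⟩
    obtain ⟨y, hy⟩ := exists_prime_orderOf_dvd_card' 7 h7
    exact h.not_normalize_three (y := (y : L)) (by rw [Subgroup.orderOf_coe, hy]) _
      (by rw [hPc]) (by rw [hPc]; norm_num) y.2
  haveI := Fintype.ofFinite N
  obtain ⟨hge, hchar⟩ := hc.index_bound h hL P (H := N) Subgroup.le_normalizer h7
  have hn : Nat.card (Sylow 3 L) = N.index := Sylow.card_eq_index_normalizer P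
  have hdvd : N.index ∣ 224 := by
    have h1 : (P : Subgroup L).index = 224 := by
      have := (P : Subgroup L).card_mul_index
      rw [hPc, hL] at this
      omega
    exact h1 ▸ Subgroup.index_dvd_of_le Subgroup.le_normalizer
  have hmod : N.index % 3 = 1 := hn ▸ card_sylow_modEq_one 3 L
  have hcases : ∀ d ∈ Small.DegreeSearch.divs 224, d % 3 = 1 → 28 ≤ d → d = 28 ∨ d = 112 := by
    decide +kernel
  have h28 : N.index = 28 := (hcases _ (Small.DegreeSearch.mem_divs (by norm_num) hdvd) hmod hge).resolve_right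
    fun e => hc.card_sylow_ne h hL (hn.trans e)
  refine ⟨hn.trans h28, fun g => ?_⟩
  rw [card_fixedBy_eq_indFun P g, ← hchar h28 g]
  congr 1
  all_goals (rw [hN, Sylow.stabilizer_eq_normalizer]; rfl)

end Cfsg.Agent.Char.GTwoSpectrum
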