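import Cfsg.Agent.Lib.Char.GTwoSpectrum.Coord
import Cfsg.Agent.Lib.Char.GTwoSpectrum.Sylow

/-!
# A frame of a group of order 27 adapted to an involution with centraliser of order three
-/

set_option autoImplicit false
set_option linter.style.haveILetI false

namespace Cfsg.Agent.Char.GTwoSpectrum

universe u

variable {L : Type u} [Group L]

theorem pow_val_add {a : L} (ha : a ^ 3 = 1) (i j : ZMod 3) :
    a ^ i.val * a ^ j.val = a ^ (i + j).val := by
  rw [← pow_add, ZMod.val_add]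
  conv_lhs => rw [← Nat.mod_add_div (i.val + j.val) 3, pow_add, pow_mul, ha, one_pow, mul_one]

theorem pow_val_natCast {a : L} (ha : a ^ 3 = 1) (n : ℕ) : a ^ ((n : ZMod 3)).val = a ^ n := by
  rw [ZMod.val_natCast]
  conv_rhs => rw [← Nat.mod_add_div n 3, pow_add, pow_mul, ha, one_pow, mul_one]

/-- A frame: coordinates on `P` in which `v` negates the first two. -/
structure Frame (P : Subgroup L) (v : L) (b : ZMod 3) (f : V3 → L) : Prop where
  b01 : b = 0 ∨ b = 1
  hom : ∀ u w : V3, f u * f w = f (mulV b u w)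
  inj : Function.Injective f
  mem : ∀ u, f u ∈ P
  surj : ∀ x ∈ P, ∃ u, f u = x
  conj_v : ∀ u, v * f u * v⁻¹ = f (-u.1, -u.2.1, u.2.2)

theorem Frame.one {P : Subgroup L} {v : L} {b : ZMod 3} {f : V3 → L} (h : Frame P v b f) :
    f (0, 0, 0) = 1 := by
  have := h.hom (0, 0, 0) (0, 0, 0)
  simp only [mulV, add_zero, mul_zero, zero_mul] at this
  exact mul_eq_left.mp this

theorem Frame.inv {P : Subgroup L} {v : L} {b : ZMod 3} {f : V3 → L} (h : Frame P v b f) (u : V3) :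
    (f u)⁻¹ = f (-u.1, -u.2.1, -u.2.2) := by
  refine inv_eq_of_mul_eq_one_right ?_
  rw [h.hom, ← h.one]
  congr 1
  have h3 : (3 : ZMod 3) = 0 := rfl
  simp only [mulV]
  refine Prod.ext (add_neg_cancel _) (Prod.ext (add_neg_cancel _) ?_)
  show u.2.2 + -u.2.2 + b * (2 * u.1 * -u.2.1 + u.2.1 * -u.1) = 0
  linear_combination (-b * u.1 * u.2.1) * h3

theorem Frame.pow_plane {P : Subgroup L} {v : L} {b : ZMod 3} {f : V3 → L} (h : Frame P v b f)
    (u₁ u₂ : ZMod 3) : ∀ n : ℕ, f (u₁, u₂, 0) ^ n = f ((n : ZMod 3) * u₁, (n : ZMod 3) * u₂, 0)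
  | 0 => by simp [h.one]
  | n + 1 => by
    rw [pow_succ, Frame.pow_plane h u₁ u₂ n, h.hom]
    congr 1
    have h3 : (3 : ZMod 3) = 0 := rfl
    simp only [mulV]
    refine Prod.ext (by push_cast; ring) (Prod.ext (by push_cast; ring) ?_)
    show 0 + 0 + b * (2 * ((n : ZMod 3) * u₁) * u₂ + (n : ZMod 3) * u₂ * u₁) = 0
    linear_combination (b * (n : ZMod 3) * u₁ * u₂) * h3

theorem Frame.pow_axis {P : Subgroup L} {v : L} {b : ZMod 3} {f : V3 → L} (h : Frame P v b f)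
    (e : ZMod 3) : ∀ n : ℕ, f (0, 0, e) ^ n = f (0, 0, (n : ZMod 3) * e)
  | 0 => by simp [h.one]
  | n + 1 => by
    rw [pow_succ, Frame.pow_axis h e n, h.hom]
    congr 1
    simp only [mulV]
    refine Prod.ext (by simp) (Prod.ext (by simp) (by push_cast; ring))

theorem Frame.decomp {P : Subgroup L} {v : L} {b : ZMod 3} {f : V3 → L} (h : Frame P v b f)
    (i j c : ZMod 3) :
    f (i, j, c) = f (1, 0, 0) ^ i.val * f (0, 1, 0) ^ j.val * f (0, 0, 1) ^ (c + b * i * j).val := by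
  rw [h.pow_plane, h.pow_plane, h.pow_axis, h.hom, h.hom, ZMod.natCast_zmod_val, ZMod.natCast_zmod_val,
    ZMod.natCast_zmod_val]
  congr 1
  have h3 : (3 : ZMod 3) = 0 := rfl
  simp only [mulV]
  refine Prod.ext (by ring) (Prod.ext (by ring) ?_)
  linear_combination (-b * i * j) * h3

theorem exists_frame [Finite L] {P : Subgroup L} (hP : Nat.card P = 27) (h3 : ∀ x ∈ P, x ^ 3 = 1)
    {v : L} (hv : v * v = 1) (hvP : ∀ x ∈ P, v * x * v⁻¹ ∈ P)
    (hC : Nat.card ↥(P ⊓ Subgroup.centralizer ({v} : Set L)) = 3)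
    (hCc : ∀ c ∈ P ⊓ Subgroup.centralizer ({v} : Set L), ∀ x ∈ P, c * x = x * c) :
    ∃ (b : ZMod 3) (f : V3 → L), Frame P v b f := by
  classical
  set C := P ⊓ Subgroup.centralizer ({v} : Set L) with hCdef
  have hmemC : ∀ x, x ∈ C ↔ x ∈ P ∧ v * x * v⁻¹ = x := fun x => by
    rw [hCdef, Subgroup.mem_inf, Subgroup.mem_centralizer_singleton_iff, mul_inv_eq_iff_eq_mul]
    exact and_congr_right fun _ => eq_comm
  have hvi : v⁻¹ = v := inv_eq_of_mul_eq_one_right hv
  have hv2 : ∀ x, v * (v * x * v⁻¹) * v⁻¹ = x := fun x => by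
    rw [show v * (v * x * v⁻¹) * v⁻¹ = (v * v) * x * (v * v)⁻¹ by group, hv]; simp
  set δ : L → L := fun x => x⁻¹ * (v * x * v⁻¹) with hδ
  have hδinv : ∀ x, v * δ x * v⁻¹ = (δ x)⁻¹ := fun x => by
    simp only [hδ, mul_inv_rev, inv_inv]
    calc v * (x⁻¹ * (v * x * v⁻¹)) * v⁻¹ = (v * x⁻¹ * v⁻¹) * (v * (v * x * v⁻¹) * v⁻¹) := by group
      _ = v * x⁻¹ * v⁻¹ * x := by rw [hv2]
      _ = v * (x⁻¹ * v⁻¹) * x := by group
  have hδmem : ∀ x ∈ P, δ x ∈ P := fun x hx => mul_mem (inv_mem hx) (hvP x hx)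
  have hinvδ : ∀ x ∈ P, v * x * v⁻¹ = x⁻¹ → δ x = x := fun x hx e => by
    simp only [hδ, e]
    have h4 := h3 x hx
    rw [← mul_inv_rev, inv_eq_iff_mul_eq_one, ← pow_two, ← pow_succ]
    exact h4
  -- elements inverted, outside any proper part
  have hcount : ∀ S : Finset L, (∀ x ∈ P, v * x * v⁻¹ = x⁻¹ → x ∈ S) → 9 ≤ S.card := by
    intro S hS
    haveI := Fintype.ofFinite P
    have hsub : ∀ x ∈ (Finset.univ : Finset P), δ x ∈ S := fun x _ =>
      hS _ (hδmem x x.2) (hδinv x)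
    have hfib : ∀ s ∈ S, ((Finset.univ : Finset P).filter fun x : ↥P => δ (x : L) = s).card ≤ 3 := by
      intro s _
      rcases ((Finset.univ : Finset P).filter fun x : ↥P => δ (x : L) = s).eq_empty_or_nonempty with e | ⟨x₀, hx₀⟩
      · rw [e]; simp
      · haveI := Fintype.ofFinite C
        rw [← hC, Nat.card_eq_fintype_card, ← Finset.card_univ]
        refine Finset.card_le_card_of_injOn (fun x => if hx : (x : L) * (x₀ : L)⁻¹ ∈ C then ⟨_, hx⟩ else 1)
          (fun x _ => Finset.mem_univ _) ?_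
        have hin : ∀ x ∈ ((Finset.univ : Finset P).filter fun x : ↥P => δ (x : L) = s),
            (x : L) * (x₀ : L)⁻¹ ∈ C := by
          intro x hx
          have e : δ (x : L) = δ (x₀ : L) :=
            (Finset.mem_filter.mp hx).2.trans (Finset.mem_filter.mp hx₀).2.symm
          simp only [hδ] at e
          refine (hmemC _).mpr ⟨mul_mem x.2 (inv_mem x₀.2), ?_⟩
          calc v * ((x : L) * (x₀ : L)⁻¹) * v⁻¹
              = (x : L) * ((x : L)⁻¹ * (v * (x : L) * v⁻¹)) * (v * (x₀ : L) * v⁻¹)⁻¹ := by group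
            _ = (x : L) * ((x₀ : L)⁻¹ * (v * (x₀ : L) * v⁻¹)) * (v * (x₀ : L) * v⁻¹)⁻¹ := by rw [e]
            _ = (x : L) * (x₀ : L)⁻¹ := by group
        intro x hx x' hx' e
        simp only [dif_pos (hin x hx), dif_pos (hin x' hx')] at e
        exact Subtype.ext (mul_right_cancel (congrArg Subtype.val e))
    have := Finset.card_le_mul_card_image_of_maps_to hsub 3 hfib
    rw [Finset.card_univ, ← Nat.card_eq_fintype_card, hP] at this
    omega
  obtain ⟨a₁, ha₁, ha₁v, ha₁1⟩ : ∃ a ∈ P, v * a * v⁻¹ = a⁻¹ ∧ a ≠ 1 := by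
    by_contra hno
    push Not at hno
    have := hcount {1} fun x hx e => by simpa using hno x hx e
    simp at this
  obtain ⟨a₂, ha₂, ha₂v, ha₂n⟩ : ∃ a ∈ P, v * a * v⁻¹ = a⁻¹ ∧ a ∉ ({1, a₁, a₁ ^ 2} : Finset L) := by
    by_contra hno
    push Not at hno
    have := hcount {1, a₁, a₁ ^ 2} hno
    have hle : ({1, a₁, a₁ ^ 2} : Finset L).card ≤ 3 := Finset.card_le_three
    omega
  set z := a₁ * a₂ * a₁⁻¹ * a₂⁻¹ with hz
  have hzP : z ∈ P := mul_mem (mul_mem (mul_mem ha₁ ha₂) (inv_mem ha₁)) (inv_mem ha₂)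
  have hzc : ∀ x ∈ P, z * x = x * z := fun x hx => comm_central_27 P hP ha₁ ha₂ hx
  have hzC : z ∈ C := by
    refine (hmemC z).mpr ⟨hzP, ?_⟩
    have h1 : a₁ * a₂ = z * (a₂ * a₁) := by rw [hz]; group
    calc v * z * v⁻¹ = (v * a₁ * v⁻¹) * (v * a₂ * v⁻¹) * (v * a₁ * v⁻¹)⁻¹ * (v * a₂ * v⁻¹)⁻¹ := by
          rw [hz]; group
      _ = (a₂ * a₁)⁻¹ * (a₁ * a₂) := by rw [ha₁v, ha₂v]; group
      _ = (a₂ * a₁)⁻¹ * (z * (a₂ * a₁)) := by rw [← h1]
      _ = z := by rw [hzc _ (mul_mem ha₂ ha₁), inv_mul_cancel_left]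
  obtain ⟨b, c, hb, hcC, hc1, hzb⟩ : ∃ (b : ZMod 3) (c : L),
      (b = 0 ∨ b = 1) ∧ c ∈ C ∧ c ≠ 1 ∧ z = c ^ b.val := by
    by_cases h : z = 1
    · haveI : Fact (Nat.Prime 3) := ⟨Nat.prime_three⟩
      obtain ⟨c, hc⟩ := exists_prime_orderOf_dvd_card' (G := C) 3 (by rw [hC])
      refine ⟨0, c, Or.inl rfl, c.2, fun e => ?_, by rw [h]; simp⟩
      rw [show c = 1 from Subtype.ext e, orderOf_one] at hc
      norm_num at hc
    · exact ⟨1, z, Or.inr rfl, hzC, h, by rw [show ((1 : ZMod 3)).val = 1 from rfl, pow_one]⟩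
  have hcP : c ∈ P := ((hmemC c).mp hcC).1
  have hcv : v * c * v⁻¹ = c := ((hmemC c).mp hcC).2
  have hcc : ∀ x ∈ P, c * x = x * c := hCc c hcC
  have e1 := h3 a₁ ha₁
  have e2 := h3 a₂ ha₂
  have ec := h3 c hcP
  set f : V3 → L := fun u => a₁ ^ u.1.val * a₂ ^ u.2.1.val * c ^ (u.2.2 + b * u.1 * u.2.1).val with hf
  have hswap1 : ∀ n : ℕ, a₂ * a₁ ^ n = a₁ ^ n * a₂ * c ^ (-((n : ZMod 3)) * b).val := by
    intro n
    induction n with
    | zero => simp
    | succ n ih =>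
      have hb' : a₂ * a₁ = a₁ * a₂ * c ^ (-b).val := by
        have h1 : z * (a₂ * a₁) = a₁ * a₂ := by rw [hz]; group
        have h2 : c ^ (-b).val * z = 1 := by
          rw [hzb, pow_val_add ec, neg_add_cancel]; simp
        calc a₂ * a₁ = c ^ (-b).val * z * (a₂ * a₁) := by rw [h2, one_mul]
          _ = c ^ (-b).val * (a₁ * a₂) := by rw [mul_assoc, h1]
          _ = a₁ * a₂ * c ^ (-b).val :=
            ((Commute.pow_left (show Commute c (a₁ * a₂) from hcc _ (mul_mem ha₁ ha₂)) _)).eq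
      calc a₂ * a₁ ^ (n + 1) = (a₂ * a₁ ^ n) * a₁ := by rw [pow_succ]; group
        _ = a₁ ^ n * a₂ * (c ^ (-((n : ZMod 3)) * b).val * a₁) := by rw [ih]; group
        _ = a₁ ^ n * (a₂ * a₁) * c ^ (-((n : ZMod 3)) * b).val := by
          rw [((show Commute c a₁ from hcc _ ha₁).pow_left _).eq]; group
        _ = a₁ ^ (n + 1) * a₂ * (c ^ (-b).val * c ^ (-((n : ZMod 3)) * b).val) := by
          rw [hb', pow_succ]; group
        _ = _ := by rw [pow_val_add ec]; congr 3; push_cast; ring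
  have hswap : ∀ (m n : ℕ), a₂ ^ m * a₁ ^ n =
      a₁ ^ n * a₂ ^ m * c ^ (-((m : ZMod 3) * (n : ZMod 3)) * b).val := by
    intro m n
    induction m with
    | zero => simp
    | succ m ih =>
      calc a₂ ^ (m + 1) * a₁ ^ n = a₂ * (a₂ ^ m * a₁ ^ n) := by rw [pow_succ']; group
        _ = (a₂ * a₁ ^ n) * a₂ ^ m * c ^ (-((m : ZMod 3) * (n : ZMod 3)) * b).val := by rw [ih]; group
        _ = a₁ ^ n * a₂ * (c ^ (-((n : ZMod 3)) * b).val * a₂ ^ m) *
            c ^ (-((m : ZMod 3) * (n : ZMod 3)) * b).val := by rw [hswap1 n]; group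
        _ = a₁ ^ n * a₂ ^ (m + 1) * (c ^ (-((n : ZMod 3)) * b).val *
            c ^ (-((m : ZMod 3) * (n : ZMod 3)) * b).val) := by
          rw [(((show Commute c a₂ from hcc _ ha₂).pow_left _).pow_right m).eq, pow_succ']; group
        _ = _ := by rw [pow_val_add ec]; congr 3; push_cast; ring
  have hhom : ∀ u w : V3, f u * f w = f (mulV b u w) := by
    rintro ⟨i, j, k⟩ ⟨i', j', k'⟩
    simp only [hf, mulV]
    have hcp : ∀ (n : ℕ) (x : L), x ∈ P → c ^ n * x = x * c ^ n :=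
      fun n x hx => ((show Commute c x from hcc x hx).pow_left n).eq
    calc a₁ ^ i.val * a₂ ^ j.val * c ^ (k + b * i * j).val *
          (a₁ ^ i'.val * a₂ ^ j'.val * c ^ (k' + b * i' * j').val)
        = a₁ ^ i.val * a₂ ^ j.val * (c ^ (k + b * i * j).val * (a₁ ^ i'.val * a₂ ^ j'.val)) *
            c ^ (k' + b * i' * j').val := by group
      _ = a₁ ^ i.val * (a₂ ^ j.val * a₁ ^ i'.val) * a₂ ^ j'.val *
            (c ^ (k + b * i * j).val * c ^ (k' + b * i' * j').val) := by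
        rw [hcp _ _ (mul_mem (pow_mem ha₁ _) (pow_mem ha₂ _))]; group
      _ = a₁ ^ i.val * a₁ ^ i'.val * (a₂ ^ j.val *
            (c ^ (-(((j.val : ℕ) : ZMod 3) * ((i'.val : ℕ) : ZMod 3)) * b).val * a₂ ^ j'.val)) *
            (c ^ (k + b * i * j).val * c ^ (k' + b * i' * j').val) := by
        rw [hswap]; group
      _ = (a₁ ^ i.val * a₁ ^ i'.val) * (a₂ ^ j.val * a₂ ^ j'.val) *
            (c ^ (-(((j.val : ℕ) : ZMod 3) * ((i'.val : ℕ) : ZMod 3)) * b).val *
              (c ^ (k + b * i * j).val * c ^ (k' + b * i' * j').val)) := by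
        rw [hcp _ _ (pow_mem ha₂ _)]; group
      _ = a₁ ^ (i + i').val * a₂ ^ (j + j').val *
            c ^ (k + k' + b * (2 * i * j' + j * i') + b * (i + i') * (j + j')).val := by
        rw [pow_val_add e1, pow_val_add e2, pow_val_add ec, pow_val_add ec, ZMod.natCast_zmod_val,
          ZMod.natCast_zmod_val]
        congr 3
        have h30 : (3 : ZMod 3) = 0 := rfl
        linear_combination (-b * i * j' - b * j * i') * h30
  have hfP : ∀ u, f u ∈ P := fun u =>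
    mul_mem (mul_mem (pow_mem ha₁ _) (pow_mem ha₂ _)) (pow_mem hcP _)
  have hconj : ∀ u : V3, v * f u * v⁻¹ = f (-u.1, -u.2.1, u.2.2) := by
    rintro ⟨i, j, k⟩
    simp only [hf]
    have hneg : ∀ {a : L}, a ^ 3 = 1 → ∀ n : ZMod 3, a⁻¹ ^ n.val = a ^ (-n).val := fun {a} ha n => by
      rw [inv_pow, inv_eq_iff_mul_eq_one, pow_val_add ha, add_neg_cancel]; simp
    calc v * (a₁ ^ i.val * a₂ ^ j.val * c ^ (k + b * i * j).val) * v⁻¹
        = (v * a₁ * v⁻¹) ^ i.val * (v * a₂ * v⁻¹) ^ j.val * (v * c * v⁻¹) ^ (k + b * i * j).val := by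
          rw [conj_pow, conj_pow, conj_pow]; group
      _ = _ := by rw [ha₁v, ha₂v, hcv, hneg e1, hneg e2]; congr 3; ring
  have hinj : Function.Injective f := by
    have key : ∀ i j k : ZMod 3, a₁ ^ i.val * a₂ ^ j.val * c ^ k.val = 1 → i = 0 ∧ j = 0 ∧ k = 0 := by
      intro i j k e
      have hcs : v * (a₁ ^ i.val * a₂ ^ j.val) * v⁻¹ = a₁ ^ i.val * a₂ ^ j.val := by
        rw [mul_eq_one_iff_eq_inv] at e
        rw [e, ← conj_inv, ← conj_pow, hcv]
      have hδ1 : δ (a₁ ^ i.val * a₂ ^ j.val) = 1 := by simp only [hδ, hcs, inv_mul_cancel]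
      have hord : ∀ {a : L}, a ∈ P → a ≠ 1 → ∀ n : ZMod 3, a ^ n.val = 1 → n = 0 := by
        intro a ha ha1 n hn
        have h3a : orderOf a = 3 := orderOf_eq_prime (h3 a ha) ha1
        have h4 := orderOf_dvd_of_pow_eq_one hn
        rw [h3a] at h4
        have := ZMod.val_lt n
        rw [← ZMod.natCast_zmod_val n, (ZMod.natCast_eq_zero_iff _ _).mpr h4]
      by_cases hj : j = 0
      · subst hj
        simp only [ZMod.val_zero, pow_zero, mul_one] at e hcs hδ1
        have hi : i = 0 := hord ha₁ ha₁1 i (by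
          rw [← hinvδ _ (pow_mem ha₁ _) (by rw [← conj_pow, ha₁v, inv_pow]), hδ1])
        subst hi
        simp only [ZMod.val_zero, pow_zero, one_mul] at e
        exact ⟨rfl, rfl, hord hcP hc1 k e⟩
      · exfalso
        -- the second generator would lie in the subgroup of the other two
        set x := a₁ ^ i.val * a₂ ^ j.val with hx
        have hxc : x = c ^ (-k).val := by
          rw [mul_eq_one_iff_eq_inv] at e
          rw [e, inv_eq_iff_mul_eq_one, pow_val_add ec, add_neg_cancel]; simp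
        have ha2' : a₂ ^ j.val = a₁ ^ (-i).val * c ^ (-k).val := by
          rw [← hxc, hx, ← mul_assoc, pow_val_add e1, neg_add_cancel]; simp
        have hmem : a₂ = a₁ ^ ((-i) * j).val * c ^ ((-k) * j).val := by
          have hjj : j * j = 1 := (by decide : ∀ j : ZMod 3, j ≠ 0 → j * j = 1) j hj
          have h1 : (a₂ ^ j.val) ^ j.val = a₂ := by
            rw [← pow_mul, ← pow_val_natCast e2 (j.val * j.val), Nat.cast_mul, ZMod.natCast_zmod_val,
              hjj, show ((1 : ZMod 3)).val = 1 from rfl, pow_one]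
          rw [← h1, ha2',
            (((show Commute a₁ c from (hcc a₁ ha₁).symm).pow_right _).pow_left _).mul_pow,
            ← pow_mul, ← pow_mul, ← pow_val_natCast e1 ((-i).val * j.val), ← pow_val_natCast ec ((-k).val * j.val),
            Nat.cast_mul, Nat.cast_mul, ZMod.natCast_zmod_val, ZMod.natCast_zmod_val, ZMod.natCast_zmod_val]
        set n := ((-i) * j).val with hn
        set m := ((-k) * j).val
        have hd : δ a₂ = δ (a₁ ^ n) := by
          have hcm : v * c ^ m * v⁻¹ = c ^ m := by rw [← conj_pow, hcv]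
          simp only [hδ, hmem]
          calc (a₁ ^ n * c ^ m)⁻¹ * (v * (a₁ ^ n * c ^ m) * v⁻¹)
              = (c ^ m)⁻¹ * ((a₁ ^ n)⁻¹ * (v * a₁ ^ n * v⁻¹)) * (v * c ^ m * v⁻¹) := by group
            _ = (c ^ m)⁻¹ * (δ (a₁ ^ n) * c ^ m) := by simp only [hδ, hcm]; group
            _ = δ (a₁ ^ n) := by
              rw [← ((show Commute c (δ (a₁ ^ n)) from hcc _ (hδmem _ (pow_mem ha₁ n))).pow_left m).eq,
                inv_mul_cancel_left]
        rw [hinvδ a₂ ha₂ ha₂v, hinvδ _ (pow_mem ha₁ n) (by rw [← conj_pow, ha₁v, inv_pow])] at hd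
        refine ha₂n ?_
        have hn3 : n < 3 := ZMod.val_lt _
        rw [hd]
        interval_cases n <;> simp
    intro u w huw
    have h1 : f (mulV b u (-w.1, -w.2.1, -w.2.2)) = 1 := by
      rw [← hhom, huw, hhom]
      simp only [hf, mulV, add_neg_cancel]
      have h30 : (3 : ZMod 3) = 0 := rfl
      rw [show b * (2 * w.1 * -w.2.1 + w.2.1 * -w.1) = 0 by linear_combination (-b * w.1 * w.2.1) * h30]
      simp
    obtain ⟨r1, r2, r3⟩ := key _ _ _ h1
    simp only [mulV] at r1 r2 r3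
    have q1 : u.1 = w.1 := add_neg_eq_zero.mp r1
    have q2 : u.2.1 = w.2.1 := add_neg_eq_zero.mp r2
    refine Prod.ext q1 (Prod.ext q2 ?_)
    rw [q1, q2] at r3
    have h30 : (3 : ZMod 3) = 0 := rfl
    linear_combination r3 + b * w.1 * w.2.1 * h30
  refine ⟨b, f, hb, hhom, hinj, hfP, ?_, hconj⟩
  intro x hx
  haveI := Fintype.ofFinite P
  have hb' : Function.Bijective fun u : V3 => (⟨f u, hfP u⟩ : P) :=
    (Fintype.bijective_iff_injective_and_card _).mpr
      ⟨fun u w e => hinj (congrArg Subtype.val e), by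
        rw [← Nat.card_eq_fintype_card, ← Nat.card_eq_fintype_card, hP]; simp [Nat.card_prod]⟩
  obtain ⟨u, hu⟩ := hb'.2 ⟨x, hx⟩
  exact ⟨u, congrArg Subtype.val hu⟩

/-- An element normalising `P` and commuting with `v` acts by a matrix and a factor. -/
theorem Frame.exists_act {P : Subgroup L} {v : L} {b : ZMod 3} {f : V3 → L} (h : Frame P v b f)
    {k : L} (hkP : ∀ x ∈ P, k * x * k⁻¹ ∈ P) (hkv : k * v = v * k) :
    ∃ (g : M2) (ε : ZMod 3), ε ≠ 0 ∧ b * ε = b * (g 0 0 * g 1 1 - g 0 1 * g 1 0) ∧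
      ∀ u, k * f u * k⁻¹ = f (actV g ε u) := by
  have hcomm : ∀ x, v * (k * x * k⁻¹) * v⁻¹ = k * (v * x * v⁻¹) * k⁻¹ := fun x => by
    rw [show v * (k * x * k⁻¹) * v⁻¹ = (v * k) * x * (v * k)⁻¹ by group, ← hkv]; group
  have h2 : ∀ t : ZMod 3, t = -t → t = 0 := by decide
  have hplane : ∀ u₁ u₂ : ZMod 3, ∃ w₁ w₂ : ZMod 3, k * f (u₁, u₂, 0) * k⁻¹ = f (w₁, w₂, 0) := by
    intro u₁ u₂
    obtain ⟨w, hw⟩ := h.surj _ (hkP _ (h.mem (u₁, u₂, 0)))
    have e := hcomm (f (u₁, u₂, 0))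
    rw [h.conj_v, ← hw, h.conj_v,
      show ((-u₁, -u₂, (0 : ZMod 3)) : V3) = (-u₁, -u₂, -0) by rw [neg_zero],
      ← h.inv (u₁, u₂, 0), ← conj_inv, ← hw, h.inv] at e
    have e2 : w.2.2 = -w.2.2 := congrArg (fun z : V3 => z.2.2) (h.inj e)
    refine ⟨w.1, w.2.1, ?_⟩
    rw [← hw]
    congr 1
    exact Prod.ext rfl (Prod.ext rfl (h2 _ e2))
  obtain ⟨a, c, hac⟩ := hplane 1 0
  obtain ⟨b', d, hbd⟩ := hplane 0 1
  obtain ⟨ε, hε⟩ : ∃ ε, k * f (0, 0, 1) * k⁻¹ = f (0, 0, ε) := by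
    obtain ⟨w, hw⟩ := h.surj _ (hkP _ (h.mem (0, 0, 1)))
    have e := hcomm (f (0, 0, 1))
    rw [h.conj_v, ← hw, h.conj_v, neg_zero, ← hw] at e
    have e0 := h.inj e
    refine ⟨w.2.2, ?_⟩
    rw [← hw]
    congr 1
    exact Prod.ext (h2 _ (congrArg Prod.fst e0).symm)
      (Prod.ext (h2 _ (congrArg (fun z : V3 => z.2.1) e0).symm) rfl)
  have hε0 : ε ≠ 0 := by
    rintro rfl
    rw [h.one, conj_eq_one_iff, ← h.one] at hε
    exact absurd (congrArg (fun z : V3 => z.2.2) (h.inj hε)) (by decide)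
  refine ⟨!![a, b'; c, d], ε, hε0, ?_, fun u => ?_⟩
  · rcases h.b01 with rfl | rfl
    · simp
    simp only [Matrix.of_apply, Matrix.cons_val', Matrix.cons_val_zero, Matrix.cons_val_one,
      Matrix.cons_val_fin_one, one_mul]
    have e : f (1, 0, 0) * f (0, 1, 0) = f (0, 0, 1) * (f (0, 1, 0) * f (1, 0, 0)) := by
      rw [h.hom, h.hom, h.hom]
      congr 1
    have e' : (k * f (1, 0, 0) * k⁻¹) * (k * f (0, 1, 0) * k⁻¹) =
        (k * f (0, 0, 1) * k⁻¹) * ((k * f (0, 1, 0) * k⁻¹) * (k * f (1, 0, 0) * k⁻¹)) := by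
      rw [show (k * f (1, 0, 0) * k⁻¹) * (k * f (0, 1, 0) * k⁻¹) = k * (f (1, 0, 0) * f (0, 1, 0)) * k⁻¹ by group, e]
      group
    rw [hac, hbd, hε, h.hom, h.hom, h.hom] at e'
    have e3 := congrArg (fun z : V3 => z.2.2) (h.inj e')
    simp only [mulV] at e3
    have h30 : (3 : ZMod 3) = 0 := rfl
    linear_combination -e3 + (-b' * c) * h30 * 0
  · obtain ⟨i, j, m⟩ := u
    calc k * f (i, j, m) * k⁻¹
        = (k * f (1, 0, 0) * k⁻¹) ^ i.val * (k * f (0, 1, 0) * k⁻¹) ^ j.val *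
            (k * f (0, 0, 1) * k⁻¹) ^ (m + b * i * j).val := by
          rw [conj_pow, conj_pow, conj_pow, h.decomp i j m]; group
      _ = f (actV !![a, b'; c, d] ε (i, j, m)) := by
        rw [hac, hbd, hε, h.pow_plane, h.pow_plane, h.pow_axis, h.hom, h.hom, ZMod.natCast_zmod_val,
          ZMod.natCast_zmod_val, ZMod.natCast_zmod_val]
        congr 1
        have hdet : b * ε = b * (a * d - b' * c) := by
          rcases h.b01 with rfl | rfl
          · simp
          have e : f (1, 0, 0) * f (0, 1, 0) = f (0, 0, 1) * (f (0, 1, 0) * f (1, 0, 0)) := by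
            rw [h.hom, h.hom, h.hom]
            congr 1
          have e' : (k * f (1, 0, 0) * k⁻¹) * (k * f (0, 1, 0) * k⁻¹) =
              (k * f (0, 0, 1) * k⁻¹) * ((k * f (0, 1, 0) * k⁻¹) * (k * f (1, 0, 0) * k⁻¹)) := by
            rw [show (k * f (1, 0, 0) * k⁻¹) * (k * f (0, 1, 0) * k⁻¹) = k * (f (1, 0, 0) * f (0, 1, 0)) * k⁻¹ by group, e]
            group
          rw [hac, hbd, hε, h.hom, h.hom, h.hom] at e'
          have e3 := congrArg (fun z : V3 => z.2.2) (h.inj e')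
          simp only [mulV] at e3
          linear_combination -e3
        simp only [mulV, actV, Matrix.of_apply, Matrix.cons_val', Matrix.cons_val_zero,
          Matrix.cons_val_one, Matrix.cons_val_fin_one]
        refine Prod.ext (by ring) (Prod.ext (by ring) ?_)
        have h30 : (3 : ZMod 3) = 0 := rfl
        linear_combination (i * j) * hdet + (b * i * j * a * d) * h30

end Cfsg.Agent.Char.GTwoSpectrum
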