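import Cfsg.Agent.Lib.Char.GTwoSpectrum.Model
import Cfsg.Agent.Lib.Char.GTwoSpectrum.Factor
import Cfsg.Agent.Lib.Lie.G2Orders.Bound
import Cfsg.Agent.Lib.Lie.G2TwoUnitary.Main
import Cfsg.Agent.Lib.Small.PSUn.Out

/-!
# The group `G₂(2)` is determined by its order and element orders
-/

set_option autoImplicit false
set_option linter.style.haveILetI false

namespace Cfsg.Agent.Char.GTwoSpectrum

open Cfsg Cfsg.Agent

universe u v

theorem gap_G2 {F : Type u} [Field F] [Fintype F] (hF : Fintype.card F = 2) :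
    Gap ↥(Cfsg.Lie.chevG2.group F) := by
  intro g
  obtain ⟨N, hg, hN⟩ := Lie.G2Orders.order_dvd (p := 2) (a := 1) Nat.prime_two le_rfl (by rw [hF, pow_one]) g
  norm_num at hN
  refine ⟨fun e => ?_, fun e => ?_, fun e => ?_⟩ <;>
    (rw [e] at hg; rcases hN with rfl | rfl | rfl | rfl | rfl | rfl | rfl <;> norm_num at hg)

theorem card_mulAut_congr {A : Type u} {B : Type v} [Group A] [Group B] (e : A ≃* B) :
    Nat.card (MulAut A) = Nat.card (MulAut B) :=
  Nat.card_congr ⟨fun α => (e.symm.trans α).trans e, fun β => (e.trans β).trans e.symm,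
    fun α => by ext x; simp, fun β => by ext x; simp⟩

theorem exists_mulAutEquiv {A : Type u} {B : Type v} [Group A] [Group B] (e : A ≃* B) :
    Nonempty (MulAut A ≃* MulAut B) :=
  ⟨{ toFun := fun α => (e.symm.trans α).trans e
     invFun := fun β => (e.trans β).trans e.symm
     left_inv := fun α => by ext x; simp
     right_inv := fun β => by ext x; simp
     map_mul' := fun α α' => by ext x; simp }⟩

/-- The automorphism group of `PSU₃(3)` has order at most twice the group's. -/
theorem card_mulAut_psu {K : Type u} [Field K] [Fintype K] (hK : Fintype.card K = 9) :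
    Nat.card (MulAut (Cfsg.PSU 3 K 3)) ≤ 2 * Nat.card (Cfsg.PSU 3 K 3) := by
  classical
  haveI : Fact (Nat.Prime 3) := ⟨Nat.prime_three⟩
  obtain ⟨p, e, τ, -, -, -, -, hτ⟩ := Cfsg.Agent.Classical.exists_usigma (F := K) (q := 3) (by rw [hK]; norm_num)
  letI : StarRing K := Cfsg.Agent.Small.Hermitian.starRingOfInvolution (τ : K →+* K) hτ.involutive
  have hstar : ∀ x : K, star x = x ^ 3 := fun x => hτ.apply_eq x
  have hK' : Fintype.card K = 3 ^ 2 := by rw [hK]; norm_num
  obtain ⟨eA⟩ := Cfsg.Agent.Small.PSLn.fieldAut_equiv (F := K) (p := 3) (f := 2) hK'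
  obtain ⟨Θ, -, hker⟩ := Cfsg.Agent.Small.PSUn.exists_theta hstar hK' le_rfl (by norm_num : ¬(3 = 3 ∧ 3 = 2))
  rw [← Θ.ker.card_mul_index, hker, Cfsg.Agent.Small.PSUn.card_range_cU hstar hK' le_rfl, ← hker,
    Subgroup.index_ker]
  have h2 : Nat.card Θ.range ≤ 2 := by
    haveI : Finite (K ≃+* K) := Finite.of_equiv _ eA.toEquiv.symm
    refine (Subgroup.card_le_card_group _).trans ?_
    rw [Nat.card_congr eA.toEquiv, Nat.card_eq_fintype_card, Fintype.card_multiplicative, ZMod.card]
  rw [show Nat.gcd 3 (3 + 1) = 1 by norm_num, one_mul, mul_comm 2]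
  exact Nat.mul_le_mul_left _ h2

theorem finite_mulAut (A : Type u) [Group A] [Finite A] : Finite (MulAut A) :=
  Finite.of_injective (fun α => (α.toEquiv : Equiv.Perm A)) fun α β e =>
    MulEquiv.ext fun x => congrArg (fun f : Equiv.Perm A => f x) e

/-- The automorphism group of the model has order at most 12096. -/
theorem card_mulAut_model : Nat.card (MulAut model) ≤ 12096 := by
  classical
  haveI : Fact (Nat.Prime 3) := ⟨Nat.prime_three⟩
  haveI : Fintype (GaloisField 3 2) := Fintype.ofFinite _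
  have h2 : Fintype.card (ZMod 2) = 2 := by simp
  have hK : Fintype.card (GaloisField 3 2) = 9 := by
    rw [← Nat.card_eq_fintype_card, GaloisField.card 3 2 (by norm_num)]; norm_num
  obtain ⟨e⟩ := Lie.G2Two.exists_iso (F := ZMod 2) h2 hK
  obtain ⟨p, n, σ, -, -, -, -, hσ⟩ :=
    Cfsg.Agent.Classical.exists_usigma (F := GaloisField 3 2) (q := 3) (by rw [hK]; norm_num)
  letI : StarRing (GaloisField 3 2) :=
    Cfsg.Agent.Small.Hermitian.starRingOfInvolution σ.toRingHom hσ.involutive
  have hstar : ∀ x : GaloisField 3 2, star x = x ^ 3 := fun x => hσ.apply_eq x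
  haveI : IsSimpleGroup (Cfsg.PSU 3 (GaloisField 3 2) 3) :=
    Cfsg.Agent.Small.Unitary.psu_simple hstar (by rw [hK]; norm_num) le_rfl (by norm_num)
  haveI : IsSimpleGroup ↥(commutator ↥(Cfsg.Lie.chevG2.group (ZMod 2))) := e.isSimpleGroup
  have hM := Lie.G2Two.card_G2 (F := ZMod 2) h2
  haveI : Finite ↥(Cfsg.Lie.chevG2.group (ZMod 2)) := Nat.finite_of_card_ne_zero (by rw [hM]; norm_num)
  obtain ⟨N, hNn, hNc, hNs, -⟩ := exists_simple_index_two (gap_G2 (F := ZMod 2) h2) hM
  haveI := hNn
  haveI := hNs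
  obtain ⟨i⟩ := exists_iso_model ((gap_G2 (F := ZMod 2) h2).subgroup N) hNc
  have hidx : N.index = 2 := by
    have h1 := N.card_mul_index
    rw [hNc, hM] at h1
    omega
  have hle : commutator ↥(Cfsg.Lie.chevG2.group (ZMod 2)) ≤ N := by
    rw [commutator_def, Subgroup.commutator_le]
    intro g _ h _
    rw [commutatorElement_def, Subgroup.mul_mem_iff_of_index_two hidx,
      Subgroup.mul_mem_iff_of_index_two hidx, Subgroup.mul_mem_iff_of_index_two hidx,
      inv_mem_iff, inv_mem_iff]
    tauto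
  have heq : (commutator ↥(Cfsg.Lie.chevG2.group (ZMod 2))).subgroupOf N = ⊤ := by
    refine (inferInstance : ((commutator ↥(Cfsg.Lie.chevG2.group (ZMod 2))).subgroupOf N).Normal).eq_bot_or_eq_top.resolve_left
      fun hbot => ?_
    rw [Subgroup.subgroupOf_eq_bot, disjoint_iff, inf_eq_left.mpr hle] at hbot
    haveI : Nontrivial ↥(commutator ↥(Cfsg.Lie.chevG2.group (ZMod 2))) := IsSimpleGroup.toNontrivial
    exact (Subgroup.nontrivial_iff_ne_bot _).mp inferInstance hbot
  have hNeq : commutator ↥(Cfsg.Lie.chevG2.group (ZMod 2)) = N :=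
    le_antisymm hle (Subgroup.subgroupOf_eq_top.mp heq)
  rw [hNeq] at e
  rw [card_mulAut_congr (i.symm.trans e)]
  refine (card_mulAut_psu hK).trans ?_
  rw [← Nat.card_congr e.toEquiv, hNc]

/-- A group of order 12096 without elements of order 9, 14 and 21 is the automorphism group of the
model. -/
theorem exists_iso_aut {G : Type u} [Group G] [Finite G] (h : Gap G) (hG : Nat.card G = 12096) :
    Nonempty (G ≃* MulAut model) := by
  obtain ⟨N, hNn, hNc, hNs, hC⟩ := exists_simple_index_two h hG
  haveI := hNn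
  haveI := hNs
  obtain ⟨i⟩ := exists_iso_model (h.subgroup N) hNc
  have hinj : Function.Injective (MulAut.conjNormal (H := N) : G →* MulAut N) := by
    rw [injective_iff_map_eq_one]
    intro g hg
    have hmem : g ∈ Subgroup.centralizer (N : Set G) := by
      rw [Subgroup.mem_centralizer_iff]
      intro x hx
      have := congrArg (fun α : MulAut N => ((α ⟨x, hx⟩ : N) : G)) hg
      simp only [MulAut.conjNormal_apply, MulAut.one_apply] at this
      exact (mul_inv_eq_iff_eq_mul.mp this).symm
    rwa [hC, Subgroup.mem_bot] at hmem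
  obtain ⟨j⟩ := exists_mulAutEquiv i
  haveI := finite_mulAut N
  have hbij : Function.Bijective (MulAut.conjNormal (H := N) : G →* MulAut N) :=
    hinj.bijective_of_nat_card_le (by
      rw [hG, card_mulAut_congr i]
      exact card_mulAut_model)
  exact ⟨(MulEquiv.ofBijective _ hbij).trans j⟩

end Cfsg.Agent.Char.GTwoSpectrum
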