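import Cfsg.Agent.Lib.Char.GTwoSpectrum.Config

/-!
# Every simple group of order 6048 without elements of order 9, 14 and 21 is one permutation group
-/

set_option autoImplicit false
set_option linter.style.haveILetI false

namespace Cfsg.Agent.Char.GTwoSpectrum

open MulAction Search

universe u

variable {L : Type u} [Group L]

/-- The element `g` acts on the numbered points by the code `n`. -/
def Realises (pt : ℕ → Sylow 3 L) (g : L) (n : ℕ) : Prop :=
  ∀ x, x < 28 → g • pt x = pt (get n x)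

/-- The numbered points with the translations and the stabiliser of two points. -/
structure Data (P Q : Sylow 3 L) (c : Cfg) (pt : ℕ → Sylow 3 L) : Prop where
  hc : c ∈ cfg0 :: others
  top : pt 27 = P
  zero : pt 0 = Q
  inj : ∀ x, x < 28 → ∀ y, y < 28 → pt x = pt y → x = y
  surj : ∀ A : Sylow 3 L, ∃ x, x < 28 ∧ pt x = A
  realP : ∀ p ∈ P, ∃ a, a < 27 ∧ ∀ x, x < 28 → p • pt x = pt (mulP c.b a x)
  repP : ∀ a, a < 27 → ∃ p ∈ P, ∀ x, x < 28 → p • pt x = pt (mulP c.b a x)
  realK : ∀ k : L, k • P = P → k • Q = Q → ∃ n ∈ c.K, Realises pt k n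
  repK : ∀ i, i < c.gens.length → ∃ k : L, k • P = P ∧ k • Q = Q ∧ Realises pt k (c.P.getD i 0)

/-- The generators' codes send points to points. -/
theorem gen_lt (c : Cfg) {i : ℕ} (hi : i < c.gens.length) {x : ℕ} (hx : x < 28) :
    get (c.P.getD i 0) x < 28 := by
  rw [Cfg.P, List.getD_eq_getElem _ _ (by rw [List.length_map]; exact hi), List.getElem_map,
    get_code (fun z hz => (Search.actP_lt _ z hz).trans (by norm_num)) hx]
  exact Search.actP_lt _ x hx

/-- Realisations of generators give realisations of words. -/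
theorem realises_ev {pt : ℕ → Sylow 3 L} {c : Cfg} {kg : ℕ → L}
    (hk : ∀ i, i < c.gens.length → Realises pt (kg i) (c.P.getD i 0)) :
    ∀ wd : List ℕ, (∀ i ∈ wd, i < c.gens.length) →
      Realises pt (wd.map kg).prod (ev c.P wd) ∧ ∀ x, x < 28 → get (ev c.P wd) x < 28
  | [], _ => by
    rw [show ev c.P [] = code fun z => z from rfl]
    refine ⟨fun x hx => ?_, fun x hx => ?_⟩
    · rw [List.map_nil, List.prod_nil, one_smul, get_code (fun z hz => by omega) hx]
    · rwa [get_code (fun z hz => by omega) hx]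
  | i :: wd, hw => by
    obtain ⟨h1, h2⟩ := realises_ev hk wd fun j hj => hw j (List.mem_cons_of_mem _ hj)
    have hi := hw i List.mem_cons_self
    rw [ev_cons]
    refine ⟨fun x hx => ?_, fun x hx => ?_⟩
    · rw [List.map_cons, List.prod_cons, mul_smul, h1 x hx, hk i hi _ (h2 x hx),
        get_code (fun z _ => get_lt _ _) hx]
    · rw [get_code (fun z _ => get_lt _ _) hx]
      exact gen_lt c hi (h2 x hx)

theorem Found.exists_data {P Q : Sylow 3 L} (hB : Base P Q) {c : Cfg} {f : V3 → L} {kg : ℕ → L}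
    (hf : Found P Q c f kg) : ∃ pt, Data P Q c pt := by
  classical
  set pt : ℕ → Sylow 3 L := fun x => if x < 27 then f (toV x) • Q else P with hpt
  have hlow : ∀ x, x < 27 → pt x = f (toV x) • Q := fun x hx => if_pos hx
  have htop : pt 27 = P := if_neg (lt_irrefl 27)
  have hne : ∀ u, f u • Q ≠ P := fun u e =>
    hB.ne (smul_left_cancel _ (e.trans (hB.fix _ (hf.mem u)).symm))
  have hinj : ∀ x, x < 28 → ∀ y, y < 28 → pt x = pt y → x = y := by
    intro x hx y hy e
    rcases Nat.lt_or_ge x 27 with h1 | h1 <;> rcases Nat.lt_or_ge y 27 with h2 | h2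
    · rw [hlow x h1, hlow y h2] at e
      have := hB.free _ (mul_mem (inv_mem (hf.mem (toV y))) (hf.mem (toV x)))
        (by rw [mul_smul, e, inv_smul_smul])
      have := congrArg ofV (hf.inj (inv_mul_eq_one.mp this).symm)
      rwa [ofV_toV x h1, ofV_toV y h2] at this
    · obtain rfl : y = 27 := by omega
      rw [hlow x h1, htop] at e
      exact absurd e (hne _)
    · obtain rfl : x = 27 := by omega
      rw [hlow y h2, htop] at e
      exact absurd e.symm (hne _)
    · omega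
  have hzero : pt 0 = Q := by
    have h1 : f (0, 0, 0) = 1 := by
      have := hf.hom (0, 0, 0) (0, 0, 0)
      simp only [mulV, add_zero, mul_zero, zero_mul] at this
      exact mul_eq_left.mp this
    rw [hlow 0 (by norm_num), toV_zero, h1, one_smul]
  have hmul : ∀ a, a < 27 → ∀ x, x < 28 → f (toV a) • pt x = pt (mulP c.b a x) := by
    intro a _ x hx
    rcases Nat.lt_or_ge x 27 with h1 | h1
    · rw [hlow x h1, hlow _ (mulP_lt_27 _ _ _ h1), ← mul_smul, hf.hom, toV_mulP _ _ _ h1]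
    · obtain rfl : x = 27 := by omega
      rw [mulP, if_neg (lt_irrefl 27), htop, hB.fix _ (hf.mem _)]
  have hgen : ∀ i (hi : i < c.gens.length), Realises pt (kg i) (c.P.getD i 0) := by
    intro i hi x hx
    have hk := hf.kg_mem i hi
    rw [Cfg.P, List.getD_eq_getElem _ _ (by rw [List.length_map]; exact hi), List.getElem_map,
      get_code (fun z hz => (Search.actP_lt _ z hz).trans (by norm_num)) hx]
    rcases Nat.lt_or_ge x 27 with h1 | h1
    · rw [hlow x h1, hlow _ (actP_lt_27 _ _ h1), hB.smul_smul_Q hk, hf.kg_act i hi, toV_actP _ _ h1]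
    · obtain rfl : x = 27 := by omega
      rw [actP, if_neg (lt_irrefl 27), htop]
      exact hk.1
  refine ⟨pt, hf.hc, htop, hzero, hinj, ?_, ?_, fun a ha => ⟨_, hf.mem _, hmul a ha⟩, ?_,
    fun i hi => ⟨kg i, (hf.kg_mem i hi).1, (hf.kg_mem i hi).2, hgen i hi⟩⟩
  · intro A
    by_cases hA : A = P
    · exact ⟨27, by norm_num, htop.trans hA.symm⟩
    · obtain ⟨x, hx, rfl⟩ := hB.reg A hA
      obtain ⟨u, rfl⟩ := hf.surj x hx
      exact ⟨ofV u, (ofV_lt u).trans (by norm_num), by rw [hlow _ (ofV_lt u), toV_ofV]⟩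
  · intro p hp
    obtain ⟨u, rfl⟩ := hf.surj p hp
    exact ⟨ofV u, ofV_lt u, fun x hx => by rw [← hmul _ (ofV_lt u) x hx, toV_ofV]⟩
  · intro k hP hQ
    obtain ⟨wd, hwd, rfl⟩ := hf.kg_all k ⟨hP, hQ⟩
    refine ⟨ev c.P wd, List.mem_map.mpr ⟨wd, hwd, rfl⟩, ?_⟩
    refine (realises_ev hgen wd fun i hi => ?_).1
    have := List.all_eq_true.mp (List.all_eq_true.mp (List.all_eq_true.mp words_ok_all c hf.hc) wd hwd) i hi
    simpa [Cfg.P] using this

variable {P Q : Sylow 3 L} {c : Cfg} {pt : ℕ → Sylow 3 L}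

theorem Data.exists_swap [Finite L] (hB : Base P Q) :
    ∃ t : L, t * t = 1 ∧ t • P = Q ∧ t • Q = P := by
  classical
  haveI : Fact (Nat.Prime 2) := ⟨Nat.prime_two⟩
  have h2L : 2 ∣ Nat.card L := by
    have h1 : Nat.card ↥(stabilizer L P ⊓ stabilizer L Q) ∣ Nat.card L := Subgroup.card_subgroup_dvd_card _
    rw [hB.cardK] at h1
    exact Nat.dvd_trans (by norm_num) h1
  obtain ⟨u, hu⟩ := exists_prime_orderOf_dvd_card' (G := L) 2 h2L
  haveI : Fact (Nat.Prime 3) := ⟨Nat.prime_three⟩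
  obtain ⟨A, hA⟩ : ∃ A : Sylow 3 L, u • A ≠ A := by
    by_contra hno
    push Not at hno
    have := hB.faithful u hno
    rw [this, orderOf_one] at hu
    norm_num at hu
  obtain ⟨g, hg⟩ := MulAction.exists_smul_eq L A P
  obtain ⟨x, hx, hxQ⟩ := hB.reg (g • u • A) fun e => hA (smul_left_cancel g (e.trans hg.symm))
  have hu2 : u * u = 1 := by rw [← pow_two, ← hu, pow_orderOf_eq_one]
  refine ⟨(x⁻¹ * g) * u * (x⁻¹ * g)⁻¹, ?_, ?_, ?_⟩
  · rw [show (x⁻¹ * g) * u * (x⁻¹ * g)⁻¹ * ((x⁻¹ * g) * u * (x⁻¹ * g)⁻¹) =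
      (x⁻¹ * g) * (u * u) * (x⁻¹ * g)⁻¹ by group, hu2]
    group
  · simp only [mul_inv_rev, inv_inv, mul_smul]
    rw [hB.fix x hx, show g⁻¹ • P = A from inv_smul_eq_iff.mpr hg.symm, ← hxQ, inv_smul_smul]
  · simp only [mul_inv_rev, inv_inv, mul_smul]
    rw [hxQ, inv_smul_smul, ← mul_smul u u, hu2, one_smul, hg, inv_smul_eq_iff, hB.fix x hx]

theorem mulP_facts : ∀ b < 2, ∀ a < 27,
    mulP b a 0 = a ∧ mulP b (negP a) a = 0 := by decide +kernel

theorem cfg_b_lt : ∀ c ∈ cfg0 :: others, c.b < 2 := by decide +kernel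

/-- The number of a point. -/
theorem Data.exists_num (hD : Data P Q c pt) :
    ∃ num : Sylow 3 L → ℕ, (∀ A, num A < 28 ∧ pt (num A) = A) ∧ ∀ x, x < 28 → num (pt x) = x := by
  choose num h1 h2 using hD.surj
  exact ⟨num, fun A => ⟨h1 A, h2 A⟩, fun x hx => hD.inj _ (h1 _) x hx (h2 _)⟩

theorem Data.hyp [Finite L] (hB : Base P Q) (hD : Data P Q c pt) :
    ∃ (t : L) (w : ℕ → ℕ), t • P = Q ∧ (∀ x, x < 28 → w x < 28 ∧ t • pt x = pt (w x)) ∧ Hyp c w := by
  classical
  obtain ⟨t, htt, htP, htQ⟩ := Data.exists_swap hB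
  obtain ⟨num, hnum, hnum'⟩ := hD.exists_num
  have htw : ∀ x, x < 28 → t • pt x = pt (num (t • pt x)) := fun x _ => (hnum _).2.symm
  refine ⟨t, fun x => num (t • pt x), htP, fun x hx => ⟨(hnum _).1, htw x hx⟩, fun x _ => (hnum _).1, ?_, ?_,
    ?_, ?_⟩
  · intro x hx
    show num (t • pt (num (t • pt x))) = x
    rw [(hnum _).2, ← mul_smul, htt, one_smul, hnum' x hx]
  · show num (t • pt 27) = 0
    rw [hD.top, htP, ← hD.zero, hnum' 0 (by norm_num)]
  · intro g hg
    obtain ⟨i, hi, rfl⟩ := List.getElem_of_mem hg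
    have hi' : i < c.gens.length := by simpa [Cfg.P] using hi
    obtain ⟨k, hkP, hkQ, hk⟩ := hD.repK i hi'
    rw [List.getD_eq_getElem _ _ hi] at hk
    obtain ⟨n, hn, hreal⟩ := hD.realK (t * k * t)
      (by rw [mul_smul, mul_smul, htP, hkQ, htQ]) (by rw [mul_smul, mul_smul, htQ, hkP, htP])
    refine ⟨n, hn, fun x hx => ?_⟩
    show num (t • pt (get c.P[i] (num (t • pt x)))) = get n x
    rw [← hk _ (hnum _).1, (hnum _).2, ← mul_smul, ← mul_smul, hreal x hx, hnum']
    exact of_decide_eq_true (List.all_eq_true.mp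
      (List.all_eq_true.mp (List.all_eq_true.mp kval_lt_all c hD.hc) n hn) x (List.mem_range.mpr hx))
  · intro e he he'
    have hb := cfg_b_lt c hD.hc
    obtain ⟨p, hp, hp'⟩ := hD.repP e he'
    have hwe : num (t • pt e) < 27 := by
      by_contra hge
      have h27 : num (t • pt e) = 27 := by have := (hnum (t • pt e)).1; omega
      have h1 : t • pt e = t • pt 0 := by rw [hD.zero, htQ, ← (hnum (t • pt e)).2, h27, hD.top]
      have := hD.inj e (by omega) 0 (by norm_num) (smul_left_cancel t h1)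
      omega
    obtain ⟨q, hq, hq'⟩ := hD.repP (negP (num (t • pt e))) (negP_lt _)
    have hfix : (t * q * t * p * t) • P = P := by
      rw [mul_smul, mul_smul, mul_smul, mul_smul, htP, ← hD.zero, hp' 0 (by norm_num),
        (mulP_facts _ hb e he').1, htw e (by omega), hq' _ (hnum _).1, (mulP_facts _ hb _ hwe).2,
        hD.zero, htQ]
    obtain ⟨y, hy, hyQ⟩ := hB.reg ((t * q * t * p * t) • Q) fun e1 => hB.ne (smul_left_cancel _ (e1.trans hfix.symm))
    obtain ⟨a, ha, hya⟩ := hD.realP y hy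
    obtain ⟨n, hn, hreal⟩ := hD.realK (y⁻¹ * (t * q * t * p * t))
      (by rw [mul_smul, hfix, inv_smul_eq_iff, hB.fix y hy])
      (by rw [mul_smul, ← hyQ, inv_smul_smul])
    refine ⟨a, n, hn, fun x hx => ?_⟩
    have hlt : get n x < 28 := of_decide_eq_true (List.all_eq_true.mp
      (List.all_eq_true.mp (List.all_eq_true.mp kval_lt_all c hD.hc) n hn) x (List.mem_range.mpr hx))
    show num (t • pt (mulP c.b (negP (num (t • pt e))) (num (t • pt (mulP c.b e (num (t • pt x))))))) =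
      mulP c.b a (get n x)
    rw [← hq' _ (hnum _).1, (hnum _).2, ← hp' _ (hnum _).1, (hnum _).2]
    have h2 := hreal x hx
    rw [mul_smul, inv_smul_eq_iff, hya _ hlt] at h2
    simp only [mul_smul] at h2
    rw [h2, hnum' _ (mulP_lt _ _ _ hlt)]

/-- The codes of the generators of the model. -/
def modelGens : List ℕ :=
  [code (mulP 1 1), code (mulP 1 3), code (mulP 1 9), code (actP (mC, 2)), w0]

/-- The model: a permutation group of degree 28. -/
def model : Subgroup (Equiv.Perm (Fin 28)) :=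
  Subgroup.closure {σ | ∃ n ∈ modelGens, ∀ i : Fin 28, (σ i : ℕ) = get n i}

theorem P_words : ∀ a < 27, (List.replicate (a % 3) 1 ++ List.replicate (a / 3 % 3) 3 ++
    List.replicate ((a / 9 + (a % 3) * (a / 3 % 3)) % 3) 9).foldr (fun g r => mulP 1 g r) 0 = a := by
  decide +kernel

theorem get_cfg0_gen {x : ℕ} (hx : x < 28) :
    get (cfg0.P.getD 0 0) x = get (code (actP (mC, 2))) x := by
  rfl

/-- A simple group of order 6048 without elements of order 9, 14 and 21 is isomorphic to the model. -/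
theorem exists_iso_model [Finite L] [IsSimpleGroup L] (h : Gap L) (hL : Nat.card L = 6048) :
    Nonempty (L ≃* model) := by
  classical
  haveI : Fact (Nat.Prime 3) := ⟨Nat.prime_three⟩
  obtain ⟨P, Q, hB⟩ := exists_base h hL
  obtain ⟨c, f, kg, hf⟩ := hB.exists_found
  obtain ⟨pt, hD⟩ := hf.exists_data hB
  obtain ⟨t, w, htP, htw, hyp⟩ := hD.hyp hB
  obtain ⟨rfl, k₀, hk₀, hw⟩ := search_result hD.hc hyp
  obtain ⟨num, hnum, hnum'⟩ := hD.exists_num
  let e : Fin 28 ≃ Sylow 3 L :=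
    ⟨fun i => pt i, fun A => ⟨num A, (hnum A).1⟩, fun i => Fin.ext (hnum' i i.2), fun A => (hnum A).2⟩
  let φ : L →* Equiv.Perm (Fin 28) :=
    { toFun := fun g => (e.trans (MulAction.toPerm g)).trans e.symm
      map_one' := Equiv.ext fun i => by simp
      map_mul' := fun g g' => Equiv.ext fun i => by simp [mul_smul] }
  have hφval : ∀ (g : L) (i : Fin 28), ((φ g) i : ℕ) = num (g • pt i) := fun g i => rfl
  have hφinj : Function.Injective φ := by
    rw [injective_iff_map_eq_one]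
    intro g hg
    refine hB.faithful g fun A => ?_
    have h1 := congrArg Fin.val (Equiv.ext_iff.mp hg ⟨num A, (hnum A).1⟩)
    rw [hφval] at h1
    simp only [Equiv.Perm.coe_one, id_eq, (hnum A).2] at h1
    rw [← (hnum (g • A)).2, h1, (hnum A).2]
  -- realising elements
  have hreal : ∀ (g : L) (n : ℕ), (∀ x, x < 28 → get n x < 28) → Realises pt g n →
      ∀ i : Fin 28, ((φ g) i : ℕ) = get n i := fun g n hn hg i => by
    rw [hφval, hg i i.2, hnum' _ (hn i i.2)]
  have huniq : ∀ g g' : L, (∀ x, x < 28 → g • pt x = g' • pt x) → g = g' := fun g g' hh => by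
    refine inv_mul_eq_one.mp (hB.faithful _ fun A => ?_) |>.symm
    obtain ⟨x, hx, rfl⟩ := hD.surj A
    rw [mul_smul, hh x hx, inv_smul_smul]
  have hmodel : ∀ (g : L) (n : ℕ), n ∈ modelGens → (∀ x, x < 28 → get n x < 28) → Realises pt g n →
      φ g ∈ model := fun g n hn hlt hg => Subgroup.subset_closure ⟨n, hn, hreal g n hlt hg⟩
  have hgP : ∀ a, a < 28 → ∀ x, x < 28 → get (code (mulP 1 a)) x = mulP 1 a x := fun a _ x hx =>
    get_code (fun z hz => (mulP_lt _ _ _ hz).trans (by norm_num)) hx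
  have hP3 : ∀ a, a = 1 ∨ a = 3 ∨ a = 9 → ∃ p ∈ P, φ p ∈ model ∧ Realises pt p (code (mulP 1 a)) := by
    intro a ha
    obtain ⟨p, hp, hp'⟩ := hD.repP a (by omega)
    have hr : Realises pt p (code (mulP 1 a)) := fun x hx => by rw [hgP a (by omega) x hx]; exact hp' x hx
    refine ⟨p, hp, hmodel p _ ?_ (fun x hx => by rw [hgP a (by omega) x hx]; exact mulP_lt _ _ _ hx) hr, hr⟩
    rcases ha with rfl | rfl | rfl <;> simp [modelGens]
  have hPmodel : ∀ p ∈ P, φ p ∈ model := by
    intro p hp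
    obtain ⟨a, ha, hpa⟩ := hD.realP p hp
    have key : ∀ l : List ℕ, (∀ g ∈ l, g = 1 ∨ g = 3 ∨ g = 9) →
        ∃ q ∈ P, φ q ∈ model ∧ q • pt 0 = pt (l.foldr (fun g r => mulP 1 g r) 0) ∧
          l.foldr (fun g r => mulP 1 g r) 0 < 28 := by
      intro l
      induction l with
      | nil => exact fun _ => ⟨1, one_mem _, by rw [map_one]; exact one_mem _, one_smul _ _, by norm_num⟩
      | cons g l ih =>
        intro hl
        obtain ⟨q, hq, hq1, hq2, hq3⟩ := ih fun g' hg' => hl g' (List.mem_cons_of_mem _ hg')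
        obtain ⟨q', hq', hq'1, hq'2⟩ := hP3 g (hl g List.mem_cons_self)
        refine ⟨q' * q, mul_mem hq' hq, by rw [map_mul]; exact mul_mem hq'1 hq1, ?_, mulP_lt _ _ _ hq3⟩
        rw [mul_smul, hq2, hq'2 _ hq3, hgP g (by rcases hl g List.mem_cons_self with e | e | e <;> omega) _ hq3]
        rfl
    obtain ⟨q, hq, hq1, hq2, -⟩ := key (List.replicate (a % 3) 1 ++ List.replicate (a / 3 % 3) 3 ++
      List.replicate ((a / 9 + (a % 3) * (a / 3 % 3)) % 3) 9) (fun g hg => by
        simp only [List.mem_append, List.mem_replicate] at hg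
        rcases hg with (hg | hg) | hg <;> simp [hg.2])
    rw [P_words a ha] at hq2
    have h0 := hpa 0 (by norm_num)
    rw [show cfg0.b = 1 from rfl, (mulP_facts 1 (by norm_num) a ha).1, ← hq2, hD.zero] at h0
    have := hB.free (q⁻¹ * p) (mul_mem (inv_mem hq) hp) (by rw [mul_smul, h0, inv_smul_smul])
    rwa [← inv_mul_eq_one.mp this]
  have hKmodel : ∀ k : L, k • P = P → k • Q = Q → φ k ∈ model := by
    intro k hP hQ
    obtain ⟨n, hn, hkn⟩ := hD.realK k hP hQ
    obtain ⟨wd, hwd, rfl⟩ := List.mem_map.mp hn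
    obtain ⟨k₁, hk₁P, hk₁Q, hk₁⟩ := hD.repK 0 (by show 0 < [((mC, 2) : (ℕ × ℕ × ℕ × ℕ) × ℕ)].length; simp)
    have hwz : ∀ i ∈ wd, i = 0 := fun i hi => by
      have := List.all_eq_true.mp (List.all_eq_true.mp words_kl.1 wd hwd) i hi
      simpa using this
    have hlt1 : ∀ x, x < 28 → get (cfg0.P.getD 0 0) x < 28 := fun x hx => by
      rw [get_cfg0_gen hx, get_code (fun z hz => (Search.actP_lt _ z hz).trans (by norm_num)) hx]
      exact Search.actP_lt _ x hx
    have hk₁m : φ k₁ ∈ model := Subgroup.subset_closure ⟨code (actP (mC, 2)), by simp [modelGens],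
      fun i => by rw [← get_cfg0_gen i.2]; exact hreal k₁ _ hlt1 hk₁ i⟩
    have hlen : ∀ i, i < cfg0.gens.length → Realises pt k₁ (cfg0.P.getD i 0) := fun i hi => by
      obtain rfl : i = 0 := by simp [cfg0] at hi; omega
      exact hk₁
    obtain ⟨hg, -⟩ := realises_ev (kg := fun _ => k₁) hlen wd fun i hi => by rw [hwz i hi]; simp [cfg0]
    rw [huniq k (wd.map fun _ => k₁).prod fun x hx => (hkn x hx).trans (hg x hx).symm, map_list_prod]
    refine list_prod_mem fun σ hσ => ?_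
    simp only [List.map_map, List.mem_map] at hσ
    obtain ⟨i, -, rfl⟩ := hσ
    exact hk₁m
  have hklt : ∀ n ∈ cfg0.K, ∀ x, x < 28 → get n x < 28 := fun n hn x hx =>
    of_decide_eq_true (List.all_eq_true.mp (List.all_eq_true.mp
      (List.all_eq_true.mp kval_lt_all cfg0 List.mem_cons_self) n hn) x (List.mem_range.mpr hx))
  -- the element completing the action
  obtain ⟨k₁, hk₁P, hk₁Q, hk₁⟩ : ∃ k, k • P = P ∧ k • Q = Q ∧ Realises pt k k₀ := by
    obtain ⟨wd, hwd, rfl⟩ := List.mem_map.mp hk₀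
    obtain ⟨g, hgP, hgQ, hg⟩ := hD.repK 0 (by show 0 < [((mC, 2) : (ℕ × ℕ × ℕ × ℕ) × ℕ)].length; simp)
    refine ⟨(wd.map fun _ => g).prod, ?_, ?_, ?_⟩
    · refine (mem_stabilizer_iff (G := L)).mp (list_prod_mem fun y hy => ?_)
      obtain ⟨_, -, rfl⟩ := List.mem_map.mp hy
      exact hgP
    · refine (mem_stabilizer_iff (G := L)).mp (list_prod_mem fun y hy => ?_)
      obtain ⟨_, -, rfl⟩ := List.mem_map.mp hy
      exact hgQ
    · refine (realises_ev (kg := fun _ => g) (fun i hi => ?_) wd fun i hi => ?_).1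
      · obtain rfl : i = 0 := by simp [cfg0] at hi; omega
        exact hg
      · have := List.all_eq_true.mp (List.all_eq_true.mp words_kl.1 wd hwd) i hi
        simpa [cfg0] using this
  have hT : ∀ y, y < 28 → ∃ x, x < 28 ∧ get k₀ x = y := fun y hy => by
    obtain ⟨x, hx, hxy⟩ := hD.surj (k₁⁻¹ • pt y)
    refine ⟨x, hx, hD.inj _ (hklt _ hk₀ x hx) y hy ?_⟩
    rw [← hk₁ x hx, hxy, smul_inv_smul]
  have htmodel : φ (t * k₁⁻¹) ∈ model := by
    refine Subgroup.subset_closure ⟨w0, by simp [modelGens], fun i => ?_⟩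
    obtain ⟨x, hx, hxy⟩ := hT i i.2
    rw [hφval, mul_smul, ← hxy, ← hk₁ x hx, inv_smul_smul, (htw x hx).2, hnum' _ (htw x hx).1, hw x hx]
  have hfixP : ∀ g : L, g • P = P → φ g ∈ model := by
    intro g hg
    obtain ⟨y, hy, hyQ⟩ := hB.reg (g • Q) fun e1 => hB.ne (smul_left_cancel g (e1.trans hg.symm))
    rw [show g = y * (y⁻¹ * g) by group, map_mul]
    exact mul_mem (hPmodel y hy) (hKmodel _ (by rw [mul_smul, hg, inv_smul_eq_iff, hB.fix y hy])
      (by rw [mul_smul, ← hyQ, inv_smul_smul]))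
  have htm : φ t ∈ model := by
    rw [show t = t * k₁⁻¹ * k₁ by group, map_mul]
    exact mul_mem htmodel (hfixP k₁ hk₁P)
  have hall : ∀ g : L, φ g ∈ model := by
    intro g
    by_cases hg : g • P = P
    · exact hfixP g hg
    · obtain ⟨y, hy, hyQ⟩ := hB.reg (g • P) hg
      rw [show g = y * t * (t⁻¹ * (y⁻¹ * g)) by group, map_mul, map_mul]
      refine mul_mem (mul_mem (hPmodel y hy) htm) (hfixP _ ?_)
      rw [mul_smul, mul_smul, ← hyQ, inv_smul_smul, inv_smul_eq_iff, htP]
  have hrange : φ.range = model := by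
    refine le_antisymm ?_ ((Subgroup.closure_le _).mpr ?_)
    · rintro _ ⟨g, rfl⟩; exact hall g
    · rintro σ ⟨n, hn, hσ⟩
      suffices ∃ g, (∀ i : Fin 28, ((φ g) i : ℕ) = get n i) by
        obtain ⟨g, hg⟩ := this
        exact ⟨g, Equiv.ext fun i => Fin.ext ((hg i).trans (hσ i).symm)⟩
      simp only [modelGens, List.mem_cons, List.not_mem_nil, or_false] at hn
      rcases hn with rfl | rfl | rfl | rfl | rfl
      · obtain ⟨p, -, -, hp⟩ := hP3 1 (Or.inl rfl)
        exact ⟨p, hreal p _ (fun x hx => by rw [hgP 1 (by norm_num) x hx]; exact mulP_lt _ _ _ hx) hp⟩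
      · obtain ⟨p, -, -, hp⟩ := hP3 3 (Or.inr (Or.inl rfl))
        exact ⟨p, hreal p _ (fun x hx => by rw [hgP 3 (by norm_num) x hx]; exact mulP_lt _ _ _ hx) hp⟩
      · obtain ⟨p, -, -, hp⟩ := hP3 9 (Or.inr (Or.inr rfl))
        exact ⟨p, hreal p _ (fun x hx => by rw [hgP 9 (by norm_num) x hx]; exact mulP_lt _ _ _ hx) hp⟩
      · obtain ⟨g, -, -, hg⟩ := hD.repK 0 (by show 0 < [((mC, 2) : (ℕ × ℕ × ℕ × ℕ) × ℕ)].length; simp)
        exact ⟨g, fun i => by
          rw [← get_cfg0_gen i.2]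
          refine hreal g _ (fun x hx => ?_) hg i
          rw [get_cfg0_gen hx, get_code (fun z hz => (Search.actP_lt _ z hz).trans (by norm_num)) hx]
          exact Search.actP_lt _ x hx⟩
      · refine ⟨t * k₁⁻¹, fun i => ?_⟩
        obtain ⟨x, hx, hxy⟩ := hT i i.2
        rw [hφval, mul_smul, ← hxy, ← hk₁ x hx, inv_smul_smul, (htw x hx).2, hnum' _ (htw x hx).1, hw x hx]
  exact ⟨(MonoidHom.ofInjective hφinj).trans (MulEquiv.subgroupCongr hrange)⟩

end Cfsg.Agent.Char.GTwoSpectrum
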