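import Cfsg.Agent.Lib.Char.GTwoSpectrum.Degrees
import Cfsg.Agent.Lib.Char.IndValue
import Cfsg.Agent.Lib.Char.Induction
import Cfsg.Agent.Lib.Char.BSW.Eqs
import Cfsg.Agent.S4488

/-!
# Permutation characters of a simple group of order 6048
-/

set_option autoImplicit false
set_option linter.style.haveILetI false

namespace Cfsg.Agent.Char.GTwoSpectrum

open Cfsg Cfsg.Agent Cfsg.Agent.Char Cfsg.Agent.Small.Order459648
open scoped ComplexConjugate

universe u

variable {L : Type u} [Group L]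

/-- The multiplicity of the trivial character does not increase with the subgroup. -/
theorem trivMult_mono [Finite L] {χ : L → ℂ} (h : IsCharacter L χ) {P H : Subgroup L} (hPH : P ≤ H)
    [Fintype P] [Fintype H] {a b : ℕ}
    (ha : classInner (fun x : P => χ x) (fun _ => (1 : ℂ)) = a)
    (hb : classInner (fun x : H => χ x) (fun _ => (1 : ℂ)) = b) : b ≤ a := by
  classical
  obtain ⟨m, hm⟩ := exists_decomposition (isCharacter_comp H.subtype h)
  set one : IrrCharacter H := ⟨fun _ => 1, isIrrCharacter_one⟩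
  have hb' : (b : ℂ) = m one := by
    rw [← hb]; exact decomposition_coeff m hm one
  choose k hk using fun ψ : IrrCharacter H =>
    classInner_natCast (isCharacter_comp (Subgroup.inclusion hPH) (irr_isCharacter ψ.2))
      (isCharacter_one (G := P))
  have hone : k one = 1 := by
    have h1 : classInner (fun _ : P => (1 : ℂ)) (fun _ => 1) = 1 := irr_self isIrrCharacter_one
    have := hk one
    exact_mod_cast this.symm.trans h1
  have hsum : (a : ℂ) = ∑ ψ : IrrCharacter H, (m ψ : ℂ) * (k ψ : ℂ) := by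
    rw [← ha]
    simp only [← hk, classInner, Finset.mul_sum]
    rw [Finset.sum_comm]
    refine Finset.sum_congr rfl fun x _ => ?_
    rw [show χ (x : L) = (fun y : H => χ y) (Subgroup.inclusion hPH x) from rfl]
    rw [show (fun y : H => χ y) = ∑ ψ, m ψ • (ψ : H → ℂ) from hm]
    simp only [Finset.sum_apply, Pi.smul_apply, nsmul_eq_mul, map_one, mul_one, Finset.mul_sum]
    refine Finset.sum_congr rfl fun ψ _ => ?_
    simp only [Pi.mul_apply, Pi.natCast_apply, Function.comp_apply]
    ring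
  have hsum' : a = ∑ ψ : IrrCharacter H, m ψ * k ψ := by exact_mod_cast hsum
  have hb'' : b = m one * k one := by rw [hone, mul_one]; exact_mod_cast hb'
  rw [hsum', hb'']
  exact Finset.single_le_sum (f := fun ψ => m ψ * k ψ) (fun _ _ => Nat.zero_le _) (Finset.mem_univ one)

/-- Elements of a 3-subgroup have order one or three. -/
theorem Gap.pow_three [Finite L] (h : Gap L) {P : Subgroup L} (hP : IsPGroup 3 P) {x : L}
    (hx : x ∈ P) : x ^ 3 = 1 := by
  obtain ⟨i, hi⟩ := hP ⟨x, hx⟩
  have hi' : x ^ 3 ^ i = 1 := congrArg Subtype.val hi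
  obtain ⟨j, hj, hjo⟩ := (Nat.dvd_prime_pow Nat.prime_three).mp (orderOf_dvd_of_pow_eq_one hi')
  have hj1 : j ≤ 1 := by
    by_contra hj2
    refine (h (x ^ (3 ^ (j - 2)))).1 ?_
    rw [orderOf_pow_of_dvd (pow_ne_zero _ (by norm_num)) (hjo ▸ pow_dvd_pow 3 (by omega)), hjo,
      show 3 ^ j = 3 ^ (j - 2) * 9 by rw [show (9 : ℕ) = 3 ^ 2 by norm_num, ← pow_add]; congr 1; omega,
      Nat.mul_div_cancel_left _ (pow_pos (by norm_num) _)]
  exact orderOf_dvd_iff_pow_eq_one.mp (hjo ▸ by simpa using pow_dvd_pow 3 hj1)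

variable [Fintype L] [IsSimpleGroup L] {c₆ c₂₇ c₃₂ : IrrCharacter L}

theorem LChars.deg_eq (hc : LChars c₆ c₂₇ c₃₂) :
    deg (c₆ : L → ℂ) = 6 ∧ deg (c₂₇ : L → ℂ) = 27 ∧ deg (c₃₂ : L → ℂ) = 32 := by
  have h1 := hc.deg6
  have h2 := hc.deg27
  have h3 := hc.deg32
  rw [char_one_eq_deg (irr_isCharacter c₆.2)] at h1
  rw [char_one_eq_deg (irr_isCharacter c₂₇.2)] at h2
  rw [char_one_eq_deg (irr_isCharacter c₃₂.2)] at h3
  exact ⟨by exact_mod_cast h1, by exact_mod_cast h2, by exact_mod_cast h3⟩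

theorem LChars.vanish27 (hc : LChars c₆ c₂₇ c₃₂) (hL : Nat.card L = 6048) {g : L}
    (hg : 3 ∣ orderOf g) : (c₂₇ : L → ℂ) g = 0 := by
  refine BSW.defect_zero_vanish Nat.prime_three ?_ hg
  haveI : Fact (Nat.Prime 3) := ⟨Nat.prime_three⟩
  obtain ⟨P⟩ := (inferInstance : Nonempty (Sylow 3 L))
  rw [← P.card_eq_multiplicity,
    Small.SmallOrders.sylow_card_eq (k := 3) (m := 224) (by rw [hL]; norm_num) (by norm_num) P,
    hc.deg_eq.2.1]
  norm_num

/-- No involution centralises a subgroup of order nine. -/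
theorem LChars.no_invol_nine (hc : LChars c₆ c₂₇ c₃₂) (hL : Nat.card L = 6048)
    (D : Subgroup L) (hD : Nat.card D = 9) {v : L} (hv : orderOf v = 2)
    (hcm : ∀ d ∈ D, Commute d v) : False := by
  classical
  haveI := Fintype.ofFinite D
  haveI := Fintype.ofFinite (Subgroup.zpowers v)
  have hc2 : ∀ (d : D) (w : Subgroup.zpowers v), Commute (d : L) (w : L) := fun d w => by
    obtain ⟨i, hi⟩ := Subgroup.mem_zpowers_iff.mp w.2
    rw [← hi]
    exact (hcm d d.2).zpow_right i
  let φ : D × Subgroup.zpowers v →* L :=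
    MonoidHom.mk' (fun p => (p.1 : L) * (p.2 : L)) fun a b => by
      show ((a.1 * b.1 : D) : L) * ((a.2 * b.2 : Subgroup.zpowers v) : L) = _
      push_cast
      simp only [mul_assoc]
      congr 1
      rw [← mul_assoc (b.1 : L), (hc2 b.1 a.2).eq, mul_assoc]
  obtain ⟨n, hn⟩ := classInner_natCast (isCharacter_comp φ (irr_isCharacter c₂₇.2))
    (isCharacter_one (G := D × Subgroup.zpowers v))
  have hv2 : v ^ 2 = 1 := by rw [← hv, pow_orderOf_eq_one]
  set g : Subgroup.zpowers v := ⟨v, Subgroup.mem_zpowers v⟩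
  have hg1 : g ≠ 1 := fun e => by
    have : v = 1 := congrArg Subtype.val e
    rw [this, orderOf_one] at hv; norm_num at hv
  have huniv : (Finset.univ : Finset (Subgroup.zpowers v)) = {1, g} := by
    refine (Finset.eq_univ_of_card _ ?_).symm
    rw [Finset.card_pair (Ne.symm hg1), ← Nat.card_eq_fintype_card, Nat.card_zpowers, hv]
  have hzero : ∀ d : D, d ≠ 1 → ∀ w : Subgroup.zpowers v, (c₂₇ : L → ℂ) (φ (d, w)) = 0 := by
    intro d hd w
    show (c₂₇ : L → ℂ) ((d : L) * (w : L)) = 0
    refine hc.vanish27 hL ?_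
    have hw2 : (w : L) ^ 2 = 1 := by
      obtain ⟨i, hi⟩ := Subgroup.mem_zpowers_iff.mp w.2
      rw [← hi, ← zpow_natCast, ← zpow_mul, mul_comm, zpow_mul, zpow_natCast, hv2, one_zpow]
    have hd9 : orderOf (d : L) ∣ 3 ^ 2 := by
      have := D.orderOf_dvd_natCard d.2
      rwa [hD] at this
    have hw : orderOf (w : L) ∣ 2 := orderOf_dvd_of_pow_eq_one hw2
    have hco : (orderOf (d : L)).Coprime (orderOf (w : L)) :=
      Nat.Coprime.coprime_dvd_left hd9 (Nat.Coprime.coprime_dvd_right hw (by norm_num))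
    rw [(hc2 d w).orderOf_mul_eq_mul_orderOf_of_coprime hco]
    obtain ⟨i, hi, hi'⟩ := (Nat.dvd_prime_pow Nat.prime_three).mp hd9
    refine dvd_mul_of_dvd_left ?_ _
    rw [hi']
    exact dvd_pow_self 3 fun e => hd (Subtype.ext (orderOf_eq_one_iff.mp (by rw [hi', e, pow_zero])))
  have hsum : ∑ p : D × Subgroup.zpowers v, (c₂₇ : L → ℂ) (φ p) = 30 := by
    rw [Fintype.sum_prod_type, Finset.sum_eq_single (1 : D)
      (fun d _ hd => Finset.sum_eq_zero fun w _ => hzero d hd w) (fun h => absurd (Finset.mem_univ _) h),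
      show ∑ y : Subgroup.zpowers v, (c₂₇ : L → ℂ) (φ ((1 : D), y)) =
        ∑ y ∈ ({1, g} : Finset (Subgroup.zpowers v)), (c₂₇ : L → ℂ) (φ ((1 : D), y)) by rw [huniv],
      Finset.sum_pair (Ne.symm hg1)]
    show (c₂₇ : L → ℂ) ((1 : L) * (1 : L)) + (c₂₇ : L → ℂ) ((1 : L) * v) = 30
    rw [one_mul, one_mul, hc.deg27, hc.inv27 v hv]
    norm_num
  simp only [classInner, map_one, mul_one, Function.comp_apply] at hn
  rw [hsum, Nat.card_prod, hD, Nat.card_zpowers, hv] at hn
  have h30 : (30 : ℂ) = ((18 * n : ℕ) : ℂ) := by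
    push_cast at hn ⊢
    linear_combination (18 : ℂ) * hn
  have : 30 = 18 * n := by exact_mod_cast h30
  omega

/-- The multiplicities of the trivial character in the restrictions to a Sylow 3-subgroup. -/
theorem LChars.sylow_mult (hc : LChars c₆ c₂₇ c₃₂) (h : Gap L) (hL : Nat.card L = 6048)
    [Fact (Nat.Prime 3)] (P : Sylow 3 L) [Fintype (P : Subgroup L)] :
    classInner (fun x : (P : Subgroup L) => (c₂₇ : L → ℂ) x) (fun _ => (1 : ℂ)) = 1 ∧
      classInner (fun x : (P : Subgroup L) => (c₆ : L → ℂ) x) (fun _ => (1 : ℂ)) = 0 := by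
  classical
  have hna : ¬ IsMulCommutative L := Small.SmallOrders.not_comm_of_card (by rw [hL]; norm_num)
  have hPc : Nat.card (P : Subgroup L) = 27 :=
    Small.SmallOrders.sylow_card_eq (k := 3) (m := 224) (by rw [hL]; norm_num) (by norm_num) P
  have hx3 : ∀ x : (P : Subgroup L), (x : L) ^ 3 = 1 := fun x => h.pow_three P.isPGroup' x.2
  have hord : ∀ x : (P : Subgroup L), x ≠ 1 → orderOf (x : L) = 3 := fun x hx =>
    ((Nat.dvd_prime Nat.prime_three).mp (orderOf_dvd_of_pow_eq_one (hx3 x))).resolve_left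
      fun e => hx (Subtype.ext (orderOf_eq_one_iff.mp e))
  refine ⟨?_, ?_⟩
  · simp only [classInner, map_one, mul_one]
    rw [Finset.sum_eq_single (1 : (P : Subgroup L))
      (fun x _ hx => hc.vanish27 hL (by rw [hord x hx])) (fun h => absurd (Finset.mem_univ _) h),
      OneMemClass.coe_one, hc.deg27, hPc]
    norm_num
  · obtain ⟨m, hm⟩ := exists_decomposition (isCharacter_comp (P : Subgroup L).subtype (irr_isCharacter c₆.2))
    set one : IrrCharacter (P : Subgroup L) := ⟨fun _ => 1, isIrrCharacter_one⟩ with hone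
    rw [show classInner (fun x : (P : Subgroup L) => (c₆ : L → ℂ) x) (fun _ => (1 : ℂ)) = (m one : ℂ) from
      decomposition_coeff m hm one]
    by_contra hne
    have ha : 1 ≤ m one := Nat.one_le_iff_ne_zero.mpr fun e => hne (by rw [e, Nat.cast_zero])
    set ψ : ↥(P : Subgroup L) → ℂ := ∑ φ ∈ (Finset.univ : Finset (IrrCharacter (P : Subgroup L))).erase one,
      m φ • (φ : ↥(P : Subgroup L) → ℂ) with hψ
    have hψc : IsCharacter (P : Subgroup L) ψ :=
      isCharacter_sum _ _ fun φ _ => isCharacter_nsmul (irr_isCharacter φ.2) _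
    have hval : ∀ x : (P : Subgroup L), (c₆ : L → ℂ) x = m one + ψ x := fun x => by
      rw [show (c₆ : L → ℂ) (x : L) = (fun y : (P : Subgroup L) => (c₆ : L → ℂ) y) x from rfl,
        show (fun y : (P : Subgroup L) => (c₆ : L → ℂ) y) =
          ∑ φ, m φ • (φ : ↥(P : Subgroup L) → ℂ) from hm,
        ← Finset.add_sum_erase _ _ (Finset.mem_univ one), hψ]
      simp [hone]
    obtain ⟨d, hd⟩ : ∃ d : ℕ, ψ 1 = d := ⟨_, char_one_eq_deg hψc⟩
    have h6 : m one + d = 6 := by
      have := hval 1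
      rw [hd, OneMemClass.coe_one, hc.deg6] at this
      exact_mod_cast this.symm
    have hint : ∀ x : (P : Subgroup L), ∃ z : ℤ, ψ x = z := by
      intro x
      have heq : (c₆ : L → ℂ) (x : L) = (c₆ : L → ℂ) ((x : L) ^ 2) := by
        rw [← hc.pow6 (x : L), show (5 : ℕ) = 3 + 2 from rfl, pow_add, hx3 x, one_mul]
      obtain ⟨j, d', -, -, hv⟩ := three_value (irr_isCharacter c₆.2) (hx3 x) heq
      refine ⟨(d' : ℤ) - 3 * j - m one, ?_⟩
      rw [show ψ x = (c₆ : L → ℂ) x - m one by rw [hval x]; ring, hv]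
      push_cast
      ring
    have hb := S4488.result 3 Nat.prime_three ψ hψc (fun g hg => by
        refine Subtype.ext (faithful (χ := c₆) (fun e => ?_) ?_ _ ?_)
        · have := hc.deg6
          rw [e] at this
          norm_num [show ((oneChar : IrrCharacter L) : L → ℂ) 1 = 1 from rfl] at this
        · show deg (c₆ : L → ℂ) ≠ 1
          rw [hc.deg_eq.1]; norm_num
        · rw [hval g, hg, ← hval 1, OneMemClass.coe_one])
      ⟨1, one_pos, by norm_num, fun g => by
        obtain ⟨z, hz⟩ := hint g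
        rw [hz]
        exact intCast_mem _ z⟩ d (by
        have := char_one_eq_deg hψc
        rw [hd] at this
        exact_mod_cast this.symm)
    rw [hPc, show (27 : ℕ) = 3 ^ 3 by norm_num, Nat.Prime.factorization_pow Nat.prime_three,
      Finsupp.single_eq_same] at hb
    have hd5 : d ≤ 5 := by omega
    revert hb
    interval_cases d <;> decide

/-- A proper subgroup containing a Sylow 3-subgroup and of order prime to seven has index at least
28, and the permutation character is known in the case of equality. -/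
theorem LChars.index_bound (hc : LChars c₆ c₂₇ c₃₂) (h : Gap L) (hL : Nat.card L = 6048)
    [Fact (Nat.Prime 3)] (P : Sylow 3 L) {H : Subgroup L} [Fintype H]
    (hPH : (P : Subgroup L) ≤ H) (h7 : ¬ 7 ∣ Nat.card H) :
    28 ≤ H.index ∧ (H.index = 28 → ∀ g : L, indFun H (fun _ => 1) g = 1 + (c₂₇ : L → ℂ) g) := by
  classical
  haveI := Fintype.ofFinite (P : Subgroup L)
  set π : L → ℂ := indFun H (fun _ => 1) with hπ
  obtain ⟨m, hm⟩ := exists_decomposition (isCharacter_indFun H (isCharacter_one (G := H)))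
  have hcoef : ∀ χ : IrrCharacter L,
      classInner (fun _ : H => (1 : ℂ)) (fun x : H => (χ : L → ℂ) x) = m χ := fun χ => by
    rw [← frobenius H _ (isClassFunction_character (irr_isCharacter χ.2))]
    exact decomposition_coeff m hm χ
  have hcoef' : ∀ χ : IrrCharacter L,
      classInner (fun x : H => (χ : L → ℂ) x) (fun _ : H => (1 : ℂ)) = m χ := fun χ => by
    rw [← classInner_symm, hcoef, map_natCast]
  have hone : m oneChar = 1 := by
    have h1 : classInner (fun _ : H => (1 : ℂ)) (fun _ : H => (1 : ℂ)) = 1 :=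
      irr_self isIrrCharacter_one
    have h2 := hcoef oneChar
    exact_mod_cast h2.symm.trans h1
  obtain ⟨h27, h6⟩ := hc.sylow_mult h hL P
  have hm6 : m c₆ = 0 := Nat.le_zero.mp
    (trivMult_mono (irr_isCharacter c₆.2) hPH (a := 0) (by rw [h6, Nat.cast_zero]) (hcoef' c₆))
  have hm27 : m c₂₇ ≤ 1 :=
    trivMult_mono (irr_isCharacter c₂₇.2) hPH (a := 1) (by rw [h27, Nat.cast_one]) (hcoef' c₂₇)
  obtain ⟨y, hy, htot⟩ := hc.total
  have hπy : π y = 0 := by
    simp only [hπ, indFun]
    rw [Finset.sum_eq_zero, mul_zero]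
    intro x _
    refine extendByZero_not_mem H _ fun hmem => h7 ?_
    have := H.orderOf_dvd_natCard hmem
    rwa [show x⁻¹ * y * x = MulAut.conj x⁻¹ y by simp, MulEquiv.orderOf_eq, hy] at this
  have heq : (m oneChar : ℂ) - m c₆ - m c₂₇ + m c₃₂ = 0 := by
    rw [← htot (fun χ => (m χ : ℂ)) (fun ψ ψ' hψ => by
      show (m ψ : ℂ) = m ψ'
      rw [← hcoef, ← hcoef]
      congr 1
      funext x
      exact hψ x fun h' => h7 (h'.trans (H.orderOf_dvd_natCard x.2))), ← hπy,
      show π = ∑ χ, m χ • (χ : L → ℂ) from hm]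
    simp [Finset.sum_apply]
  have hN : (m oneChar : ℤ) - m c₆ - m c₂₇ + m c₃₂ = 0 := by exact_mod_cast heq
  have h32 : m c₃₂ = 0 := by omega
  have h27' : m c₂₇ = 1 := by omega
  have hidx : H.index = ∑ χ : IrrCharacter L, m χ * deg (χ : L → ℂ) := by
    have h1 : π 1 = (H.index : ℂ) := by rw [hπ, indFun_one, mul_one]
    rw [show π = ∑ χ, m χ • (χ : L → ℂ) from hm] at h1
    simp only [Finset.sum_apply, Pi.smul_apply, nsmul_eq_mul, Pi.natCast_apply, Pi.mul_apply,
      fun χ : IrrCharacter L => char_one_eq_deg (irr_isCharacter χ.2)] at h1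
    exact_mod_cast h1.symm
  have hne : c₂₇ ≠ oneChar := fun e => by
    have := hc.deg27
    rw [e] at this
    norm_num [show ((oneChar : IrrCharacter L) : L → ℂ) 1 = 1 from rfl] at this
  rw [← Finset.add_sum_erase _ _ (Finset.mem_univ (oneChar : IrrCharacter L)),
    ← Finset.add_sum_erase _ _ (Finset.mem_erase.mpr ⟨hne, Finset.mem_univ _⟩), hone, h27',
    hc.deg_eq.2.1, show deg ((oneChar : IrrCharacter L) : L → ℂ) = 1 from charDegree_oneChar] at hidx
  refine ⟨by omega, fun h28 g => ?_⟩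
  have hzero : ∑ χ ∈ ((Finset.univ : Finset (IrrCharacter L)).erase oneChar).erase c₂₇,
      m χ * deg (χ : L → ℂ) = 0 := by omega
  rw [show π = ∑ χ, m χ • (χ : L → ℂ) from hm, Finset.sum_apply,
    ← Finset.add_sum_erase _ _ (Finset.mem_univ (oneChar : IrrCharacter L)),
    ← Finset.add_sum_erase _ _ (Finset.mem_erase.mpr ⟨hne, Finset.mem_univ _⟩),
    Finset.sum_eq_zero fun χ hχ => ?_]
  · simp [hone, h27', show ((oneChar : IrrCharacter L) : L → ℂ) g = 1 from rfl]
  · rcases Nat.mul_eq_zero.mp ((Finset.sum_eq_zero_iff.mp hzero) χ hχ) with e | e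
    · simp [e]
    · exact absurd e (deg_pos χ.2).ne'

end Cfsg.Agent.Char.GTwoSpectrum
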