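import Cfsg.Agent.Lib.Char.GTwoSpectrum.Frame

/-!
# The action on the 28 Sylow 3-subgroups
-/

set_option autoImplicit false
set_option linter.style.haveILetI false

namespace Cfsg.Agent.Char.GTwoSpectrum

open Cfsg Cfsg.Agent Cfsg.Agent.Char MulAction

universe u

variable {L : Type u} [Group L]

/-- The facts about the action on the Sylow 3-subgroups that are used to find the model. -/
structure Base (P Q : Sylow 3 L) : Prop where
  ne : Q ≠ P
  card28 : Nat.card (Sylow 3 L) = 28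
  cardP : Nat.card (P : Subgroup L) = 27
  exp3 : ∀ x ∈ P, x ^ 3 = 1
  fix : ∀ x ∈ P, x • P = P
  free : ∀ x ∈ P, x • Q = Q → x = 1
  reg : ∀ A : Sylow 3 L, A ≠ P → ∃ x ∈ P, x • Q = A
  invol : ∀ v : L, orderOf v = 2 → Nat.card (fixedBy (Sylow 3 L) v) = 4
  faithful : ∀ g : L, (∀ A : Sylow 3 L, g • A = A) → g = 1
  cardK : Nat.card ↥(stabilizer L P ⊓ stabilizer L Q) = 8

/-- A simple group of order 6048 without elements of order 9, 14 and 21 has the facts. -/
theorem exists_base [Finite L] [IsSimpleGroup L] (h : Gap L) (hL : Nat.card L = 6048) :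
    ∃ P Q : Sylow 3 L, Base P Q := by
  classical
  haveI := Fintype.ofFinite L
  haveI : Fact (Nat.Prime 3) := ⟨Nat.prime_three⟩
  obtain ⟨c₆, c₂₇, c₃₂, hc⟩ := exists_LChars h hL
  obtain ⟨h28, hchar⟩ := hc.sylow_perm h hL
  have hinv : ∀ v : L, orderOf v = 2 → Nat.card (fixedBy (Sylow 3 L) v) = 4 := fun v hv => by
    have := hchar v
    rw [hc.inv27 v hv, show (1 : ℂ) + 3 = ((4 : ℕ) : ℂ) by norm_num] at this
    exact_mod_cast this
  have hthree : ∀ x : L, orderOf x = 3 → Nat.card (fixedBy (Sylow 3 L) x) = 1 := fun x hx => by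
    have := hchar x
    rw [hc.vanish27 hL (by rw [hx]), add_zero] at this
    exact_mod_cast this
  obtain ⟨P⟩ := (inferInstance : Nonempty (Sylow 3 L))
  haveI : Nontrivial (Sylow 3 L) := Finite.one_lt_card_iff_nontrivial.mp (by rw [h28]; norm_num)
  obtain ⟨Q, hQ⟩ := exists_ne P
  have hPc : Nat.card (P : Subgroup L) = 27 :=
    Small.SmallOrders.sylow_card_eq (k := 3) (m := 224) (by rw [hL]; norm_num) (by norm_num) P
  have hexp : ∀ x ∈ P, x ^ 3 = 1 := fun x hx => h.pow_three P.isPGroup' hx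
  have hfix : ∀ x ∈ P, x • P = P := fun x hx =>
    Sylow.smul_eq_iff_mem_normalizer.mpr (Subgroup.le_normalizer hx)
  have hfree : ∀ x ∈ P, ∀ A : Sylow 3 L, A ≠ P → x • A = A → x = 1 := by
    intro x hx A hA hxA
    by_contra hx1
    have h1 := hthree x (orderOf_eq_prime (hexp x hx) hx1)
    rw [Nat.card_eq_one_iff_unique] at h1
    haveI := h1.1
    exact hA (congrArg Subtype.val
      (Subsingleton.elim (⟨A, hxA⟩ : fixedBy (Sylow 3 L) x) ⟨P, hfix x hx⟩))
  have hreg : ∀ A : Sylow 3 L, A ≠ P → ∃ x ∈ P, x • Q = A := by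
    intro A hA
    haveI := Fintype.ofFinite (P : Subgroup L)
    haveI := Fintype.ofFinite (Sylow 3 L)
    let o : ↥(P : Subgroup L) → {B : Sylow 3 L // B ≠ P} := fun x => ⟨(x : L) • Q, fun e => hQ (by
      have e' : (x : L) • Q = (x : L) • P := e.trans (hfix x x.2).symm
      exact smul_left_cancel _ e')⟩
    have hbij : Function.Bijective o := by
      rw [Fintype.bijective_iff_injective_and_card]
      refine ⟨fun x y e => ?_, ?_⟩
      · have e' : (x : L) • Q = (y : L) • Q := congrArg Subtype.val e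
        refine (inv_mul_eq_one.mp (hfree ((y : L)⁻¹ * x) (mul_mem (inv_mem y.2) x.2) Q hQ ?_) : (y : L) = x) |> fun e => Subtype.ext e.symm
        rw [mul_smul, e', inv_smul_smul]
      · rw [Fintype.card_subtype_compl, Fintype.card_subtype_eq, ← Nat.card_eq_fintype_card,
          ← Nat.card_eq_fintype_card, hPc, h28]
    obtain ⟨x, hx⟩ := hbij.2 ⟨A, hA⟩
    exact ⟨x, x.2, congrArg Subtype.val hx⟩
  have hfaith : ∀ g : L, (∀ A : Sylow 3 L, g • A = A) → g = 1 := by
    intro g hg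
    rcases (MulAction.toPermHom L (Sylow 3 L)).normal_ker.eq_bot_or_eq_top with e | e
    · have : g ∈ (MulAction.toPermHom L (Sylow 3 L)).ker := Equiv.ext fun A => hg A
      rwa [e, Subgroup.mem_bot] at this
    · obtain ⟨x, hx⟩ := MulAction.exists_smul_eq L P Q
      have : x ∈ (MulAction.toPermHom L (Sylow 3 L)).ker := by rw [e]; trivial
      exact absurd (hx.symm.trans (Equiv.ext_iff.mp this P)) hQ
  refine ⟨P, Q, hQ, h28, hPc, hexp, hfix, fun x hx => hfree x hx Q hQ, hreg, hinv, hfaith, ?_⟩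
  have hN : Nat.card (stabilizer L P) = 216 := by
    have h1 := (stabilizer L P).card_mul_index
    rw [MulAction.index_stabilizer_of_transitive, h28, hL] at h1
    omega
  have hbij : Function.Bijective fun p : ↥(P : Subgroup L) × ↥(stabilizer L P ⊓ stabilizer L Q) =>
      (⟨(p.1 : L) * (p.2 : L), mul_mem (hfix _ p.1.2) p.2.2.1⟩ : stabilizer L P) := by
    refine ⟨fun p q e => ?_, fun g => ?_⟩
    · have e' : (p.1 : L) * (p.2 : L) = (q.1 : L) * (q.2 : L) := congrArg Subtype.val e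
      have h1 : ((q.1 : L)⁻¹ * p.1) • Q = Q := by
        have h2 : (q.1 : L)⁻¹ * p.1 = (q.2 : L) * (p.2 : L)⁻¹ := by
          rw [eq_mul_inv_iff_mul_eq, mul_assoc, e', inv_mul_cancel_left]
        rw [h2, mul_smul, inv_smul_eq_iff.mpr (mem_stabilizer_iff.mp p.2.2.2).symm]
        exact mem_stabilizer_iff.mp q.2.2.2
      have h3 : (q.1 : L) = p.1 :=
        inv_mul_eq_one.mp (hfree _ (mul_mem (inv_mem q.1.2) p.1.2) Q hQ h1)
      rw [h3] at e'
      exact Prod.ext (Subtype.ext h3.symm) (Subtype.ext (mul_left_cancel e'))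
    · have hg : (g : L) • P = P := g.2
      obtain ⟨x, hx, hxg⟩ := hreg ((g : L) • Q) (fun e => hQ (smul_left_cancel _ (e.trans hg.symm)))
      refine ⟨(⟨x, hx⟩, ⟨x⁻¹ * g, ?_, ?_⟩), Subtype.ext (mul_inv_cancel_left x (g : L))⟩
      · show (x⁻¹ * (g : L)) • P = P
        rw [mul_smul, hg, inv_smul_eq_iff, hfix x hx]
      · show (x⁻¹ * (g : L)) • Q = Q
        rw [mul_smul, ← hxg, inv_smul_smul]
  have := Nat.card_eq_of_bijective _ hbij
  rw [Nat.card_prod, hPc, hN] at this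
  omega

variable {P Q : Sylow 3 L}

theorem Base.conj_mem (_hB : Base P Q) {k : L} (hk : k ∈ stabilizer L P ⊓ stabilizer L Q) :
    ∀ x ∈ P, k * x * k⁻¹ ∈ P := fun x hx =>
  (Subgroup.mem_normalizer_iff.mp (Sylow.smul_eq_iff_mem_normalizer.mp hk.1) x).mp hx

theorem Base.smul_smul_Q (_hB : Base P Q) {k : L} (hk : k ∈ stabilizer L P ⊓ stabilizer L Q) (x : L) :
    k • x • Q = (k * x * k⁻¹) • Q := by
  rw [mul_smul, mul_smul, inv_smul_eq_iff.mpr (mem_stabilizer_iff.mp hk.2).symm]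

/-- An element fixing both points and centralising `P` is trivial. -/
theorem Base.eq_one (hB : Base P Q) {k : L} (hk : k ∈ stabilizer L P ⊓ stabilizer L Q)
    (hc : ∀ x ∈ P, k * x * k⁻¹ = x) : k = 1 :=
  hB.faithful k fun A => by
    by_cases hA : A = P
    · rw [hA]; exact hk.1
    · obtain ⟨x, hx, rfl⟩ := hB.reg A hA
      rw [hB.smul_smul_Q hk, hc x hx]

/-- The centraliser in `P` of an involution fixing both points has order three. -/
theorem Base.card_centralizer [Finite L] (hB : Base P Q) {v : L}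
    (hv : v ∈ stabilizer L P ⊓ stabilizer L Q) (hv2 : orderOf v = 2) :
    Nat.card ↥((P : Subgroup L) ⊓ Subgroup.centralizer ({v} : Set L)) = 3 := by
  classical
  have h4 := hB.invol v hv2
  set C := (P : Subgroup L) ⊓ Subgroup.centralizer ({v} : Set L)
  have hC : ∀ x : L, x ∈ C ↔ x ∈ P ∧ v * x * v⁻¹ = x := fun x => by
    rw [Subgroup.mem_inf, Subgroup.mem_centralizer_singleton_iff, mul_inv_eq_iff_eq_mul]
    exact and_congr_right fun _ => eq_comm
  let o : Option C → fixedBy (Sylow 3 L) v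
    | none => ⟨P, hv.1⟩
    | some x => ⟨(x : L) • Q, by
        show v • (x : L) • Q = (x : L) • Q
        rw [hB.smul_smul_Q hv, ((hC _).mp x.2).2]⟩
  have hbij : Function.Bijective o := by
    refine ⟨?_, ?_⟩
    · rintro (_ | x) (_ | y) e
      · rfl
      · exfalso
        have e' : P = (y : L) • Q := congrArg Subtype.val e
        exact hB.ne (smul_left_cancel _ (e'.symm.trans (hB.fix _ ((hC _).mp y.2).1).symm))
      · exfalso
        have e' : (x : L) • Q = P := congrArg Subtype.val e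
        exact hB.ne (smul_left_cancel _ (e'.trans (hB.fix _ ((hC _).mp x.2).1).symm))
      · have e' : (x : L) • Q = (y : L) • Q := congrArg Subtype.val e
        have := hB.free ((y : L)⁻¹ * x) (mul_mem (inv_mem ((hC _).mp y.2).1) ((hC _).mp x.2).1)
          (by rw [mul_smul, e', inv_smul_smul])
        exact congrArg some (Subtype.ext (inv_mul_eq_one.mp this).symm)
    · rintro ⟨A, hA⟩
      by_cases hAP : A = P
      · exact ⟨none, Subtype.ext hAP.symm⟩
      · obtain ⟨x, hx, rfl⟩ := hB.reg A hAP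
        have hA' : (v * x * v⁻¹) • Q = x • Q := (hB.smul_smul_Q hv x).symm.trans hA
        have := hB.free (x⁻¹ * (v * x * v⁻¹)) (mul_mem (inv_mem hx) (hB.conj_mem hv x hx))
          (by rw [mul_smul, hA', inv_smul_smul])
        exact ⟨some ⟨x, (hC x).mpr ⟨hx, (inv_mul_eq_one.mp this).symm⟩⟩, rfl⟩
  have := Nat.card_eq_of_bijective o hbij
  rw [Finite.card_option, h4] at this
  omega

/-- An involution of the stabiliser of two points whose centraliser in `P` is central there. -/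
theorem Base.exists_central [Finite L] (hB : Base P Q) :
    ∃ v ∈ stabilizer L P ⊓ stabilizer L Q, orderOf v = 2 ∧
      (∀ k ∈ stabilizer L P ⊓ stabilizer L Q, k * v = v * k) ∧
      ∀ c ∈ (P : Subgroup L) ⊓ Subgroup.centralizer ({v} : Set L), ∀ x ∈ P, c * x = x * c := by
  classical
  haveI : Fact (Nat.Prime 2) := ⟨Nat.prime_two⟩
  haveI : Fact (Nat.Prime 3) := ⟨Nat.prime_three⟩
  set K := stabilizer L P ⊓ stabilizer L Q with hKdef
  have hK2 : IsPGroup 2 K := IsPGroup.of_card (n := 3) (by rw [hKdef, hB.cardK]; norm_num)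
  have hinvol : ∀ H : Subgroup L, H ≤ K → H ≠ ⊥ →
      ∃ v ∈ H, orderOf v = 2 ∧ ∀ k ∈ H, k * v = v * k := by
    intro H hH hne
    haveI : Nontrivial H := H.nontrivial_iff_ne_bot.mpr hne
    have hp : IsPGroup 2 H := hK2.to_le hH
    haveI := hp.center_nontrivial
    obtain ⟨n, hn⟩ := (hp.to_subgroup (Subgroup.center H)).exists_card_eq
    have h1 : 1 < Nat.card (Subgroup.center H) := Finite.one_lt_card
    obtain ⟨u, hu⟩ := exists_prime_orderOf_dvd_card' (G := Subgroup.center H) 2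
      (by rw [hn] at h1 ⊢; exact dvd_pow_self 2 fun e => by rw [e] at h1; norm_num at h1)
    refine ⟨((u : H) : L), (u : H).2, by rw [Subgroup.orderOf_coe, Subgroup.orderOf_coe, hu], fun k hk => ?_⟩
    exact congrArg Subtype.val (Subgroup.mem_center_iff.mp u.2 ⟨k, hk⟩)
  by_cases hab : ∀ x ∈ P, ∀ y ∈ P, x * y = y * x
  · obtain ⟨v, hv, hv2, hvc⟩ := hinvol K le_rfl fun e => by
      have := hB.cardK
      rw [← hKdef, e, Subgroup.card_bot] at this
      norm_num at this
    exact ⟨v, hv, hv2, hvc, fun c hc x hx => hab c hc.1 x hx⟩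
  -- the centre of P
  have hPp : IsPGroup 3 (P : Subgroup L) := P.isPGroup'
  haveI : Nontrivial (P : Subgroup L) := Finite.one_lt_card_iff_nontrivial.mp (by rw [hB.cardP]; norm_num)
  haveI := hPp.center_nontrivial
  set Z := Subgroup.center (P : Subgroup L) with hZdef
  have hZ3 : Nat.card Z = 3 := by
    have h1 : 1 < Nat.card Z := Finite.one_lt_card
    have hmi := Z.card_mul_index
    rw [hB.cardP] at hmi
    obtain ⟨i, hi, hi'⟩ := (Nat.dvd_prime_pow Nat.prime_three).mp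
      (show Nat.card Z ∣ 3 ^ 3 from ⟨Z.index, by rw [hmi]; norm_num⟩)
    rw [hi'] at h1 hmi ⊢
    interval_cases i
    · norm_num at h1
    · norm_num
    · exfalso
      haveI : IsCyclic ((P : Subgroup L) ⧸ Z) :=
        isCyclic_of_prime_card (p := 3) (by rw [← Subgroup.index_eq_card]; omega)
      refine hab fun x hx y hy => ?_
      exact congrArg Subtype.val (commutative_of_cyclic_center_quotient (QuotientGroup.mk' Z)
        (by rw [QuotientGroup.ker_mk']) (⟨x, hx⟩ : (P : Subgroup L)) ⟨y, hy⟩)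
    · exfalso
      have htop : Z = ⊤ := Subgroup.eq_top_of_card_eq Z (by rw [hi', hB.cardP]; norm_num)
      refine hab fun x hx y hy => ?_
      have : (⟨y, hy⟩ : (P : Subgroup L)) ∈ Z := by rw [htop]; trivial
      exact congrArg Subtype.val (Subgroup.mem_center_iff.mp this ⟨x, hx⟩)
  obtain ⟨z₀, hz₀⟩ := exists_prime_orderOf_dvd_card' (G := Z) 3 (by rw [hZ3])
  set z : L := ((z₀ : (P : Subgroup L)) : L) with hzdef
  have hzo : orderOf z = 3 := by rw [hzdef, Subgroup.orderOf_coe, Subgroup.orderOf_coe, hz₀]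
  have hzP : z ∈ P := (z₀ : (P : Subgroup L)).2
  have hz3 : z ^ 3 = 1 := by rw [← hzo, pow_orderOf_eq_one]
  have hzi : z * z = z⁻¹ := eq_inv_of_mul_eq_one_left (by rw [← pow_two, ← pow_succ]; exact hz3)
  have hcen : ∀ y ∈ P, (∀ x ∈ P, y * x = x * y) → y = 1 ∨ y = z ∨ y = z⁻¹ := by
    intro y hy hc
    haveI := Fintype.ofFinite Z
    have hmem : (⟨y, hy⟩ : (P : Subgroup L)) ∈ Z :=
      Subgroup.mem_center_iff.mpr fun x => Subtype.ext (hc x x.2).symm
    have hzp : Subgroup.zpowers z₀ = ⊤ := Subgroup.eq_top_of_card_eq _ (by rw [Nat.card_zpowers, hz₀, hZ3])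
    have : (⟨_, hmem⟩ : Z) ∈ Subgroup.zpowers z₀ := by rw [hzp]; trivial
    rw [IsOfFinOrder.mem_zpowers_iff_mem_range_orderOf (isOfFinOrder_of_finite z₀),
      Finset.mem_image] at this
    obtain ⟨n, hn, he⟩ := this
    rw [Finset.mem_range, hz₀] at hn
    have he' : z ^ n = y := congrArg (fun w : Z => ((w : (P : Subgroup L)) : L)) he
    interval_cases n
    · left; rw [← he', pow_zero]
    · right; left; rw [← he', pow_one]
    · right; right; rw [← he', pow_two, hzi]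
  have hzc : ∀ x ∈ P, z * x = x * z := fun x hx =>
    (congrArg Subtype.val (Subgroup.mem_center_iff.mp z₀.2 ⟨x, hx⟩)).symm
  have hKz : ∀ k ∈ K, k * z * k⁻¹ = z ∨ k * z * k⁻¹ = z⁻¹ := by
    intro k hk
    have hc : ∀ x ∈ P, k * z * k⁻¹ * x = x * (k * z * k⁻¹) := fun x hx => by
      have hx' := hzc _ (hB.conj_mem (k := k⁻¹) (inv_mem hk) x hx)
      calc k * z * k⁻¹ * x = k * (z * (k⁻¹ * x * k⁻¹⁻¹)) * k⁻¹ := by group
        _ = k * ((k⁻¹ * x * k⁻¹⁻¹) * z) * k⁻¹ := by rw [hx']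
        _ = x * (k * z * k⁻¹) := by group
    refine (hcen _ (hB.conj_mem hk z hzP) hc).resolve_left fun e => ?_
    rw [conj_eq_one_iff] at e
    rw [e, orderOf_one] at hzo
    norm_num at hzo
  set K₀ := K ⊓ Subgroup.centralizer ({z} : Set L) with hK₀
  have hK₀mem : ∀ k, k ∈ K₀ ↔ k ∈ K ∧ k * z * k⁻¹ = z := fun k => by
    rw [hK₀, Subgroup.mem_inf, Subgroup.mem_centralizer_singleton_iff, mul_inv_eq_iff_eq_mul]
  have hnorm : ∀ k ∈ K, ∀ w ∈ K₀, k * w * k⁻¹ ∈ K₀ := by
    intro k hk w hw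
    obtain ⟨hwK, hwz⟩ := (hK₀mem w).mp hw
    refine (hK₀mem _).mpr ⟨mul_mem (mul_mem hk hwK) (inv_mem hk), ?_⟩
    have hwzi : w * z⁻¹ * w⁻¹ = z⁻¹ := by
      rw [show w * z⁻¹ * w⁻¹ = (w * z * w⁻¹)⁻¹ by group, hwz]
    rw [show k * w * k⁻¹ * z * (k * w * k⁻¹)⁻¹ = k * (w * (k⁻¹ * z * k⁻¹⁻¹) * w⁻¹) * k⁻¹ by group]
    rcases hKz k⁻¹ (inv_mem hk) with e | e <;> rw [e]
    · rw [hwz]; nth_rewrite 1 [← e]; group
    · rw [hwzi, show z⁻¹ = k⁻¹ * z * k⁻¹⁻¹ from e.symm]; group
  have hK₀ne : K₀ ≠ ⊥ := by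
    intro e
    haveI := Fintype.ofFinite K
    have h8 : Fintype.card K = 8 := by rw [← Nat.card_eq_fintype_card, hKdef, hB.cardK]
    have hbad : ∀ k : K, k ≠ 1 → (k : L) * z * (k : L)⁻¹ = z⁻¹ := fun k hk =>
      (hKz k k.2).resolve_left fun e1 => hk (Subtype.ext (by
        have : (k : L) ∈ K₀ := (hK₀mem _).mpr ⟨k.2, e1⟩
        rwa [e, Subgroup.mem_bot] at this))
    obtain ⟨a, ha⟩ : ∃ a : K, a ≠ 1 := Fintype.exists_ne_of_one_lt_card (by omega) _
    obtain ⟨b, hb, hba⟩ : ∃ b : K, b ≠ 1 ∧ b ≠ a := by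
      by_contra hno
      push Not at hno
      have : (Finset.univ : Finset K) ⊆ {1, a} := fun x _ => by
        by_cases hx : x = 1
        · simp [hx]
        · simp [hno x hx]
      have := (Finset.card_le_card this).trans Finset.card_le_two
      rw [Finset.card_univ, h8] at this
      omega
    refine hba ((inv_mul_eq_one.mp (?_ : a⁻¹ * b = 1)).symm)
    refine Subtype.ext ?_
    have hmem : (a : L)⁻¹ * b ∈ K₀ := (hK₀mem _).mpr ⟨mul_mem (inv_mem a.2) b.2, by
      rw [show (a : L)⁻¹ * b * z * ((a : L)⁻¹ * b)⁻¹ = (a : L)⁻¹ * ((b : L) * z * (b : L)⁻¹) * a by group,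
        hbad b hb, ← hbad a ha]
      group⟩
    rw [e, Subgroup.mem_bot] at hmem
    exact hmem
  obtain ⟨v, hv0, hv2, hvc⟩ := hinvol K₀ inf_le_left hK₀ne
  have hCz : ∀ w ∈ K₀, orderOf w = 2 → ∀ c ∈ (P : Subgroup L) ⊓ Subgroup.centralizer ({w} : Set L),
      c = 1 ∨ c = z ∨ c = z⁻¹ := by
    intro w hw hw2 c hc
    have hle : Subgroup.zpowers z ≤ (P : Subgroup L) ⊓ Subgroup.centralizer ({w} : Set L) := by
      rw [Subgroup.zpowers_le, Subgroup.mem_inf, Subgroup.mem_centralizer_singleton_iff]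
      exact ⟨hzP, ((mul_inv_eq_iff_eq_mul.mp ((hK₀mem w).mp hw).2)).symm⟩
    have heq := Subgroup.eq_of_le_of_card_ge hle
      (by rw [hB.card_centralizer ((hK₀mem w).mp hw).1 hw2, Nat.card_zpowers, hzo])
    refine hcen c hc.1 fun x hx => ?_
    rw [← heq, Subgroup.mem_zpowers_iff] at hc
    obtain ⟨i, rfl⟩ := hc
    exact ((show Commute z x from hzc x hx).zpow_left i).eq
  have hcentral : ∀ w ∈ K₀, orderOf w = 2 →
      ∀ c ∈ (P : Subgroup L) ⊓ Subgroup.centralizer ({w} : Set L), ∀ x ∈ P, c * x = x * c := by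
    intro w hw hw2 c hc x hx
    rcases hCz w hw hw2 c hc with rfl | rfl | rfl
    · simp
    · exact hzc x hx
    · exact ((show Commute z x from hzc x hx).inv_left).eq
  -- an involution of K₀ inverts P modulo the centre
  have hinvert : ∀ w ∈ K₀, orderOf w = 2 → ∀ x ∈ P,
      ∃ y ∈ P, (∀ t ∈ P, y * t = t * y) ∧ w * y * w⁻¹ = y ∧ w * x * w⁻¹ = x⁻¹ * y := by
    intro w hw hw2 x hx
    have hwK := ((hK₀mem w).mp hw).1
    have hww : w * w = 1 := by rw [← pow_two, ← hw2, pow_orderOf_eq_one]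
    have hwi : w⁻¹ = w := inv_eq_of_mul_eq_one_right hww
    set y := x * (w * x * w⁻¹) with hy
    have hyP : y ∈ P := mul_mem hx (hB.conj_mem hwK x hx)
    have hwy : w * y * w⁻¹ = x⁻¹ * y * x := by
      calc w * y * w⁻¹ = (w * x * w⁻¹) * ((w * w) * x * (w * w)⁻¹) := by rw [hy]; group
        _ = (w * x * w⁻¹) * x := by rw [hww]; simp
        _ = x⁻¹ * y * x := by rw [hy]; group
    set z' := y⁻¹ * (x⁻¹ * y * x) with hz'
    have hz'P : z' ∈ P := mul_mem (inv_mem hyP) (mul_mem (mul_mem (inv_mem hx) hyP) hx)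
    have hz'c : ∀ t ∈ P, z' * t = t * z' := fun t ht => by
      have := comm_central_27 (P : Subgroup L) hB.cardP (inv_mem hyP) (inv_mem hx) ht
      rwa [show y⁻¹ * x⁻¹ * y⁻¹⁻¹ * x⁻¹⁻¹ = z' by rw [hz']; group] at this
    have hwz' : w * z' * w⁻¹ = z' := by
      have hwz := ((hK₀mem w).mp hw).2
      rcases hcen z' hz'P hz'c with e | e | e <;> rw [e]
      · simp
      · exact hwz
      · rw [show w * z⁻¹ * w⁻¹ = (w * z * w⁻¹)⁻¹ by group, hwz]
    have hy1 : w * y * w⁻¹ = y * z' := by rw [hwy, hz', mul_inv_cancel_left]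
    have h2 : y = y * (z' * z') := by
      calc y = (w * w) * y * (w * w)⁻¹ := by rw [hww]; simp
        _ = w * (w * y * w⁻¹) * w⁻¹ := by group
        _ = w * (y * z') * w⁻¹ := by rw [hy1]
        _ = (w * y * w⁻¹) * (w * z' * w⁻¹) := by group
        _ = y * (z' * z') := by rw [hy1, hwz', mul_assoc]
    have hz'1 : z' = 1 := by
      have h3 : z' * z' = 1 := mul_left_cancel (a := y) (by rw [mul_one]; exact h2.symm)
      have h4 := hB.exp3 z' hz'P
      rwa [pow_succ, pow_two, h3, one_mul] at h4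
    rw [hz'1, mul_one] at hy1
    have hyC : y ∈ (P : Subgroup L) ⊓ Subgroup.centralizer ({w} : Set L) :=
      Subgroup.mem_inf.mpr ⟨hyP, Subgroup.mem_centralizer_singleton_iff.mpr
        (mul_inv_eq_iff_eq_mul.mp hy1).symm⟩
    exact ⟨y, hyP, hcentral w hw hw2 y hyC, hy1, by rw [hy, inv_mul_cancel_left]⟩
  have huniq : ∀ w ∈ K₀, orderOf w = 2 → w = v := by
    intro w hw hw2
    by_contra hne
    have hwv := hvc w hw
    have hprod : orderOf (v * w) = 2 := orderOf_eq_prime (by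
      rw [(show Commute v w from hwv.symm).mul_pow, ← hv2, pow_orderOf_eq_one, hv2, ← hw2, pow_orderOf_eq_one,
        one_mul]) fun e => hne (by
      have hvv : v * v = 1 := by rw [← pow_two, ← hv2, pow_orderOf_eq_one]
      exact mul_left_cancel (a := v) (e.trans hvv.symm))
    refine hab fun x hx t ht => ?_
    obtain ⟨y₁, hy₁, hy₁c, -, e₁⟩ := hinvert v hv0 hv2 x hx
    obtain ⟨y₂, hy₂, hy₂c, hy₂v, e₂⟩ := hinvert w hw hw2 x hx
    obtain ⟨y₃, hy₃, hy₃c, -, e₃⟩ := hinvert (v * w) (mul_mem hv0 hw) hprod x hx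
    have hvK := ((hK₀mem v).mp hv0).1
    have hvy₂ : v * y₂ * v⁻¹ = y₂ := by
      rcases hcen y₂ hy₂ hy₂c with e | e | e <;> rw [e]
      · simp
      · exact ((hK₀mem v).mp hv0).2
      · rw [show v * z⁻¹ * v⁻¹ = (v * z * v⁻¹)⁻¹ by group, ((hK₀mem v).mp hv0).2]
    have h5 : v * w * x * (v * w)⁻¹ = y₁⁻¹ * x * y₂ := by
      calc v * w * x * (v * w)⁻¹ = v * (w * x * w⁻¹) * v⁻¹ := by group
        _ = (v * x * v⁻¹)⁻¹ * (v * y₂ * v⁻¹) := by rw [e₂]; group
        _ = _ := by rw [e₁, hvy₂]; group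
    rw [h5] at e₃
    have hcc : ∀ t ∈ P, Commute (x * x) t := fun t ht => by
      have hxx : x * x = y₁ * y₂⁻¹ * y₃ := by
        have a1 : Commute y₁ x := hy₁c x hx
        have a2 : Commute y₂ x := hy₂c x hx
        have a3 : y₂ * (y₁ * y₂⁻¹) = y₁ := by
          rw [← mul_assoc, show y₂ * y₁ = y₁ * y₂ from hy₂c y₁ hy₁, mul_inv_cancel_right]
        have a4 : x * x * y₂ = y₁ * y₃ := by
          calc x * x * y₂ = x * y₁ * (y₁⁻¹ * x * y₂) := by group
            _ = x * y₁ * (x⁻¹ * y₃) := by rw [e₃]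
            _ = y₁ * y₃ := by rw [← a1.eq]; group
        calc x * x = x * x * y₂ * y₂⁻¹ := by group
          _ = y₁ * y₃ * y₂⁻¹ := by rw [a4]
          _ = y₁ * y₂⁻¹ * y₃ := by
            rw [mul_assoc, mul_assoc, (show Commute y₃ y₂⁻¹ from (show Commute y₃ y₂ from hy₃c y₂ hy₂).inv_right).eq]
      rw [hxx]
      exact (((show Commute y₁ t from hy₁c t ht).mul_left (show Commute y₂ t from hy₂c t ht).inv_left)).mul_left
        (hy₃c t ht)
    have hx2 : x = (x * x) * (x * x) := by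
      have := hB.exp3 x hx
      rw [show (x * x) * (x * x) = x ^ 3 * x by simp [pow_succ, mul_assoc], this, one_mul]
    rw [hx2]
    exact ((hcc t ht).mul_left (hcc t ht)).eq
  refine ⟨v, inf_le_left (b := Subgroup.centralizer ({z} : Set L)) hv0, hv2, fun k hk => ?_,
    hcentral v hv0 hv2⟩
  have hord : orderOf (k * v * k⁻¹) = 2 := by
    rw [show k * v * k⁻¹ = MulAut.conj k v from rfl, MulEquiv.orderOf_eq, hv2]
  exact mul_inv_eq_iff_eq_mul.mp (huniq _ (hnorm k hk v hv0) hord)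

end Cfsg.Agent.Char.GTwoSpectrum
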