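import Mathlib

/-!
# A search for the involution completing a 2-transitive action on 28 points

Points `0, ..., 26` are the elements of a group of order 27 in coordinates and `27` is the point
fixed by it. Permutations of the points are coded by natural numbers with five bits for a point.
-/

set_option autoImplicit false

namespace Cfsg.Agent.Char.GTwoSpectrum.Search

/-- The image of `i` under a coded permutation. -/
def get (n i : ℕ) : ℕ := (n >>> (5 * i)) % 32

/-- The code of the first `m` values of a function. -/
def codeN (f : ℕ → ℕ) : ℕ → ℕ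
  | 0 => 0
  | m + 1 => codeN f m ||| (f m <<< (5 * m))

/-- The code of a function on the 28 points. -/
def code (f : ℕ → ℕ) : ℕ := codeN f 28

/-- The point with given coordinates. -/
def idx (i j k : ℕ) : ℕ := i % 3 + 3 * (j % 3) + 9 * (k % 3)

/-- Left multiplication by `x` on the points, for the cocycle `b`. -/
def mulP (b x y : ℕ) : ℕ :=
  if y < 27 then idx (x % 3 + y % 3) (x / 3 % 3 + y / 3 % 3)
    (x / 9 + y / 9 + b * (2 * (x % 3) * (y / 3 % 3) + (x / 3 % 3) * (y % 3)))
  else y

/-- The inverse of a point. -/
def negP (x : ℕ) : ℕ := idx (2 * (x % 3)) (2 * (x / 3 % 3)) (2 * (x / 9))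

/-- A matrix and a factor acting on the points. -/
def actP (g : (ℕ × ℕ × ℕ × ℕ) × ℕ) (x : ℕ) : ℕ :=
  if x < 27 then idx (g.1.1 * (x % 3) + g.1.2.1 * (x / 3 % 3))
    (g.1.2.2.1 * (x % 3) + g.1.2.2.2 * (x / 3 % 3)) (g.2 * (x / 9))
  else x

/-- A configuration: the cocycle and generators of the stabiliser of two points. -/
structure Cfg where
  /-- the cocycle -/
  b : ℕ
  /-- the generators -/
  gens : List ((ℕ × ℕ × ℕ × ℕ) × ℕ)
  /-- the words -/
  words : List (List ℕ)

/-- Evaluate a number before it is passed on. -/
def force {α : Type} (a : ℕ) (k : ℕ → α) : α :=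
  match a with
  | 0 => k 0
  | m + 1 => k (m + 1)

theorem force_eq {α : Type} (a : ℕ) (k : ℕ → α) : force a k = k a := by
  cases a <;> rfl

/-- Evaluate a list before it is passed on. -/
def forceList {α : Type} : List ℕ → (List ℕ → α) → α
  | [], k => k []
  | a :: l, k => force a fun a' => forceList l fun l' => k (a' :: l')

theorem forceList_eq {α : Type} : ∀ (l : List ℕ) (k : List ℕ → α), forceList l k = k l
  | [], _ => rfl
  | a :: l, k => by rw [forceList, force_eq, forceList_eq]

/-- The value of a word. -/
def ev (ims : List ℕ) : List ℕ → ℕ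
  | [] => code fun x => x
  | i :: wd => force (ev ims wd) fun p => force (ims.getD i 0) fun a => code fun x => get a (get p x)

/-- The coded generators. -/
def Cfg.P (c : Cfg) : List ℕ := c.gens.map fun g => code (actP g)

/-- The coded elements of the stabiliser. -/
def Cfg.K (c : Cfg) : List ℕ := c.words.map (ev c.P)

/-- The tuples of a given length. -/
def tuples (l : List ℕ) : ℕ → List (List ℕ)
  | 0 => [[]]
  | m + 1 => l.flatMap fun a => (tuples l m).map (a :: ·)

/-- The test whether the images may come from conjugation by an involution. -/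
def goodAut (K A : List ℕ) : Bool :=
  A.all (fun a => K.contains a) &&
    (K.zip A).all fun p => (K.zip A).all fun q => if p.2 == q.1 then q.2 == p.1 else true

/-- Record one value. -/
def ins (n x y : ℕ) : Option ℕ :=
  if get n x = 0 then force (n ||| ((y + 1) <<< (5 * x))) some
  else if get n x = y + 1 then some n else none

/-- Record several values. -/
def insAll : List (ℕ × ℕ) → ℕ → Option ℕ
  | [], n => some n
  | p :: l, n => match ins n p.1 p.2 with
    | none => none
    | some n' => insAll l n'

/-- The values forced by mapping `i` to `j`. -/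
def orb (KA : List (ℕ × ℕ)) (i j : ℕ) : List (ℕ × ℕ) :=
  KA.flatMap fun p => [(get p.1 i, get p.2 j), (get p.2 j, get p.1 i)]

/-- The search. -/
def dfs (KA : List (ℕ × ℕ)) (leaf : ℕ → Bool) : ℕ → ℕ → Bool
  | 0, _ => false
  | m + 1, n => match (List.range 28).find? fun i => get n i == 0 with
    | none => leaf n
    | some i => (List.range 28).all fun j =>
        match insAll (orb KA i j) n with
        | none => true
        | some n' => dfs KA leaf m n'

/-- The coded solution. -/
def w0 : ℕ :=
  32268122886160140658943973416999036586043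

/-- The test on a complete candidate. -/
def leaf (b : ℕ) (K : List ℕ) (target : Bool) (n : ℕ) : Bool :=
  !((List.range 26).all fun e' =>
      force (e' + 1) fun e => force (negP (get n e - 1)) fun p =>
      force (get n (mulP b p (get n (mulP b e (get n 0 - 1)) - 1)) - 1) fun q =>
      K.any fun k => (List.range 28).all fun x =>
        get n (mulP b p (get n (mulP b e (get n x - 1)) - 1)) - 1 == mulP b q (get k x)) ||
    (target && K.any fun k => (List.range 28).all fun x => get n x - 1 == get w0 (get k x))

/-- The whole test of a configuration. -/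
def run (c : Cfg) (target : Bool) : Bool :=
  forceList c.K fun K => (tuples K c.gens.length).all fun ims =>
    forceList (c.words.map (ev ims)) fun A =>
    if goodAut K A then
      force ((28 <<< 0) ||| (1 <<< (5 * 27))) fun n => dfs (K.zip A) (leaf c.b K target) 29 n
    else true

/-- An eighth of the test of a configuration. -/
def runPart (c : Cfg) (target : Bool) (i : ℕ) : Bool :=
  forceList c.K fun K =>
    (((tuples K c.gens.length).drop (i * 8 ^ (c.gens.length - 1))).take (8 ^ (c.gens.length - 1))).all
      fun ims => forceList (c.words.map (ev ims)) fun A =>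
    if goodAut K A then
      force ((28 <<< 0) ||| (1 <<< (5 * 27))) fun n => dfs (K.zip A) (leaf c.b K target) 29 n
    else true

/-- The parts make the whole test. -/
theorem run_of_parts (c : Cfg) (target : Bool)
    (hlen : (tuples c.K c.gens.length).length ≤ 8 * 8 ^ (c.gens.length - 1))
    (h : ∀ i, i < 8 → runPart c target i = true) : run c target = true := by
  rw [run, forceList_eq, List.all_eq_true]
  intro ims hims
  obtain ⟨j, hj, rfl⟩ := List.getElem_of_mem hims
  have hm : 0 < 8 ^ (c.gens.length - 1) := pow_pos (by norm_num) _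
  have hi : j / 8 ^ (c.gens.length - 1) < 8 := (Nat.div_lt_iff_lt_mul hm).mpr (hj.trans_le hlen)
  have hp := h _ hi
  rw [runPart, forceList_eq, List.all_eq_true] at hp
  refine hp _ ?_
  have hmod := Nat.mod_lt j hm
  have hdm := Nat.div_add_mod j (8 ^ (c.gens.length - 1))
  rw [mul_comm] at hdm
  rw [List.mem_iff_getElem]
  refine ⟨j % 8 ^ (c.gens.length - 1), by rw [List.length_take, List.length_drop]; omega, ?_⟩
  rw [List.getElem_take, List.getElem_drop]
  simp only [hdm]

/-- The words for a cyclic group of order eight. -/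
def wordsC : List (List ℕ) := (List.range 8).map fun i => List.replicate i 0

/-- The words for the groups of order eight with two generators. -/
def wordsT : List (List ℕ) :=
  (List.range 4).flatMap fun i => (List.range 2).map fun j =>
    List.replicate i 0 ++ List.replicate j 1

/-- The matrix of order eight. -/
def mC : ℕ × ℕ × ℕ × ℕ := (1, 1, 1, 0)
/-- Its square. -/
def mS : ℕ × ℕ × ℕ × ℕ := (2, 1, 1, 1)
/-- A reflection. -/
def mR : ℕ × ℕ × ℕ × ℕ := (1, 0, 2, 2)
/-- An element of order four outside the cyclic group. -/
def mQ : ℕ × ℕ × ℕ × ℕ := (0, 2, 1, 0)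

/-- The configuration which occurs. -/
def cfg0 : Cfg := ⟨1, [(mC, 2)], wordsC⟩

/-- The configurations which do not occur. -/
def others : List Cfg :=
  [⟨0, [(mC, 1)], wordsC⟩, ⟨0, [(mC, 2)], wordsC⟩,
   ⟨1, [(mS, 1), (mQ, 1)], wordsT⟩, ⟨0, [(mS, 1), (mQ, 1)], wordsT⟩,
   ⟨0, [(mS, 1), (mQ, 2)], wordsT⟩, ⟨0, [(mS, 2), (mQ, 1)], wordsT⟩,
   ⟨0, [(mS, 2), (mQ, 2)], wordsT⟩,
   ⟨1, [(mS, 1), (mR, 2)], wordsT⟩, ⟨0, [(mS, 1), (mR, 1)], wordsT⟩,
   ⟨0, [(mS, 1), (mR, 2)], wordsT⟩, ⟨0, [(mS, 2), (mR, 1)], wordsT⟩,
   ⟨0, [(mS, 2), (mR, 2)], wordsT⟩]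

end Cfsg.Agent.Char.GTwoSpectrum.Search
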