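import Cfsg.Agent.Lib.Char.GTwoSpectrum.SearchDefs

/-!
# The search certificates, part 1
-/

set_option autoImplicit false
set_option Elab.async false

namespace Cfsg.Agent.Char.GTwoSpectrum.Search

theorem run_other_0_0 : runPart (others.getD 0 cfg0) false 0 = true := by decide +kernel

theorem run_other_0_1 : runPart (others.getD 0 cfg0) false 1 = true := by decide +kernel

theorem run_other_0_2 : runPart (others.getD 0 cfg0) false 2 = true := by decide +kernel

theorem run_other_0_3 : runPart (others.getD 0 cfg0) false 3 = true := by decide +kernel

theorem run_other_0_4 : runPart (others.getD 0 cfg0) false 4 = true := by decide +kernel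

theorem run_other_0_5 : runPart (others.getD 0 cfg0) false 5 = true := by decide +kernel

theorem run_other_0_6 : runPart (others.getD 0 cfg0) false 6 = true := by decide +kernel

theorem run_other_0_7 : runPart (others.getD 0 cfg0) false 7 = true := by decide +kernel

theorem run_other_0 : run (others.getD 0 cfg0) false = true :=
  run_of_parts _ _ (by decide +kernel) fun i hi => by
    rcases (by omega : i = 0 ∨ i = 1 ∨ i = 2 ∨ i = 3 ∨ i = 4 ∨ i = 5 ∨ i = 6 ∨ i = 7) with
      rfl | rfl | rfl | rfl | rfl | rfl | rfl | rfl
    exacts [run_other_0_0, run_other_0_1, run_other_0_2, run_other_0_3, run_other_0_4, run_other_0_5, run_other_0_6, run_other_0_7]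

theorem run_other_1_0 : runPart (others.getD 1 cfg0) false 0 = true := by decide +kernel

theorem run_other_1_1 : runPart (others.getD 1 cfg0) false 1 = true := by decide +kernel

theorem run_other_1_2 : runPart (others.getD 1 cfg0) false 2 = true := by decide +kernel

theorem run_other_1_3 : runPart (others.getD 1 cfg0) false 3 = true := by decide +kernel

theorem run_other_1_4 : runPart (others.getD 1 cfg0) false 4 = true := by decide +kernel

theorem run_other_1_5 : runPart (others.getD 1 cfg0) false 5 = true := by decide +kernel

theorem run_other_1_6 : runPart (others.getD 1 cfg0) false 6 = true := by decide +kernel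

theorem run_other_1_7 : runPart (others.getD 1 cfg0) false 7 = true := by decide +kernel

theorem run_other_1 : run (others.getD 1 cfg0) false = true :=
  run_of_parts _ _ (by decide +kernel) fun i hi => by
    rcases (by omega : i = 0 ∨ i = 1 ∨ i = 2 ∨ i = 3 ∨ i = 4 ∨ i = 5 ∨ i = 6 ∨ i = 7) with
      rfl | rfl | rfl | rfl | rfl | rfl | rfl | rfl
    exacts [run_other_1_0, run_other_1_1, run_other_1_2, run_other_1_3, run_other_1_4, run_other_1_5, run_other_1_6, run_other_1_7]

theorem run_other_2_0 : runPart (others.getD 2 cfg0) false 0 = true := by decide +kernel

theorem run_other_2_1 : runPart (others.getD 2 cfg0) false 1 = true := by decide +kernel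

theorem run_other_2_2 : runPart (others.getD 2 cfg0) false 2 = true := by decide +kernel

theorem run_other_2_3 : runPart (others.getD 2 cfg0) false 3 = true := by decide +kernel

theorem run_other_2_4 : runPart (others.getD 2 cfg0) false 4 = true := by decide +kernel

theorem run_other_2_5 : runPart (others.getD 2 cfg0) false 5 = true := by decide +kernel

theorem run_other_2_6 : runPart (others.getD 2 cfg0) false 6 = true := by decide +kernel

theorem run_other_2_7 : runPart (others.getD 2 cfg0) false 7 = true := by decide +kernel

theorem run_other_2 : run (others.getD 2 cfg0) false = true :=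
  run_of_parts _ _ (by decide +kernel) fun i hi => by
    rcases (by omega : i = 0 ∨ i = 1 ∨ i = 2 ∨ i = 3 ∨ i = 4 ∨ i = 5 ∨ i = 6 ∨ i = 7) with
      rfl | rfl | rfl | rfl | rfl | rfl | rfl | rfl
    exacts [run_other_2_0, run_other_2_1, run_other_2_2, run_other_2_3, run_other_2_4, run_other_2_5, run_other_2_6, run_other_2_7]

theorem run_other_3_0 : runPart (others.getD 3 cfg0) false 0 = true := by decide +kernel

theorem run_other_3_1 : runPart (others.getD 3 cfg0) false 1 = true := by decide +kernel

theorem run_other_3_2 : runPart (others.getD 3 cfg0) false 2 = true := by decide +kernel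

theorem run_other_3_3 : runPart (others.getD 3 cfg0) false 3 = true := by decide +kernel

theorem run_other_3_4 : runPart (others.getD 3 cfg0) false 4 = true := by decide +kernel

theorem run_other_3_5 : runPart (others.getD 3 cfg0) false 5 = true := by decide +kernel

theorem run_other_3_6 : runPart (others.getD 3 cfg0) false 6 = true := by decide +kernel

theorem run_other_3_7 : runPart (others.getD 3 cfg0) false 7 = true := by decide +kernel

theorem run_other_3 : run (others.getD 3 cfg0) false = true :=
  run_of_parts _ _ (by decide +kernel) fun i hi => by
    rcases (by omega : i = 0 ∨ i = 1 ∨ i = 2 ∨ i = 3 ∨ i = 4 ∨ i = 5 ∨ i = 6 ∨ i = 7) with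
      rfl | rfl | rfl | rfl | rfl | rfl | rfl | rfl
    exacts [run_other_3_0, run_other_3_1, run_other_3_2, run_other_3_3, run_other_3_4, run_other_3_5, run_other_3_6, run_other_3_7]

theorem run_others_one : ((others.take 4).all fun c => run c false) = true := by
  show ([others.getD 0 cfg0, others.getD 1 cfg0, others.getD 2 cfg0, others.getD 3 cfg0].all fun c => run c false) = true
  simp only [List.all_cons, List.all_nil, run_other_0, run_other_1, run_other_2, run_other_3, Bool.and_self]

end Cfsg.Agent.Char.GTwoSpectrum.Search
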