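import Cfsg.Agent.Lib.Char.GTwoSpectrum.SearchDefs

/-!
# The search certificates, part 3
-/

set_option autoImplicit false
set_option Elab.async false

namespace Cfsg.Agent.Char.GTwoSpectrum.Search

theorem run_other_8_0 : runPart (others.getD 8 cfg0) false 0 = true := by decide +kernel

theorem run_other_8_1 : runPart (others.getD 8 cfg0) false 1 = true := by decide +kernel

theorem run_other_8_2 : runPart (others.getD 8 cfg0) false 2 = true := by decide +kernel

theorem run_other_8_3 : runPart (others.getD 8 cfg0) false 3 = true := by decide +kernel

theorem run_other_8_4 : runPart (others.getD 8 cfg0) false 4 = true := by decide +kernel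

theorem run_other_8_5 : runPart (others.getD 8 cfg0) false 5 = true := by decide +kernel

theorem run_other_8_6 : runPart (others.getD 8 cfg0) false 6 = true := by decide +kernel

theorem run_other_8_7 : runPart (others.getD 8 cfg0) false 7 = true := by decide +kernel

theorem run_other_8 : run (others.getD 8 cfg0) false = true :=
  run_of_parts _ _ (by decide +kernel) fun i hi => by
    rcases (by omega : i = 0 ∨ i = 1 ∨ i = 2 ∨ i = 3 ∨ i = 4 ∨ i = 5 ∨ i = 6 ∨ i = 7) with
      rfl | rfl | rfl | rfl | rfl | rfl | rfl | rfl
    exacts [run_other_8_0, run_other_8_1, run_other_8_2, run_other_8_3, run_other_8_4, run_other_8_5, run_other_8_6, run_other_8_7]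

theorem run_other_9_0 : runPart (others.getD 9 cfg0) false 0 = true := by decide +kernel

theorem run_other_9_1 : runPart (others.getD 9 cfg0) false 1 = true := by decide +kernel

theorem run_other_9_2 : runPart (others.getD 9 cfg0) false 2 = true := by decide +kernel

theorem run_other_9_3 : runPart (others.getD 9 cfg0) false 3 = true := by decide +kernel

theorem run_other_9_4 : runPart (others.getD 9 cfg0) false 4 = true := by decide +kernel

theorem run_other_9_5 : runPart (others.getD 9 cfg0) false 5 = true := by decide +kernel

theorem run_other_9_6 : runPart (others.getD 9 cfg0) false 6 = true := by decide +kernel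

theorem run_other_9_7 : runPart (others.getD 9 cfg0) false 7 = true := by decide +kernel

theorem run_other_9 : run (others.getD 9 cfg0) false = true :=
  run_of_parts _ _ (by decide +kernel) fun i hi => by
    rcases (by omega : i = 0 ∨ i = 1 ∨ i = 2 ∨ i = 3 ∨ i = 4 ∨ i = 5 ∨ i = 6 ∨ i = 7) with
      rfl | rfl | rfl | rfl | rfl | rfl | rfl | rfl
    exacts [run_other_9_0, run_other_9_1, run_other_9_2, run_other_9_3, run_other_9_4, run_other_9_5, run_other_9_6, run_other_9_7]

theorem run_other_10_0 : runPart (others.getD 10 cfg0) false 0 = true := by decide +kernel

theorem run_other_10_1 : runPart (others.getD 10 cfg0) false 1 = true := by decide +kernel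

theorem run_other_10_2 : runPart (others.getD 10 cfg0) false 2 = true := by decide +kernel

theorem run_other_10_3 : runPart (others.getD 10 cfg0) false 3 = true := by decide +kernel

theorem run_other_10_4 : runPart (others.getD 10 cfg0) false 4 = true := by decide +kernel

theorem run_other_10_5 : runPart (others.getD 10 cfg0) false 5 = true := by decide +kernel

theorem run_other_10_6 : runPart (others.getD 10 cfg0) false 6 = true := by decide +kernel

theorem run_other_10_7 : runPart (others.getD 10 cfg0) false 7 = true := by decide +kernel

theorem run_other_10 : run (others.getD 10 cfg0) false = true :=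
  run_of_parts _ _ (by decide +kernel) fun i hi => by
    rcases (by omega : i = 0 ∨ i = 1 ∨ i = 2 ∨ i = 3 ∨ i = 4 ∨ i = 5 ∨ i = 6 ∨ i = 7) with
      rfl | rfl | rfl | rfl | rfl | rfl | rfl | rfl
    exacts [run_other_10_0, run_other_10_1, run_other_10_2, run_other_10_3, run_other_10_4, run_other_10_5, run_other_10_6, run_other_10_7]

theorem run_other_11_0 : runPart (others.getD 11 cfg0) false 0 = true := by decide +kernel

theorem run_other_11_1 : runPart (others.getD 11 cfg0) false 1 = true := by decide +kernel

theorem run_other_11_2 : runPart (others.getD 11 cfg0) false 2 = true := by decide +kernel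

theorem run_other_11_3 : runPart (others.getD 11 cfg0) false 3 = true := by decide +kernel

theorem run_other_11_4 : runPart (others.getD 11 cfg0) false 4 = true := by decide +kernel

theorem run_other_11_5 : runPart (others.getD 11 cfg0) false 5 = true := by decide +kernel

theorem run_other_11_6 : runPart (others.getD 11 cfg0) false 6 = true := by decide +kernel

theorem run_other_11_7 : runPart (others.getD 11 cfg0) false 7 = true := by decide +kernel

theorem run_other_11 : run (others.getD 11 cfg0) false = true :=
  run_of_parts _ _ (by decide +kernel) fun i hi => by
    rcases (by omega : i = 0 ∨ i = 1 ∨ i = 2 ∨ i = 3 ∨ i = 4 ∨ i = 5 ∨ i = 6 ∨ i = 7) with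
      rfl | rfl | rfl | rfl | rfl | rfl | rfl | rfl
    exacts [run_other_11_0, run_other_11_1, run_other_11_2, run_other_11_3, run_other_11_4, run_other_11_5, run_other_11_6, run_other_11_7]

theorem run_others_three : ((others.drop 8).all fun c => run c false) = true := by
  show ([others.getD 8 cfg0, others.getD 9 cfg0, others.getD 10 cfg0, others.getD 11 cfg0].all fun c => run c false) = true
  simp only [List.all_cons, List.all_nil, run_other_8, run_other_9, run_other_10, run_other_11, Bool.and_self]

end Cfsg.Agent.Char.GTwoSpectrum.Search
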