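import Cfsg.Agent.Lib.Char.GTwoSpectrum.SearchDefs

/-!
# The search certificates, part 2
-/

set_option autoImplicit false
set_option Elab.async false

namespace Cfsg.Agent.Char.GTwoSpectrum.Search

theorem run_other_4_0 : runPart (others.getD 4 cfg0) false 0 = true := by decide +kernel

theorem run_other_4_1 : runPart (others.getD 4 cfg0) false 1 = true := by decide +kernel

theorem run_other_4_2 : runPart (others.getD 4 cfg0) false 2 = true := by decide +kernel

theorem run_other_4_3 : runPart (others.getD 4 cfg0) false 3 = true := by decide +kernel

theorem run_other_4_4 : runPart (others.getD 4 cfg0) false 4 = true := by decide +kernel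

theorem run_other_4_5 : runPart (others.getD 4 cfg0) false 5 = true := by decide +kernel

theorem run_other_4_6 : runPart (others.getD 4 cfg0) false 6 = true := by decide +kernel

theorem run_other_4_7 : runPart (others.getD 4 cfg0) false 7 = true := by decide +kernel

theorem run_other_4 : run (others.getD 4 cfg0) false = true :=
  run_of_parts _ _ (by decide +kernel) fun i hi => by
    rcases (by omega : i = 0 ∨ i = 1 ∨ i = 2 ∨ i = 3 ∨ i = 4 ∨ i = 5 ∨ i = 6 ∨ i = 7) with
      rfl | rfl | rfl | rfl | rfl | rfl | rfl | rfl
    exacts [run_other_4_0, run_other_4_1, run_other_4_2, run_other_4_3, run_other_4_4, run_other_4_5, run_other_4_6, run_other_4_7]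

theorem run_other_5_0 : runPart (others.getD 5 cfg0) false 0 = true := by decide +kernel

theorem run_other_5_1 : runPart (others.getD 5 cfg0) false 1 = true := by decide +kernel

theorem run_other_5_2 : runPart (others.getD 5 cfg0) false 2 = true := by decide +kernel

theorem run_other_5_3 : runPart (others.getD 5 cfg0) false 3 = true := by decide +kernel

theorem run_other_5_4 : runPart (others.getD 5 cfg0) false 4 = true := by decide +kernel

theorem run_other_5_5 : runPart (others.getD 5 cfg0) false 5 = true := by decide +kernel

theorem run_other_5_6 : runPart (others.getD 5 cfg0) false 6 = true := by decide +kernel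

theorem run_other_5_7 : runPart (others.getD 5 cfg0) false 7 = true := by decide +kernel

theorem run_other_5 : run (others.getD 5 cfg0) false = true :=
  run_of_parts _ _ (by decide +kernel) fun i hi => by
    rcases (by omega : i = 0 ∨ i = 1 ∨ i = 2 ∨ i = 3 ∨ i = 4 ∨ i = 5 ∨ i = 6 ∨ i = 7) with
      rfl | rfl | rfl | rfl | rfl | rfl | rfl | rfl
    exacts [run_other_5_0, run_other_5_1, run_other_5_2, run_other_5_3, run_other_5_4, run_other_5_5, run_other_5_6, run_other_5_7]

theorem run_other_6_0 : runPart (others.getD 6 cfg0) false 0 = true := by decide +kernel

theorem run_other_6_1 : runPart (others.getD 6 cfg0) false 1 = true := by decide +kernel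

theorem run_other_6_2 : runPart (others.getD 6 cfg0) false 2 = true := by decide +kernel

theorem run_other_6_3 : runPart (others.getD 6 cfg0) false 3 = true := by decide +kernel

theorem run_other_6_4 : runPart (others.getD 6 cfg0) false 4 = true := by decide +kernel

theorem run_other_6_5 : runPart (others.getD 6 cfg0) false 5 = true := by decide +kernel

theorem run_other_6_6 : runPart (others.getD 6 cfg0) false 6 = true := by decide +kernel

theorem run_other_6_7 : runPart (others.getD 6 cfg0) false 7 = true := by decide +kernel

theorem run_other_6 : run (others.getD 6 cfg0) false = true :=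
  run_of_parts _ _ (by decide +kernel) fun i hi => by
    rcases (by omega : i = 0 ∨ i = 1 ∨ i = 2 ∨ i = 3 ∨ i = 4 ∨ i = 5 ∨ i = 6 ∨ i = 7) with
      rfl | rfl | rfl | rfl | rfl | rfl | rfl | rfl
    exacts [run_other_6_0, run_other_6_1, run_other_6_2, run_other_6_3, run_other_6_4, run_other_6_5, run_other_6_6, run_other_6_7]

theorem run_other_7_0 : runPart (others.getD 7 cfg0) false 0 = true := by decide +kernel

theorem run_other_7_1 : runPart (others.getD 7 cfg0) false 1 = true := by decide +kernel

theorem run_other_7_2 : runPart (others.getD 7 cfg0) false 2 = true := by decide +kernel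

theorem run_other_7_3 : runPart (others.getD 7 cfg0) false 3 = true := by decide +kernel

theorem run_other_7_4 : runPart (others.getD 7 cfg0) false 4 = true := by decide +kernel

theorem run_other_7_5 : runPart (others.getD 7 cfg0) false 5 = true := by decide +kernel

theorem run_other_7_6 : runPart (others.getD 7 cfg0) false 6 = true := by decide +kernel

theorem run_other_7_7 : runPart (others.getD 7 cfg0) false 7 = true := by decide +kernel

theorem run_other_7 : run (others.getD 7 cfg0) false = true :=
  run_of_parts _ _ (by decide +kernel) fun i hi => by
    rcases (by omega : i = 0 ∨ i = 1 ∨ i = 2 ∨ i = 3 ∨ i = 4 ∨ i = 5 ∨ i = 6 ∨ i = 7) with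
      rfl | rfl | rfl | rfl | rfl | rfl | rfl | rfl
    exacts [run_other_7_0, run_other_7_1, run_other_7_2, run_other_7_3, run_other_7_4, run_other_7_5, run_other_7_6, run_other_7_7]

theorem run_others_two : (((others.drop 4).take 4).all fun c => run c false) = true := by
  show ([others.getD 4 cfg0, others.getD 5 cfg0, others.getD 6 cfg0, others.getD 7 cfg0].all fun c => run c false) = true
  simp only [List.all_cons, List.all_nil, run_other_4, run_other_5, run_other_6, run_other_7, Bool.and_self]

end Cfsg.Agent.Char.GTwoSpectrum.Search
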