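import Cfsg.Agent.Lib.Char.GTwoSpectrum.SearchDefs
import Cfsg.Agent.Lib.Char.GTwoSpectrum.SearchRunOne
import Cfsg.Agent.Lib.Char.GTwoSpectrum.SearchRunTwo
import Cfsg.Agent.Lib.Char.GTwoSpectrum.SearchRunThree

/-!
# The search certificates
-/

set_option autoImplicit false
set_option Elab.async false

namespace Cfsg.Agent.Char.GTwoSpectrum.Search

theorem run_cfg0_0 : runPart (cfg0) true 0 = true := by decide +kernel

theorem run_cfg0_1 : runPart (cfg0) true 1 = true := by decide +kernel

theorem run_cfg0_2 : runPart (cfg0) true 2 = true := by decide +kernel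

theorem run_cfg0_3 : runPart (cfg0) true 3 = true := by decide +kernel

theorem run_cfg0_4 : runPart (cfg0) true 4 = true := by decide +kernel

theorem run_cfg0_5 : runPart (cfg0) true 5 = true := by decide +kernel

theorem run_cfg0_6 : runPart (cfg0) true 6 = true := by decide +kernel

theorem run_cfg0_7 : runPart (cfg0) true 7 = true := by decide +kernel

theorem run_cfg0 : run (cfg0) true = true :=
  run_of_parts _ _ (by decide +kernel) fun i hi => by
    rcases (by omega : i = 0 ∨ i = 1 ∨ i = 2 ∨ i = 3 ∨ i = 4 ∨ i = 5 ∨ i = 6 ∨ i = 7) with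
      rfl | rfl | rfl | rfl | rfl | rfl | rfl | rfl
    exacts [run_cfg0_0, run_cfg0_1, run_cfg0_2, run_cfg0_3, run_cfg0_4, run_cfg0_5, run_cfg0_6, run_cfg0_7]

theorem closed_cfg :
    ((cfg0 :: others).all fun c =>
      c.K.all (fun a => c.K.all fun b => c.K.contains (code fun x => get a (get b x))) &&
      c.P.all (fun a => c.K.contains a)) = true := by decide +kernel

end Cfsg.Agent.Char.GTwoSpectrum.Search
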